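import Mathlib
import Cfsg.Agent.Chev.All
import Cfsg.Agent.Chev.Good2

/-! All seven tabulated data have the further properties. -/

set_option autoImplicit false
set_option maxRecDepth 100000

namespace Cfsg.Agent.Chev
open Cfsg.Lie

theorem conn_G2 : 0 < chevG2.rank ∧ @Conn chevG2 goodG2 :=
  chkConn_spec (g := goodG2) (dd := 256) (by decide +kernel)

@[reducible] def good2G2 : Good2 chevG2 where
  toGood := goodG2
  rank_pos := conn_G2.1
  conn := conn_G2.2
  unit := unit_of_chk (g := goodG2) (U := [(2, 10, 0), (1, 11, 0)]) (by decide +kernel)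
  perf := perf_of_chk (g := goodG2) (U := [(0, 0, 0), (0, 0, 0)]) (by decide +kernel)

theorem conn_B2 : 0 < chevB2.rank ∧ @Conn chevB2 goodB2 :=
  chkConn_spec (g := goodB2) (dd := 256) (by decide +kernel)

@[reducible] def good2B2 : Good2 chevB2 where
  toGood := goodB2
  rank_pos := conn_B2.1
  conn := conn_B2.2
  unit := unit_of_chk (g := goodB2) (U := [(1, 7, 0), (2, 7, 1)]) (by decide +kernel)
  perf := perf_of_chk (g := goodB2) (U := [(0, 0, 0), (2, 7, 1)]) (by decide +kernel)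

theorem conn_D4 : 0 < chevD4.rank ∧ @Conn chevD4 goodD4 :=
  chkConn_spec (g := goodD4) (dd := 33685760) (by decide +kernel)

@[reducible] def good2D4 : Good2 chevD4 where
  toGood := goodD4
  rank_pos := conn_D4.1
  conn := conn_D4.2
  unit := unit_of_chk (g := goodD4) (U := [(6, 22, 0), (1, 23, 0), (3, 22, 0), (2, 22, 0)]) (by decide +kernel)
  perf := perf_of_chk (g := goodD4) (U := [(0, 0, 0), (0, 0, 0), (0, 0, 0), (0, 0, 0)]) (by decide +kernel)

theorem single_D4 : @Single chevD4 goodD4 :=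
  single_of_chk (g := goodD4) (U := [(6, 22, 0), (1, 23, 0), (3, 22, 0), (2, 22, 0)]) (by decide +kernel)

theorem conn_F4 : 0 < chevF4.rank ∧ @Conn chevF4 goodF4 :=
  chkConn_spec (g := goodF4) (dd := 50462976) (by decide +kernel)

@[reducible] def good2F4 : Good2 chevF4 where
  toGood := goodF4
  rank_pos := conn_F4.1
  conn := conn_F4.2
  unit := unit_of_chk (g := goodF4) (U := [(7, 44, 0), (3, 45, 0), (2, 46, 0), (1, 47, 0)]) (by decide +kernel)
  perf := perf_of_chk (g := goodF4) (U := [(0, 0, 0), (0, 0, 0), (0, 0, 0), (0, 0, 0)]) (by decide +kernel)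

theorem single_F4 : @Single chevF4 goodF4 :=
  single_of_chk (g := goodF4) (U := [(7, 44, 0), (8, 40, 0), (2, 46, 0), (1, 47, 0)]) (by decide +kernel)

theorem conn_E6 : 0 < chevE6.rank ∧ @Conn chevE6 goodE6 :=
  chkConn_spec (g := goodE6) (dd := 4410965033728) (by decide +kernel)

@[reducible] def good2E6 : Good2 chevE6 where
  toGood := goodE6
  rank_pos := conn_E6.1
  conn := conn_E6.2
  unit := unit_of_chk (g := goodE6) (U := [(16, 66, 0), (1, 71, 0), (5, 69, 0), (2, 70, 0), (3, 69, 0), (4, 68, 0)]) (by decide +kernel)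
  perf := perf_of_chk (g := goodE6) (U := [(0, 0, 0), (0, 0, 0), (0, 0, 0), (0, 0, 0), (0, 0, 0), (0, 0, 0)]) (by decide +kernel)

theorem single_E6 : @Single chevE6 goodE6 :=
  single_of_chk (g := goodE6) (U := [(16, 66, 0), (1, 71, 0), (5, 69, 0), (2, 70, 0), (3, 69, 0), (4, 68, 0)]) (by decide +kernel)

theorem conn_E7 : 0 < chevE7.rank ∧ @Conn chevE7 goodE7 :=
  chkConn_spec (g := goodE7) (dd := 1411785848587008) (by decide +kernel)

@[reducible] def good2E7 : Good2 chevE7 where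
  toGood := goodE7
  rank_pos := conn_E7.1
  conn := conn_E7.2
  unit := unit_of_chk (g := goodE7) (U := [(1, 125, 0), (7, 122, 0), (2, 124, 0), (3, 123, 0), (4, 122, 0), (5, 121, 0), (6, 120, 0)]) (by decide +kernel)
  perf := perf_of_chk (g := goodE7) (U := [(0, 0, 0), (0, 0, 0), (0, 0, 0), (0, 0, 0), (0, 0, 0), (0, 0, 0), (0, 0, 0)]) (by decide +kernel)

theorem single_E7 : @Single chevE7 goodE7 :=
  single_of_chk (g := goodE7) (U := [(1, 125, 0), (7, 122, 0), (2, 124, 0), (3, 123, 0), (4, 122, 0), (5, 121, 0), (6, 120, 0)]) (by decide +kernel)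

theorem conn_E8 : 0 < chevE8.rank ∧ @Conn chevE8 goodE8 :=
  chkConn_spec (g := goodE8) (dd := 433757350076154624) (by decide +kernel)

@[reducible] def good2E8 : Good2 chevE8 where
  toGood := goodE8
  rank_pos := conn_E8.1
  conn := conn_E8.2
  unit := unit_of_chk (g := goodE8) (U := [(14, 233, 0), (7, 234, 0), (6, 234, 0), (5, 235, 0), (4, 236, 0), (3, 237, 0), (2, 238, 0), (1, 239, 0)]) (by decide +kernel)
  perf := perf_of_chk (g := goodE8) (U := [(0, 0, 0), (0, 0, 0), (0, 0, 0), (0, 0, 0), (0, 0, 0), (0, 0, 0), (0, 0, 0), (0, 0, 0)]) (by decide +kernel)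

theorem single_E8 : @Single chevE8 goodE8 :=
  single_of_chk (g := goodE8) (U := [(14, 233, 0), (7, 234, 0), (6, 234, 0), (5, 235, 0), (4, 236, 0), (3, 237, 0), (2, 238, 0), (1, 239, 0)]) (by decide +kernel)

theorem good2_of_mem {D : ChevalleyDatum}
    (hD : D ∈ [chevG2, chevB2, chevD4, chevF4, chevE6, chevE7, chevE8]) : Nonempty (Good2 D) := by
  simp only [List.mem_cons, List.not_mem_nil, or_false] at hD
  rcases hD with rfl | rfl | rfl | rfl | rfl | rfl | rfl
  exacts [⟨good2G2⟩, ⟨good2B2⟩, ⟨good2D4⟩, ⟨good2F4⟩, ⟨good2E6⟩, ⟨good2E7⟩, ⟨good2E8⟩]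

theorem single_of_mem {D : ChevalleyDatum}
    (hD : D ∈ [chevD4, chevF4, chevE6, chevE7, chevE8]) : ∃ g : Good2 D, @Single D g.toGood := by
  simp only [List.mem_cons, List.not_mem_nil, or_false] at hD
  rcases hD with rfl | rfl | rfl | rfl | rfl
  exacts [⟨good2D4, single_D4⟩, ⟨good2F4, single_F4⟩, ⟨good2E6, single_E6⟩, ⟨good2E7, single_E7⟩,
    ⟨good2E8, single_E8⟩]

end Cfsg.Agent.Chev
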