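import Mathlib
import Cfsg.Agent.Chev.All2
import Cfsg.Agent.Chev.GrAut

/-! Certificates for the graph automorphisms. -/

set_option autoImplicit false
set_option maxRecDepth 100000

namespace Cfsg.Agent.Chev
open Cfsg.Lie

def gPE6 : ℕ := 68860739417218020291242710380271612727031550310487325668929011394974525928005367019092266480622676483323572995251894574580543560006432062466002516407798046496184879596830976
def gPE6' : ℕ := 68860739417218020291242710380271612727031550310487325668929011394974525928005367019092266480622676483323572995251894574580543560006432062466002516407798046496184879596830976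
def gEE6 : ℕ := 173717956742448109200
theorem sym_E6 : certE6.chkSym chevE6 gPE6 gPE6' 8640528645 8640528645 = true := by decide +kernel
theorem gr_E6 : certE6.chkGr chevE6 gPE6 8640528645 gEE6 = true := by decide +kernel
theorem graut_E6 : chkAut chevE6 gPE6 gEE6 = true := by decide +kernel
theorem graut_E6' : chkAut chevE6 gPE6' 173717956742448109200 = true := by decide +kernel
/-- the diagram symmetry -/
noncomputable def symE6 : @Sym chevE6 goodE6 := mkSym (g := goodE6) sym_E6
theorem exists_grE6 (F : Type*) [Field F] : letI := good2E6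
    ∃ m : Mor (chSys chevE6 F) (chSys chevE6 F) symE6, IsGr m fun r => sgn (bit gEE6 r) 1 :=
  exists_grMor (g := good2E6) sym_E6 gr_E6 graut_E6 graut_E6'

def gPD4a : ℕ := 566071931645633254490620476267514897873298047940799365376
def gPD4a' : ℕ := 566073048227152972253855450491855147264082562003356549376
def gED4a : ℕ := 2785620
theorem sym_D4a : certD4.chkSym chevD4 gPD4a gPD4a' 196866 33554691 = true := by decide +kernel
theorem gr_D4a : certD4.chkGr chevD4 gPD4a 196866 gED4a = true := by decide +kernel
theorem graut_D4a : chkAut chevD4 gPD4a gED4a = true := by decide +kernel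
theorem graut_D4a' : chkAut chevD4 gPD4a' 1769688 = true := by decide +kernel
/-- the diagram symmetry -/
noncomputable def symD4a : @Sym chevD4 goodD4 := mkSym (g := goodD4) sym_D4a
theorem exists_grD4a (F : Type*) [Field F] : letI := good2D4
    ∃ m : Mor (chSys chevD4 F) (chSys chevD4 F) symD4a, IsGr m fun r => sgn (bit gED4a r) 1 :=
  exists_grMor (g := good2D4) sym_D4a gr_D4a graut_D4a graut_D4a'

def gPD4b : ℕ := 566073048227152972253855450491855147264082562003356549376
def gPD4b' : ℕ := 566071931645633254490620476267514897873298047940799365376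
def gED4b : ℕ := 1769688
theorem sym_D4b : certD4.chkSym chevD4 gPD4b gPD4b' 33554691 196866 = true := by decide +kernel
theorem gr_D4b : certD4.chkGr chevD4 gPD4b 33554691 gED4b = true := by decide +kernel
theorem graut_D4b : chkAut chevD4 gPD4b gED4b = true := by decide +kernel
theorem graut_D4b' : chkAut chevD4 gPD4b' 2785620 = true := by decide +kernel
/-- the diagram symmetry -/
noncomputable def symD4b : @Sym chevD4 goodD4 := mkSym (g := goodD4) sym_D4b
theorem exists_grD4b (F : Type*) [Field F] : letI := good2D4
    ∃ m : Mor (chSys chevD4 F) (chSys chevD4 F) symD4b, IsGr m fun r => sgn (bit gED4b r) 1 :=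
  exists_grMor (g := good2D4) sym_D4b gr_D4b graut_D4b graut_D4b'

def gPD4c : ℕ := 566073422377303333367409720947596762245806945156242473216
def gPD4c' : ℕ := 566073422377303333367409720947596762245806945156242473216
def gED4c : ℕ := 1769688
theorem sym_D4c : certD4.chkSym chevD4 gPD4c gPD4c' 50331906 50331906 = true := by decide +kernel
theorem gr_D4c : certD4.chkGr chevD4 gPD4c 50331906 gED4c = true := by decide +kernel
theorem graut_D4c : chkAut chevD4 gPD4c gED4c = true := by decide +kernel
theorem graut_D4c' : chkAut chevD4 gPD4c' 1769688 = true := by decide +kernel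
/-- the diagram symmetry -/
noncomputable def symD4c : @Sym chevD4 goodD4 := mkSym (g := goodD4) sym_D4c
theorem exists_grD4c (F : Type*) [Field F] : letI := good2D4
    ∃ m : Mor (chSys chevD4 F) (chSys chevD4 F) symD4c, IsGr m fun r => sgn (bit gED4c r) 1 :=
  exists_grMor (g := good2D4) sym_D4c gr_D4c graut_D4c graut_D4c'

def gPD4d : ℕ := 566071930178400413096263506880048890373996980695145513216
def gPD4d' : ℕ := 566071930178400413096263506880048890373996980695145513216
def gED4d : ℕ := 2785620
theorem sym_D4d : certD4.chkSym chevD4 gPD4d gPD4d' 131331 131331 = true := by decide +kernel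
theorem gr_D4d : certD4.chkGr chevD4 gPD4d 131331 gED4d = true := by decide +kernel
theorem graut_D4d : chkAut chevD4 gPD4d gED4d = true := by decide +kernel
theorem graut_D4d' : chkAut chevD4 gPD4d' 2785620 = true := by decide +kernel
/-- the diagram symmetry -/
noncomputable def symD4d : @Sym chevD4 goodD4 := mkSym (g := goodD4) sym_D4d
theorem exists_grD4d (F : Type*) [Field F] : letI := good2D4
    ∃ m : Mor (chSys chevD4 F) (chSys chevD4 F) symD4d, IsGr m fun r => sgn (bit gED4d r) 1 :=
  exists_grMor (g := good2D4) sym_D4d gr_D4d graut_D4d graut_D4d'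

def gPD4e : ℕ := 566073054096128939321680348723185459246130506873807503616
def gPD4e' : ℕ := 566073054096128939321680348723185459246130506873807503616
def gED4e : ℕ := 0
theorem sym_D4e : certD4.chkSym chevD4 gPD4e gPD4e' 33751296 33751296 = true := by decide +kernel
theorem gr_D4e : certD4.chkGr chevD4 gPD4e 33751296 gED4e = true := by decide +kernel
theorem graut_D4e : chkAut chevD4 gPD4e gED4e = true := by decide +kernel
theorem graut_D4e' : chkAut chevD4 gPD4e' 0 = true := by decide +kernel
/-- the diagram symmetry -/
noncomputable def symD4e : @Sym chevD4 goodD4 := mkSym (g := goodD4) sym_D4e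
theorem exists_grD4e (F : Type*) [Field F] : letI := good2D4
    ∃ m : Mor (chSys chevD4 F) (chSys chevD4 F) symD4e, IsGr m fun r => sgn (bit gED4e r) 1 :=
  exists_grMor (g := good2D4) sym_D4e gr_D4e graut_D4e graut_D4e'

def gPB2 : ℕ := 434320308619640833
def gLB2 : ℕ := 72622747326480897
theorem sym_B2 : certB2.chkSym chevB2 gPB2 gPB2 1 1 = true := by decide +kernel
theorem exc_B2 : allN chevB2.nroots (chkExcRow chevB2 2 gPB2 gLB2) = true := by decide +kernel
/-- the diagram symmetry -/
noncomputable def symB2 : @Sym chevB2 goodB2 := mkSym (g := goodB2) sym_B2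
theorem exists_excB2 (F : Type*) [Field F] [CharP F 2] (hp : ∀ x : F, ∃ y, y ^ 2 = x) :
    letI := good2B2
    ∃ m : Mor (chSys chevB2 F) (chSys chevB2 F) symB2, (∀ r t, m.φ r t = t ^ byte gLB2 r) ∧
      ∀ r, Function.Surjective (m.φ r) :=
  exists_excMor (g := good2B2) sym_B2 ((allN_iff _ _).mp exc_B2) hp

def gPG2 : ℕ := 2795088625882095263716213506
def gLG2 : ℕ := 310708158297095897501335809
theorem sym_G2 : certG2.chkSym chevG2 gPG2 gPG2 1 1 = true := by decide +kernel
theorem exc_G2 : allN chevG2.nroots (chkExcRow chevG2 3 gPG2 gLG2) = true := by decide +kernel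
/-- the diagram symmetry -/
noncomputable def symG2 : @Sym chevG2 goodG2 := mkSym (g := goodG2) sym_G2
theorem exists_excG2 (F : Type*) [Field F] [CharP F 3] (hp : ∀ x : F, ∃ y, y ^ 3 = x) :
    letI := good2G2
    ∃ m : Mor (chSys chevG2 F) (chSys chevG2 F) symG2, (∀ r t, m.φ r t = t ^ byte gLG2 r) ∧
      ∀ r, Function.Surjective (m.φ r) :=
  exists_excMor (g := good2G2) sym_G2 ((allN_iff _ _).mp exc_G2) hp

def gPF4 : ℕ := 6796360916758193337607415566721544131100570570262345016785195026760536830975746875245730069492568523473012937721603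
def gLF4 : ℕ := 154517680532404188505743777015427090496828245429259178021748573349608979858474036017890705227944155676922886553857
theorem sym_F4 : certF4.chkSym chevF4 gPF4 gPF4 66051 66051 = true := by decide +kernel
theorem exc_F4 : allN chevF4.nroots (chkExcRow chevF4 2 gPF4 gLF4) = true := by decide +kernel
/-- the diagram symmetry -/
noncomputable def symF4 : @Sym chevF4 goodF4 := mkSym (g := goodF4) sym_F4
theorem exists_excF4 (F : Type*) [Field F] [CharP F 2] (hp : ∀ x : F, ∃ y, y ^ 2 = x) :
    letI := good2F4
    ∃ m : Mor (chSys chevF4 F) (chSys chevF4 F) symF4, (∀ r t, m.φ r t = t ^ byte gLF4 r) ∧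
      ∀ r, Function.Surjective (m.φ r) :=
  exists_excMor (g := good2F4) sym_F4 ((allN_iff _ _).mp exc_F4) hp

end Cfsg.Agent.Chev
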