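import Mathlib
import Cfsg.Agent.Chev.All2
import Cfsg.Agent.Chev.Tor

/-! Smith normal forms of the Cartan matrices. -/

set_option autoImplicit false
set_option maxRecDepth 100000

namespace Cfsg.Agent.Chev
open Cfsg.Lie

theorem smith_G2 : certG2.chkSmith chevG2 [[0, -1], [1, 2]]
    [[2, 1], [-1, 0]]
    [[1, -2], [0, 1]]
    [[1, 2], [0, 1]] [1, 1] = true := by decide +kernel

theorem card_ker_G2 (M : Type*) [CommGroup M] [IsCyclic M] [Finite M] :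
    Nat.card (pw M (@cartanM chevG2 good2G2)).ker = 1 := by
  rw [card_ker_cartan (g := good2G2) smith_G2, show chevG2.rank = 2 from rfl]
  simp [List.range_succ, Nat.gcd_comm, sq]

theorem ker_G2 (M : Type*) [CommGroup M] : (pw M (@cartanM chevG2 good2G2)).ker = ⊥ := by
  rw [← Subgroup.card_eq_one, card_ker_cartan_eq (g := good2G2) smith_G2]
  refine Finset.prod_eq_one fun i _ => ?_
  have : ([1, 1] : List ℕ).getD i 1 = 1 := by revert i; decide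
  rw [this, Subgroup.card_eq_one, MonoidHom.ker_eq_bot_iff]
  exact fun a b h => by simpa using h

theorem smith_B2 : certB2.chkSmith chevB2 [[0, -1], [1, 2]]
    [[2, 1], [-1, 0]]
    [[1, -2], [0, 1]]
    [[1, 2], [0, 1]] [1, 2] = true := by decide +kernel

theorem card_ker_B2 (M : Type*) [CommGroup M] [IsCyclic M] [Finite M] :
    Nat.card (pw M (@cartanM chevB2 good2B2)).ker = Nat.gcd 2 (Nat.card M) := by
  rw [card_ker_cartan (g := good2B2) smith_B2, show chevB2.rank = 2 from rfl]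
  simp [List.range_succ, Nat.gcd_comm, sq]

theorem smith_D4 : certD4.chkSmith chevD4 [[-1, 0, 0, 0], [-2, -1, 0, 0], [-3, -2, -1, 0], [2, 2, 1, 1]]
    [[-1, 0, 0, 0], [2, -1, 0, 0], [-1, 2, -1, 0], [-1, 0, 1, 1]]
    [[-2, 1, 0, 0], [-3, 0, 1, 1], [-2, 0, 0, 1], [1, 0, 0, 0]]
    [[0, 0, 0, 1], [1, 0, 0, 2], [0, 1, -1, 1], [0, 0, 1, 2]] [1, 1, 2, 2] = true := by decide +kernel

theorem card_ker_D4 (M : Type*) [CommGroup M] [IsCyclic M] [Finite M] :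
    Nat.card (pw M (@cartanM chevD4 good2D4)).ker = Nat.gcd 2 (Nat.card M) ^ 2 := by
  rw [card_ker_cartan (g := good2D4) smith_D4, show chevD4.rank = 4 from rfl]
  simp [List.range_succ, Nat.gcd_comm, sq]

theorem smith_F4 : certF4.chkSmith chevF4 [[-1, 0, 0, 0], [1, 0, -1, 0], [-2, -1, 0, 0], [-2, -2, -2, -1]]
    [[-1, 0, 0, 0], [2, 0, -1, 0], [-1, -1, 0, 0], [0, 2, 2, -1]]
    [[-2, 1, 0, 0], [2, 0, -2, 1], [-3, 0, 2, 0], [-2, 0, 1, 0]]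
    [[0, 0, 1, -2], [1, 0, 2, -4], [0, 0, 2, -3], [0, 1, 2, -2]] [1, 1, 1, 1] = true := by decide +kernel

theorem card_ker_F4 (M : Type*) [CommGroup M] [IsCyclic M] [Finite M] :
    Nat.card (pw M (@cartanM chevF4 good2F4)).ker = 1 := by
  rw [card_ker_cartan (g := good2F4) smith_F4, show chevF4.rank = 4 from rfl]
  simp [List.range_succ, Nat.gcd_comm, sq]

theorem ker_F4 (M : Type*) [CommGroup M] : (pw M (@cartanM chevF4 good2F4)).ker = ⊥ := by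
  rw [← Subgroup.card_eq_one, card_ker_cartan_eq (g := good2F4) smith_F4]
  refine Finset.prod_eq_one fun i _ => ?_
  have : ([1, 1, 1, 1] : List ℕ).getD i 1 = 1 := by revert i; decide
  rw [this, Subgroup.card_eq_one, MonoidHom.ker_eq_bot_iff]
  exact fun a b h => by simpa using h

theorem smith_E6 : certE6.chkSmith chevE6 [[-1, 0, 0, 0, 0, 0], [0, -1, 0, 0, 0, 0], [1, -2, 0, -1, 0, 0], [2, -3, 0, -2, -1, 0], [-2, 1, -1, 0, 0, 0], [-5, 0, -4, -3, -2, -1]]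
    [[-1, 0, 0, 0, 0, 0], [0, -1, 0, 0, 0, 0], [2, -1, 0, 0, -1, 0], [-1, 2, -1, 0, 0, 0], [0, -1, 2, -1, 0, 0], [0, 0, -1, 2, 4, -1]]
    [[-2, 0, 1, 0, 0, 0], [0, -2, 0, 1, 0, 0], [2, -3, 0, 0, 1, 0], [4, -4, 0, 0, 0, 1], [-3, 2, 0, 0, 0, 0], [-2, 1, 0, 0, 0, 0]]
    [[0, 0, 0, 0, 1, -2], [0, 0, 0, 0, 2, -3], [1, 0, 0, 0, 2, -4], [0, 1, 0, 0, 4, -6], [0, 0, 1, 0, 4, -5], [0, 0, 0, 1, 4, -4]] [1, 1, 1, 1, 1, 3] = true := by decide +kernel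

theorem card_ker_E6 (M : Type*) [CommGroup M] [IsCyclic M] [Finite M] :
    Nat.card (pw M (@cartanM chevE6 good2E6)).ker = Nat.gcd 3 (Nat.card M) := by
  rw [card_ker_cartan (g := good2E6) smith_E6, show chevE6.rank = 6 from rfl]
  simp [List.range_succ, Nat.gcd_comm, sq]

theorem smith_E7 : certE7.chkSmith chevE7 [[-1, 0, 0, 0, 0, 0, 0], [0, -1, 0, 0, 0, 0, 0], [1, -2, 0, -1, 0, 0, 0], [2, -3, 0, -2, -1, 0, 0], [3, -4, 0, -3, -2, -1, 0], [-2, 1, -1, 0, 0, 0, 0], [-4, -1, -4, -4, -3, -2, -1]]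
    [[-1, 0, 0, 0, 0, 0, 0], [0, -1, 0, 0, 0, 0, 0], [2, -1, 0, 0, 0, -1, 0], [-1, 2, -1, 0, 0, 0, 0], [0, -1, 2, -1, 0, 0, 0], [0, 0, -1, 2, -1, 0, 0], [0, 0, 0, -1, 2, 4, -1]]
    [[-2, 0, 1, 0, 0, 0, 0], [0, -2, 0, 1, 0, 0, 0], [2, -3, 0, 0, 1, 0, 0], [4, -4, 0, 0, 0, 1, 0], [6, -5, 0, 0, 0, 0, 1], [-3, 2, 0, 0, 0, 0, 0], [-2, 1, 0, 0, 0, 0, 0]]
    [[0, 0, 0, 0, 0, 1, -2], [0, 0, 0, 0, 0, 2, -3], [1, 0, 0, 0, 0, 2, -4], [0, 1, 0, 0, 0, 4, -6], [0, 0, 1, 0, 0, 4, -5], [0, 0, 0, 1, 0, 4, -4], [0, 0, 0, 0, 1, 4, -3]] [1, 1, 1, 1, 1, 1, 2] = true := by decide +kernel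

theorem card_ker_E7 (M : Type*) [CommGroup M] [IsCyclic M] [Finite M] :
    Nat.card (pw M (@cartanM chevE7 good2E7)).ker = Nat.gcd 2 (Nat.card M) := by
  rw [card_ker_cartan (g := good2E7) smith_E7, show chevE7.rank = 7 from rfl]
  simp [List.range_succ, Nat.gcd_comm, sq]

theorem smith_E8 : certE8.chkSmith chevE8 [[-1, 0, 0, 0, 0, 0, 0, 0], [0, -1, 0, 0, 0, 0, 0, 0], [1, -2, 0, -1, 0, 0, 0, 0], [2, -3, 0, -2, -1, 0, 0, 0], [3, -4, 0, -3, -2, -1, 0, 0], [4, -5, 0, -4, -3, -2, -1, 0], [-2, 1, -1, 0, 0, 0, 0, 0], [-3, -2, -4, -5, -4, -3, -2, -1]]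
    [[-1, 0, 0, 0, 0, 0, 0, 0], [0, -1, 0, 0, 0, 0, 0, 0], [2, -1, 0, 0, 0, 0, -1, 0], [-1, 2, -1, 0, 0, 0, 0, 0], [0, -1, 2, -1, 0, 0, 0, 0], [0, 0, -1, 2, -1, 0, 0, 0], [0, 0, 0, -1, 2, -1, 0, 0], [0, 0, 0, 0, -1, 2, 4, -1]]
    [[-2, 0, 1, 0, 0, 0, 0, 0], [0, -2, 0, 1, 0, 0, 0, 0], [2, -3, 0, 0, 1, 0, 0, 0], [4, -4, 0, 0, 0, 1, 0, 0], [6, -5, 0, 0, 0, 0, 1, 0], [8, -6, 0, 0, 0, 0, 0, 1], [-3, 2, 0, 0, 0, 0, 0, 0], [-2, 1, 0, 0, 0, 0, 0, 0]]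
    [[0, 0, 0, 0, 0, 0, 1, -2], [0, 0, 0, 0, 0, 0, 2, -3], [1, 0, 0, 0, 0, 0, 2, -4], [0, 1, 0, 0, 0, 0, 4, -6], [0, 0, 1, 0, 0, 0, 4, -5], [0, 0, 0, 1, 0, 0, 4, -4], [0, 0, 0, 0, 1, 0, 4, -3], [0, 0, 0, 0, 0, 1, 4, -2]] [1, 1, 1, 1, 1, 1, 1, 1] = true := by decide +kernel

theorem card_ker_E8 (M : Type*) [CommGroup M] [IsCyclic M] [Finite M] :
    Nat.card (pw M (@cartanM chevE8 good2E8)).ker = 1 := by
  rw [card_ker_cartan (g := good2E8) smith_E8, show chevE8.rank = 8 from rfl]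
  simp [List.range_succ, Nat.gcd_comm, sq]

theorem ker_E8 (M : Type*) [CommGroup M] : (pw M (@cartanM chevE8 good2E8)).ker = ⊥ := by
  rw [← Subgroup.card_eq_one, card_ker_cartan_eq (g := good2E8) smith_E8]
  refine Finset.prod_eq_one fun i _ => ?_
  have : ([1, 1, 1, 1, 1, 1, 1, 1] : List ℕ).getD i 1 = 1 := by revert i; decide
  rw [this, Subgroup.card_eq_one, MonoidHom.ker_eq_bot_iff]
  exact fun a b h => by simpa using h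

end Cfsg.Agent.Chev
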