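import Mathlib
import Cfsg.Agent.Chev.Tw2
import Cfsg.Agent.Chev.GrCert

set_option autoImplicit false
set_option maxRecDepth 100000

namespace Cfsg.Agent.Chev
open Cfsg.Lie Cfsg.Agent.BN

section
attribute [local instance] good2E6

/-- the orbits of the diagram symmetry -/
noncomputable def orbE6 : Orb symE6 (Fin 4) where
  o i := Fin.ofNat 4 ([3, 0, 2, 1, 2, 3].getD i 0)
  surj := by decide +kernel
  stab := by decide +kernel
  orb := by decide +kernel
/-- the longest elements of the orbits -/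
def fdE6 : List (ℕ × List ℕ × ℕ) := [(2, [1], 1), (8, [3], 1), (20, [2, 4], 2), (33, [0, 5], 2)]
theorem fdchk_E6 : lall fdE6 (certE6.chkFD chevE6) = true := by decide +kernel
theorem orbo_E6 : ∀ (a : Fin 4) (i : Ix chevE6), orbE6.o i = a ↔ bit (fdE6.getD a (0, [], 0)).1 i = 1 := by decide +kernel
theorem desc_E6 : orbE6.fold.Desc fdE6 := orbE6.desc rfl fdchk_E6 orbo_E6
theorem ln_orbE6 (a : Fin 4) : ln (w0 (orbE6.J a)) = (fdE6.getD a (0, [], 0)).2.2 := orbE6.ln_eq rfl fdchk_E6 orbo_E6 a
theorem phi0_E6 (r : Rt chevE6) : (Pos r ∧ PhiK (orbE6.J 0) r) ↔ (r : ℕ) ∈ [46] := by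
  rw [orbE6.J_eq orbo_E6]; exact posPhi_iff (by decide +kernel) r
theorem phi1_E6 (r : Rt chevE6) : (Pos r ∧ PhiK (orbE6.J 1) r) ↔ (r : ℕ) ∈ [39] := by
  rw [orbE6.J_eq orbo_E6]; exact posPhi_iff (by decide +kernel) r
theorem phi2_E6 (r : Rt chevE6) : (Pos r ∧ PhiK (orbE6.J 2) r) ↔ (r : ℕ) ∈ [37, 42] := by
  rw [orbE6.J_eq orbo_E6]; exact posPhi_iff (by decide +kernel) r
theorem phi3_E6 (r : Rt chevE6) : (Pos r ∧ PhiK (orbE6.J 3) r) ↔ (r : ℕ) ∈ [36, 56] := by
  rw [orbE6.J_eq orbo_E6]; exact posPhi_iff (by decide +kernel) r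
theorem step0_twE6 : certE6.chkStep chevE6 fdE6 63 61 71 3818188546125873590053534879547487881862450132123485001195071571874735529936981463146618267248159874039727060220622019213299292372854122692343611282542698644605819360277 = true := by decide +kernel
theorem dep0_twE6 : depths chevE6.nroots 3818188546125873590053534879547487881862450132123485001195071571874735529936981463146618267248159874039727060220622019213299292372854122692343611282542698644605819360277 = [21, 20, 19, 17, 16, 15, 15, 14, 12, 11, 13, 11, 10, 8, 10, 9, 7, 6, 6, 5, 4, 2, 1, 0] := by decide +kernel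
theorem sum0_twE6 (t : ℤ) : (([21, 20, 19, 17, 16, 15, 15, 14, 12, 11, 13, 11, 10, 8, 10, 9, 7, 6, 6, 5, 4, 2, 1, 0] : List ℕ).map (t ^ ·)).sum = t ^ 0 + t ^ 1 + t ^ 2 + t ^ 4 + t ^ 5 + 2 * t ^ 6 + t ^ 7 + t ^ 8 + t ^ 9 + 2 * t ^ 10 + 2 * t ^ 11 + t ^ 12 + t ^ 13 + t ^ 14 + 2 * t ^ 15 + t ^ 16 + t ^ 17 + t ^ 19 + t ^ 20 + t ^ 21 := by
  simp only [List.map_cons, List.map_nil, List.sum_cons, List.sum_nil]; ring
theorem step1_twE6 : certE6.chkStep chevE6 fdE6 61 28 60 247330401473104534060502520223601309704553330098904546316805648124683678127580177062942100030891243340223488431945691642054345048061600763522265945872202958303910240314195967 = true := by decide +kernel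
theorem dep1_twE6 : depths chevE6.nroots 247330401473104534060502520223601309704553330098904546316805648124683678127580177062942100030891243340223488431945691642054345048061600763522265945872202958303910240314195967 = [9, 7, 5, 4, 2, 0] := by decide +kernel
theorem sum1_twE6 (t : ℤ) : (([9, 7, 5, 4, 2, 0] : List ℕ).map (t ^ ·)).sum = t ^ 0 + t ^ 2 + t ^ 4 + t ^ 5 + t ^ 7 + t ^ 9 := by
  simp only [List.map_cons, List.map_nil, List.sum_cons, List.sum_nil]; ring
theorem step2_twE6 : certE6.chkStep chevE6 fdE6 28 20 8 247330401473104534060502521019647190035131349101211839914063056092897225106531867170316401061243044989597671426016139339351365034306751209967546155101888463925373332111951103 = true := by decide +kernel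
theorem dep2_twE6 : depths chevE6.nroots 247330401473104534060502521019647190035131349101211839914063056092897225106531867170316401061243044989597671426016139339351365034306751209967546155101888463925373332111951103 = [4, 3, 1, 0] := by decide +kernel
theorem sum2_twE6 (t : ℤ) : (([4, 3, 1, 0] : List ℕ).map (t ^ ·)).sum = t ^ 0 + t ^ 1 + t ^ 3 + t ^ 4 := by
  simp only [List.map_cons, List.map_nil, List.sum_cons, List.sum_nil]; ring
theorem step3_twE6 : certE6.chkStep chevE6 fdE6 20 0 6 247330401473104534060502521019647190035131349101211839914063056092897225106531867170316401061243044989597671426016139339351365034306751209967546155101893167844830653070901247 = true := by decide +kernel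
theorem dep3_twE6 : depths chevE6.nroots 247330401473104534060502521019647190035131349101211839914063056092897225106531867170316401061243044989597671426016139339351365034306751209967546155101893167844830653070901247 = [2, 0] := by decide +kernel
theorem sum3_twE6 (t : ℤ) : (([2, 0] : List ℕ).map (t ^ ·)).sum = t ^ 0 + t ^ 2 := by
  simp only [List.map_cons, List.map_nil, List.sum_cons, List.sum_nil]; ring

theorem poin_twE6 (t : ℤ) : orbE6.fold.P Set.univ t = (t ^ 0 + t ^ 1 + t ^ 2 + t ^ 4 + t ^ 5 + 2 * t ^ 6 + t ^ 7 + t ^ 8 + t ^ 9 + 2 * t ^ 10 + 2 * t ^ 11 + t ^ 12 + t ^ 13 + t ^ 14 + 2 * t ^ 15 + t ^ 16 + t ^ 17 + t ^ 19 + t ^ 20 + t ^ 21) * (t ^ 0 + t ^ 2 + t ^ 4 + t ^ 5 + t ^ 7 + t ^ 9) * (t ^ 0 + t ^ 1 + t ^ 3 + t ^ 4) * (t ^ 0 + t ^ 2) := by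
  rw [← MS_eq_univ (m := 63) (by decide +kernel),
    desc_E6.step step0_twE6, dep0_twE6, sum0_twE6,
    desc_E6.step step1_twE6, dep1_twE6, sum1_twE6,
    desc_E6.step step2_twE6, dep2_twE6, sum2_twE6,
    desc_E6.step step3_twE6, dep3_twE6, sum3_twE6,
    MS_zero, Fold.P_empty]
  ring
theorem cox_twE6 (a b : Fin 4) : CoxeterMatrix.F₄ a b = orderOf (w0 (orbE6.J a) * w0 (orbE6.J b)) :=
  (orbE6.orderOf_eq rfl fdchk_E6 orbo_E6 (by revert a b; decide +kernel)).symm

end

section
attribute [local instance] good2D4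

/-- the orbits of the diagram symmetry -/
noncomputable def orbD4 : Orb symD4a (Fin 2) where
  o i := Fin.ofNat 2 ([0, 1, 0, 0].getD i 0)
  surj := by decide +kernel
  stab := by decide +kernel
  orb := by decide +kernel
/-- the longest elements of the orbits -/
def fdD4 : List (ℕ × List ℕ × ℕ) := [(13, [0, 2, 3], 3), (2, [1], 1)]
theorem fdchk_D4 : lall fdD4 (certD4.chkFD chevD4) = true := by decide +kernel
theorem orbo_D4 : ∀ (a : Fin 2) (i : Ix chevD4), orbD4.o i = a ↔ bit (fdD4.getD a (0, [], 0)).1 i = 1 := by decide +kernel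
theorem desc_D4 : orbD4.fold.Desc fdD4 := orbD4.desc rfl fdchk_D4 orbo_D4
theorem ln_orbD4 (a : Fin 2) : ln (w0 (orbD4.J a)) = (fdD4.getD a (0, [], 0)).2.2 := orbD4.ln_eq rfl fdchk_D4 orbo_D4 a
theorem phi0_D4 (r : Rt chevD4) : (Pos r ∧ PhiK (orbD4.J 0) r) ↔ (r : ℕ) ∈ [12, 13, 18] := by
  rw [orbD4.J_eq orbo_D4]; exact posPhi_iff (by decide +kernel) r
theorem phi1_D4 (r : Rt chevD4) : (Pos r ∧ PhiK (orbD4.J 1) r) ↔ (r : ℕ) ∈ [14] := by
  rw [orbD4.J_eq orbo_D4]; exact posPhi_iff (by decide +kernel) r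
theorem step0_twD4 : certD4.chkStep chevD4 fdD4 15 13 23 191561942608236105991526866900366321570470400335218697 = true := by decide +kernel
theorem dep0_twD4 : depths chevD4.nroots 191561942608236105991526866900366321570470400335218697 = [9, 8, 5, 4, 1, 0] := by decide +kernel
theorem sum0_twD4 (t : ℤ) : (([9, 8, 5, 4, 1, 0] : List ℕ).map (t ^ ·)).sum = t ^ 0 + t ^ 1 + t ^ 4 + t ^ 5 + t ^ 8 + t ^ 9 := by
  simp only [List.map_cons, List.map_nil, List.sum_cons, List.sum_nil]; ring
theorem step1_twD4 : certD4.chkStep chevD4 fdD4 13 0 9 6277101735386680763835789423207665211898902312704504955903 = true := by decide +kernel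
theorem dep1_twD4 : depths chevD4.nroots 6277101735386680763835789423207665211898902312704504955903 = [3, 0] := by decide +kernel
theorem sum1_twD4 (t : ℤ) : (([3, 0] : List ℕ).map (t ^ ·)).sum = t ^ 0 + t ^ 3 := by
  simp only [List.map_cons, List.map_nil, List.sum_cons, List.sum_nil]; ring

theorem poin_twD4 (t : ℤ) : orbD4.fold.P Set.univ t = (t ^ 0 + t ^ 1 + t ^ 4 + t ^ 5 + t ^ 8 + t ^ 9) * (t ^ 0 + t ^ 3) := by
  rw [← MS_eq_univ (m := 15) (by decide +kernel),
    desc_D4.step step0_twD4, dep0_twD4, sum0_twD4,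
    desc_D4.step step1_twD4, dep1_twD4, sum1_twD4,
    MS_zero, Fold.P_empty]
  ring
theorem cox_twD4 (a b : Fin 2) : CoxeterMatrix.G₂ a b = orderOf (w0 (orbD4.J a) * w0 (orbD4.J b)) :=
  (orbD4.orderOf_eq rfl fdchk_D4 orbo_D4 (by revert a b; decide +kernel)).symm

end

section
attribute [local instance] good2F4

/-- the orbits of the diagram symmetry -/
noncomputable def orbF4 : Orb symF4 (Fin 2) where
  o i := Fin.ofNat 2 ([0, 1, 1, 0].getD i 0)
  surj := by decide +kernel
  stab := by decide +kernel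
  orb := by decide +kernel
/-- the longest elements of the orbits -/
def fdF4 : List (ℕ × List ℕ × ℕ) := [(9, [0, 3], 2), (6, [1, 2, 1, 2], 4)]
theorem fdchk_F4 : lall fdF4 (certF4.chkFD chevF4) = true := by decide +kernel
theorem orbo_F4 : ∀ (a : Fin 2) (i : Ix chevF4), orbF4.o i = a ↔ bit (fdF4.getD a (0, [], 0)).1 i = 1 := by decide +kernel
theorem desc_F4 : orbF4.fold.Desc fdF4 := orbF4.desc rfl fdchk_F4 orbo_F4
theorem ln_orbF4 (a : Fin 2) : ln (w0 (orbF4.J a)) = (fdF4.getD a (0, [], 0)).2.2 := orbF4.ln_eq rfl fdchk_F4 orbo_F4 a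
theorem phi0_F4 (r : Rt chevF4) : (Pos r ∧ PhiK (orbF4.J 0) r) ↔ (r : ℕ) ∈ [24, 33] := by
  rw [orbF4.J_eq orbo_F4]; exact posPhi_iff (by decide +kernel) r
theorem phi1_F4 (r : Rt chevF4) : (Pos r ∧ PhiK (orbF4.J 1) r) ↔ (r : ℕ) ∈ [25, 27, 28, 30] := by
  rw [orbF4.J_eq orbo_F4]; exact posPhi_iff (by decide +kernel) r
theorem step0_twF4 : certF4.chkStep chevF4 fdF4 15 6 44 39402003857025890362001378045282563884973694093723186106472705821374233240443609610069803242350007222631699836829695 = true := by decide +kernel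
theorem dep0_twF4 : depths chevF4.nroots 39402003857025890362001378045282563884973694093723186106472705821374233240443609610069803242350007222631699836829695 = [20, 18, 14, 12, 8, 6, 2, 0] := by decide +kernel
theorem sum0_twF4 (t : ℤ) : (([20, 18, 14, 12, 8, 6, 2, 0] : List ℕ).map (t ^ ·)).sum = t ^ 0 + t ^ 2 + t ^ 6 + t ^ 8 + t ^ 12 + t ^ 14 + t ^ 18 + t ^ 20 := by
  simp only [List.map_cons, List.map_nil, List.sum_cons, List.sum_nil]; ring
theorem step1_twF4 : certF4.chkStep chevF4 fdF4 6 0 5 39402006196394479212279040100143613805079739270465446667948293404245721771497210611414266254884915640526252525159679 = true := by decide +kernel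
theorem dep1_twF4 : depths chevF4.nroots 39402006196394479212279040100143613805079739270465446667948293404245721771497210611414266254884915640526252525159679 = [4, 0] := by decide +kernel
theorem sum1_twF4 (t : ℤ) : (([4, 0] : List ℕ).map (t ^ ·)).sum = t ^ 0 + t ^ 4 := by
  simp only [List.map_cons, List.map_nil, List.sum_cons, List.sum_nil]; ring

theorem poin_twF4 (t : ℤ) : orbF4.fold.P Set.univ t = (t ^ 0 + t ^ 2 + t ^ 6 + t ^ 8 + t ^ 12 + t ^ 14 + t ^ 18 + t ^ 20) * (t ^ 0 + t ^ 4) := by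
  rw [← MS_eq_univ (m := 15) (by decide +kernel),
    desc_F4.step step0_twF4, dep0_twF4, sum0_twF4,
    desc_F4.step step1_twF4, dep1_twF4, sum1_twF4,
    MS_zero, Fold.P_empty]
  ring
theorem cox_twF4 : orderOf (w0 (orbF4.J 0) * w0 (orbF4.J 1)) = 8 :=
  orbF4.orderOf_eq rfl fdchk_F4 orbo_F4 (by decide +kernel)
theorem w0_F4 (r : Rt chevF4) : w0 (Set.univ : Set (Ix chevF4)) • r = ng r := by
  rw [← MS_eq_univ (m := 15) (by decide +kernel)]
  refine Fin.ext (((chkFD_spec (e := (15, [0, 1, 0, 2, 1, 0, 2, 1, 2, 3, 2, 1, 0, 2, 1, 2, 3, 2, 1, 0, 2, 1, 2, 3], 24)) (by decide +kernel)).1 r).trans ?_)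
  revert r; decide +kernel

end

section
attribute [local instance] good2G2

/-- the orbits of the diagram symmetry -/
noncomputable def orbG2 : Orb symG2 (Fin 1) where
  o i := Fin.ofNat 1 ([0, 0].getD i 0)
  surj := by decide +kernel
  stab := by decide +kernel
  orb := by decide +kernel
/-- the longest elements of the orbits -/
def fdG2 : List (ℕ × List ℕ × ℕ) := [(3, [0, 1, 0, 1, 0, 1], 6)]
theorem fdchk_G2 : lall fdG2 (certG2.chkFD chevG2) = true := by decide +kernel
theorem orbo_G2 : ∀ (a : Fin 1) (i : Ix chevG2), orbG2.o i = a ↔ bit (fdG2.getD a (0, [], 0)).1 i = 1 := by decide +kernel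
theorem desc_G2 : orbG2.fold.Desc fdG2 := orbG2.desc rfl fdchk_G2 orbo_G2
theorem ln_orbG2 (a : Fin 1) : ln (w0 (orbG2.J a)) = (fdG2.getD a (0, [], 0)).2.2 := orbG2.ln_eq rfl fdchk_G2 orbo_G2 a
theorem phi0_G2 (r : Rt chevG2) : (Pos r ∧ PhiK (orbG2.J 0) r) ↔ (r : ℕ) ∈ [6, 7, 8, 9, 10, 11] := by
  rw [orbG2.J_eq orbo_G2]; exact posPhi_iff (by decide +kernel) r
theorem step0_twG2 : certG2.chkStep chevG2 fdG2 3 0 9 79226958310811205833998139391 = true := by decide +kernel
theorem dep0_twG2 : depths chevG2.nroots 79226958310811205833998139391 = [6, 0] := by decide +kernel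
theorem sum0_twG2 (t : ℤ) : (([6, 0] : List ℕ).map (t ^ ·)).sum = t ^ 0 + t ^ 6 := by
  simp only [List.map_cons, List.map_nil, List.sum_cons, List.sum_nil]; ring

theorem poin_twG2 (t : ℤ) : orbG2.fold.P Set.univ t = (t ^ 0 + t ^ 6) := by
  rw [← MS_eq_univ (m := 3) (by decide +kernel),
    desc_G2.step step0_twG2, dep0_twG2, sum0_twG2,
    MS_zero, Fold.P_empty]
  ring
theorem w0_G2 (r : Rt chevG2) : w0 (Set.univ : Set (Ix chevG2)) • r = ng r := by
  rw [← MS_eq_univ (m := 3) (by decide +kernel)]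
  refine Fin.ext (((chkFD_spec (e := (3, [0, 1, 0, 1, 0, 1], 6)) (by decide +kernel)).1 r).trans ?_)
  revert r; decide +kernel

end

section
attribute [local instance] good2B2

/-- the orbits of the diagram symmetry -/
noncomputable def orbB2 : Orb symB2 (Fin 1) where
  o i := Fin.ofNat 1 ([0, 0].getD i 0)
  surj := by decide +kernel
  stab := by decide +kernel
  orb := by decide +kernel
/-- the longest elements of the orbits -/
def fdB2 : List (ℕ × List ℕ × ℕ) := [(3, [0, 1, 0, 1], 4)]
theorem fdchk_B2 : lall fdB2 (certB2.chkFD chevB2) = true := by decide +kernel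
theorem orbo_B2 : ∀ (a : Fin 1) (i : Ix chevB2), orbB2.o i = a ↔ bit (fdB2.getD a (0, [], 0)).1 i = 1 := by decide +kernel
theorem desc_B2 : orbB2.fold.Desc fdB2 := orbB2.desc rfl fdchk_B2 orbo_B2
theorem ln_orbB2 (a : Fin 1) : ln (w0 (orbB2.J a)) = (fdB2.getD a (0, [], 0)).2.2 := orbB2.ln_eq rfl fdchk_B2 orbo_B2 a
theorem phi0_B2 (r : Rt chevB2) : (Pos r ∧ PhiK (orbB2.J 0) r) ↔ (r : ℕ) ∈ [4, 5, 6, 7] := by
  rw [orbB2.J_eq orbo_B2]; exact posPhi_iff (by decide +kernel) r
theorem step0_twB2 : certB2.chkStep chevB2 fdB2 3 0 6 18374967954648270079 = true := by decide +kernel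
theorem dep0_twB2 : depths chevB2.nroots 18374967954648270079 = [4, 0] := by decide +kernel
theorem sum0_twB2 (t : ℤ) : (([4, 0] : List ℕ).map (t ^ ·)).sum = t ^ 0 + t ^ 4 := by
  simp only [List.map_cons, List.map_nil, List.sum_cons, List.sum_nil]; ring

theorem poin_twB2 (t : ℤ) : orbB2.fold.P Set.univ t = (t ^ 0 + t ^ 4) := by
  rw [← MS_eq_univ (m := 3) (by decide +kernel),
    desc_B2.step step0_twB2, dep0_twB2, sum0_twB2,
    MS_zero, Fold.P_empty]
  ring
theorem w0_B2 (r : Rt chevB2) : w0 (Set.univ : Set (Ix chevB2)) • r = ng r := by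
  rw [← MS_eq_univ (m := 3) (by decide +kernel)]
  refine Fin.ext (((chkFD_spec (e := (3, [0, 1, 0, 1], 4)) (by decide +kernel)).1 r).trans ?_)
  revert r; decide +kernel

end

end Cfsg.Agent.Chev
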