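import Mathlib
import Cfsg.Agent.Chev.Cent
import Cfsg.Agent.Chev.TwF4
import Cfsg.Agent.Chev.TwG2

/-! Centralizers of involutions in characteristic two. -/

set_option autoImplicit false
set_option linter.unusedSectionVars false
set_option maxHeartbeats 400000
set_option maxRecDepth 100000

namespace Cfsg.Agent.Chev
open Cfsg.Lie Cfsg.Agent.BN StSys

section
variable {D : ChevalleyDatum} [g : Good2 D] {F : Type*} [Field F] {G : Type*} [Group G]

theorem pr_two_nonneg {α β : Rt D} {a b : ℤ} (h : ∀ i, 0 ≤ a * ca i α + b * ca i β) {r : Rt D}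
    (hr : Pos r) : 0 ≤ a * pr r α + b * pr r β ∧
      (a * pr r α + b * pr r β = 0 → PhiK {i | a * ca i α + b * ca i β = 0} r) := by
  have e : a * pr r α + b * pr r β = ∑ i, cv r i * (a * ca i α + b * ca i β) := by
    simp only [pr, Finset.mul_sum, ← Finset.sum_add_distrib]
    exact Finset.sum_congr rfl fun _ _ => by ring
  have p : ∀ i ∈ Finset.univ, 0 ≤ cv r i * (a * ca i α + b * ca i β) := fun i _ =>
    mul_nonneg (cv_nonneg hr i) (h i)
  rw [e]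
  exact ⟨Finset.sum_nonneg p, fun h0 i hi => (co_eq_zero_iff r i).mpr
    ((mul_eq_zero.mp ((Finset.sum_eq_zero_iff_of_nonneg p).mp h0 i (Finset.mem_univ _))).resolve_right
      hi)⟩

theorem smul_le_of_dom {α β : Rt D} {a b : ℤ} (h : ∀ i, 0 ≤ a * ca i α + b * ca i β) (w : W D)
    (j : Ix D) : a * co (w • α) j + b * co (w • β) j ≤ a * co α j + b * co β j := by
  induction w using W_ind_left with
  | h1 => simp
  | hs i w hw ih =>
    have := (pr_two_nonneg h hw).1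
    rw [pr_smul_left, pr_smul_left, inv_inv, pr_sim, pr_sim] at this
    rw [mul_smul, mul_smul, sW_smul, sW_smul, co_rf, co_rf]
    by_cases e : j = i
    · subst e; simp only [Pi.sub_apply, Pi.smul_apply, Pi.single_eq_same, smul_eq_mul]; linarith
    · simpa [Pi.single_eq_of_ne e] using ih

theorem mem_WK_of_rle {α β : Rt D} {a b : ℤ} (ha : 0 < a) (hb : 0 < b)
    (h : ∀ i, 0 ≤ a * ca i α + b * ca i β) {w : W D} (h1 : RLe α (w • α)) (h2 : RLe β (w • β)) :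
    w ∈ WK {i | a * ca i α + b * ca i β = 0} := by
  have e1 : w • α = α := RLe.antisymm (fun j => by
    nlinarith [smul_le_of_dom h w j, h1 j, h2 j]) h1
  have e2 : w • β = β := RLe.antisymm (fun j => by
    nlinarith [smul_le_of_dom h w j, h1 j, h2 j]) h2
  refine mem_WK_of_invs fun r hr => (pr_two_nonneg h (mem_invs.mp hr).1).2 (le_antisymm ?_
    (pr_two_nonneg h (mem_invs.mp hr).1).1)
  have := (pr_two_nonneg h ((pos_ng _).mpr (mem_invs.mp hr).2)).1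
  rw [pr_ng_left, pr_ng_left, pr_smul_left, pr_smul_left, inv_smul_eq_iff.mpr e1.symm,
    inv_smul_eq_iff.mpr e2.symm] at this
  linarith

theorem Tw.mem_cell {S : StSys D F G} {σ : Sym D} (T : Tw S σ) {w : W D} {y : G}
    (hy : y ∈ S.cell w) : T.f y ∈ S.cell (σ.ρ w) := by
  obtain ⟨u, hu, a, ha, hm, v, hv, rfl⟩ := exists_normal' hy
  rw [Tw.f_normal hu ha hv]
  exact cell_mul_mem (mul_mem_cell (S.U_le_B (T.mem_U hu)) (self_mem_cell (T.mem_N ha)
    (T.mono ha hm))) (S.U_le_B (Uw_le_U _ (T.mem_Uw hv)))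

theorem Tw.f_conj {S : StSys D F G} {σ : Sym D} (T : Tw S σ) {y v : G} (hy : y ∈ S.grp)
    (hv : v ∈ S.grp) : T.f (y * v * y⁻¹) = T.f y * T.f v * (T.f y)⁻¹ := by
  rw [T.f_mul3 hy hv (inv_mem hy), T.f_inv hy]

namespace StSys
variable {S : StSys D F G} {v : G} {α : Rt D} {t : F}

theorem Lead.rle (hα : Pos α) (ht : t ≠ 0) (h : S.Lead v α t) (hv : v ∈ S.XS (UpL [α])) {w : W D}
    {y : G} (hy : y ∈ S.cell w) (e : y * v * y⁻¹ = v) : RLe α (w • α) := by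
  simpa [UpL] using h.smul_mem hα ht hy (upC_UpL (R := [α]) (by simpa using hα)) (e.symm ▸ hv)

theorem cent_XS (h3 : S.R3) {J : Set (Ix D)} {T : Set (Rt D)}
    (h1 : ∀ r ∈ T, ∀ t, Commute (S.x r t) v) (h2 : ∀ i ∈ J, sim i ∈ T ∧ ng (sim i) ∈ T)
    (h4 : ∀ w, ∀ y ∈ S.cell w, y * v * y⁻¹ = v → w ∈ WK J)
    (h5 : ∀ u ∈ S.U, ∀ c, u * h3.hT c * v * (u * h3.hT c)⁻¹ = v → ∀ i ∉ J, c i = 1)
    (h6 : ∀ u ∈ S.UJ J, u * v * u⁻¹ = v → u ∈ S.XS T) :
    S.grp ⊓ Subgroup.centralizer {v} = S.XS T :=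
  cent_eq h3 (S.XS_le_grp T) (S.XS_le.mpr fun r hr t =>
    Subgroup.mem_centralizer_singleton_iff.mpr (h1 r hr t).eq)
    (XS_phiK_le (fun i hi => S.x_mem (h2 i hi).1) fun i hi => S.x_mem (h2 i hi).2) h4 h5 h6

/-- the centralizer of a dominant root element -/
theorem cent_dom (h3 : S.R3) (hα : Pos α) {k : Ix D} (hk : ∀ i, ca i α = if i = k then 1 else 0)
    {T : Set (Rt D)} (h1 : ∀ r ∈ T, ∀ t, Commute (S.x r t) (S.x α 1))
    (h2 : ∀ i ≠ k, sim i ∈ T ∧ ng (sim i) ∈ T)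
    (h6 : ∀ u ∈ S.UJ {i | i ≠ k}, u * S.x α 1 * u⁻¹ = S.x α 1 → u ∈ S.XS T) :
    S.grp ⊓ Subgroup.centralizer {S.x α 1} = S.XS T := by
  have hl : S.Lead (S.x α 1) α 1 := by simp [Lead]
  refine cent_XS h3 h1 h2 (fun w y hy e => ?_) (fun u hu c e i hi => ?_) h6
  · have := hl.rle hα one_ne_zero (S.x_mem (T := UpL [α]) ⟨α, by simp, RLe.rfl⟩ _) hy e
    refine WK_mono (fun i hi => ?_) (mem_WK_of_rle one_pos one_pos (fun i => ?_) this this)
    · rintro rfl; simp [hk] at hi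
    · rw [hk]; split_ifs <;> simp
  · obtain rfl : i = k := not_not.mp hi
    simpa [hk] using hl.tor_eq hα one_ne_zero h3 hu e

theorem cent_top (h3 : S.R3) (hα : Pos α) {k : Ix D} (hk : ∀ i, ca i α = if i = k then 1 else 0)
    {T : Set (Rt D)} (h1 : ∀ r ∈ T, ∀ t, Commute (S.x r t) (S.x α 1))
    (h2 : ∀ r, Pos r → r ∈ T) (h2' : ∀ i ≠ k, ng (sim i) ∈ T) :
    S.grp ⊓ Subgroup.centralizer {S.x α 1} = S.XS T :=
  cent_dom h3 hα hk h1 (fun i hi => ⟨h2 _ (pos_sim i), h2' i hi⟩) fun _ hu _ =>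
    S.XS_mono (T := {r | Pos r}) h2 (UJ_le_U _ hu)

/-- roots of a unipotent radical other than `p_i` and `w_j (p_i)` -/
def AJ (J : Set (Ix D)) (i j : Ix D) : Set (Rt D) :=
  {r | ((Pos r ∧ ¬ PhiK J r) ∧ Pos r ∧ Pos (sW i • r)) ∧ Pos (sW j • r) ∧ Pos (sW i • sW j • r)}

theorem uni_UJ (J : Set (Ix D)) : Uni owt {r : Rt D | Pos r ∧ ¬ PhiK J r} :=
  (Hc_cJ J ▸ uni_Hc (cJ J)).owt_of fun _ h => h.1

theorem uni_AJ (J : Set (Ix D)) (i j : Ix D) : Uni owt (AJ J i j) :=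
  ((uni_UJ J).inter (uni_ninvs (sW i))).inter ((uni_ninvs (sW i)).smul (sW j))

theorem mem_of_conj_ns {J : Set (Ix D)} {i j : Ix D} (hj : j ∈ J) (hc : Commute (S.ns j) v)
    (h : ∀ u ∈ S.U, u * v * u⁻¹ = v → u ∈ S.Ui i) {u : G} (hu : u ∈ S.UJ J)
    (e : u * v * u⁻¹ = v) : u ∈ S.XS (AJ J i j) := by
  have hU := uni_UJ J
  refine (S.mono_ns j).mem_of_conj (hU.inter (uni_ninvs (sW i))) (uni_ninvs (sW i))
    ((S.XS_inf uni_pos hU (uni_ninvs _) (fun _ h => h.1) fun _ h => h.1).le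
      ⟨hu, h u (UJ_le_U J hu) e⟩) (h _ (UJ_le_U J
        ((P_le_normalizer J (ns_mem_P hj) u).mp hu)) ?_)
  rw [show S.ns j * u * (S.ns j)⁻¹ * v * (S.ns j * u * (S.ns j)⁻¹)⁻¹ =
    S.ns j * (u * ((S.ns j)⁻¹ * v * S.ns j) * u⁻¹) * (S.ns j)⁻¹ by group, mul_assoc _ v, ← hc.eq,
    inv_mul_cancel_left, e, hc.eq, mul_inv_cancel_right]

theorem commute_n {r : Rt D} (h1 : ∀ t, Commute (S.x r t) v) (h2 : ∀ t, Commute (S.x (ng r) t) v)
    (t : F) : Commute (S.n r t) v := ((h1 _).mul_left (h2 _)).mul_left (h1 _)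

end StSys
end

section G2
attribute [local instance] good2G2
variable {F : Type*} [Field F] [CharP F 2]

theorem cent_G2_long : (glSys chevG2 F).grp ⊓ Subgroup.centralizer {(glSys chevG2 F).x (rG2 11) 1} =
    (glSys chevG2 F).XS ({r | Pos r} ∪ {rG2 4}) :=
  cent_top gl_R3 (by decide +kernel) (k := nG2 1) (by decide +kernel)
    (fun r hr t => commuteP _ 2 ((by decide +kernel : ∀ r : Rt chevG2, Pos r ∨ r = rG2 4 →
      commP chevG2 2 r (rG2 11) = true) r hr) _ _) (fun _ => Or.inl)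
    fun i hi => Or.inr ((by decide +kernel : ∀ i ≠ nG2 1, ng (sim i) = rG2 4) i hi)

theorem cent_G2_short : (glSys chevG2 F).grp ⊓ Subgroup.centralizer {(glSys chevG2 F).x (rG2 9) 1} =
    (glSys chevG2 F).XS ({rG2 9} ∪ {rG2 10} ∪ {rG2 11} ∪ {rG2 6} ∪ {rG2 5}) := by
  have hc : ∀ r : Rt chevG2, (((r = rG2 9 ∨ r = rG2 10) ∨ r = rG2 11) ∨ r = rG2 6) ∨ r = rG2 5 →
      ∀ t, Commute ((glSys chevG2 F).x r t) ((glSys chevG2 F).x (rG2 9) 1) := fun r hr t =>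
    commuteP _ 2 ((by decide +kernel : ∀ r : Rt chevG2,
      (((r = rG2 9 ∨ r = rG2 10) ∨ r = rG2 11) ∨ r = rG2 6) ∨ r = rG2 5 →
      commP chevG2 2 r (rG2 9) = true) r hr) _ _
  refine cent_dom gl_R3 (by decide +kernel) (k := nG2 0) (by decide +kernel) hc
    (by simp only [Set.mem_union, Set.mem_singleton_iff]; decide +kernel) fun u hu e => ?_
  refine (glSys chevG2 F).XS_mono ?_ (mem_of_conj_ns (i := nG2 0) (j := nG2 1)
    (by decide : nG2 1 ≠ nG2 0)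
    (commute_n (hc _ (by decide +kernel)) (hc _ (by decide +kernel)) _)
    (fun u hu => mem_Ui_of_comm (α := rG2 9) (β := rG2 10) (C := 3) (l := []) (by decide +kernel)
      one_ne_zero (by rw [Ne, CharP.intCast_eq_zero_iff F 2]; decide) (by decide +kernel)
      (by decide +kernel) (by simp) (by simp) hu) hu e)
  intro r
  simp only [Set.mem_union, Set.mem_singleton_iff, Set.mem_setOf_eq, PhiK, sW_smul, AJ]
  revert r; decide +kernel

end G2

section F4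
attribute [local instance] good2F4
variable {F : Type*} [Field F] [CharP F 2]

theorem exists_γF4 [Finite F] : ∃ T : Tw (glSys chevF4 F) symF4,
    ∀ r t, T.φ r t = t ^ byte gLF4 r :=
  (exists_excF4 F (surjective_frobenius F 2)).elim fun μ h => ⟨μ.tw, h.1⟩

theorem cent_F4_long : (glSys chevF4 F).grp ⊓ Subgroup.centralizer {(glSys chevF4 F).x (rF4 47) 1} =
    (glSys chevF4 F).XS ({r | Pos r} ∪ {rF4 14} ∪ {rF4 20} ∪ {rF4 22}) :=
  cent_top gl_R3 (by decide +kernel) (k := nF4 3) (by decide +kernel)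
    (fun r hr t => commuteP _ 2 ((by decide +kernel : ∀ r : Rt chevF4,
      ((Pos r ∨ r = rF4 14) ∨ r = rF4 20) ∨ r = rF4 22 → commP chevF4 2 r (rF4 47) = true) r hr) _ _)
    (fun _ h => Or.inl (Or.inl (Or.inl h)))
    (by simp only [Set.mem_union, Set.mem_singleton_iff, Set.mem_setOf_eq]; decide +kernel)

theorem cent_F4_short : (glSys chevF4 F).grp ⊓ Subgroup.centralizer {(glSys chevF4 F).x (rF4 44) 1} =
    (glSys chevF4 F).XS ({r | Pos r} ∪ {rF4 20} ∪ {rF4 22} ∪ {rF4 23}) :=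
  cent_top gl_R3 (by decide +kernel) (k := nF4 0) (by decide +kernel)
    (fun r hr t => commuteP _ 2 ((by decide +kernel : ∀ r : Rt chevF4,
      ((Pos r ∨ r = rF4 20) ∨ r = rF4 22) ∨ r = rF4 23 → commP chevF4 2 r (rF4 44) = true) r hr) _ _)
    (fun _ h => Or.inl (Or.inl (Or.inl h)))
    (by simp only [Set.mem_union, Set.mem_singleton_iff, Set.mem_setOf_eq]; decide +kernel)

theorem cent_F4_pair [Finite F] {α β : Rt chevF4} {a b : ℤ} {J : Set (Ix chevF4)}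
    {R : Set (Rt chevF4)} (hα : Pos α) (hβ : β ∈ Ab α ∧ RLe α β)
    (hp : symF4.p α = β ∧ symF4.p β = α) (ha : 0 < a ∧ 0 < b)
    (hd : ∀ i, 0 ≤ a * ca i α + b * ca i β) (hJ : ∀ i, a * ca i α + b * ca i β = 0 → i ∈ J)
    (hle : ∀ r, RLe α (symF4.p r) → RLe β r ∨ pr r r ≠ 2 ∨ ∃ s, pr r s = 2 ∧ s ≠ r)
    (hβ' : ∀ s, pr β s = 2 → s = β)
    (h1 : ∀ r ∈ R, commP chevF4 2 r α = true ∧ commP chevF4 2 r β = true)
    (hαβ : commP chevF4 2 α β = true) (h2 : ∀ i ∈ J, sim i ∈ R ∧ ng (sim i) ∈ R)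
    (h5 : ∀ c : Fin 4 → Fˣ, ∏ i, c i ^ ca (nF4 i) α = 1 →
      ∏ i, (![c 3, c 2, c 1 ^ 2, c 0 ^ 2] i) ^ ca (nF4 i) α = 1 → ∀ i ∉ J, c i = 1)
    (h6 : ∀ T : Tw (glSys chevF4 F) symF4, T.f ((glSys chevF4 F).x α 1 * (glSys chevF4 F).x β 1) =
      (glSys chevF4 F).x α 1 * (glSys chevF4 F).x β 1 → ∀ u ∈ (glSys chevF4 F).UJ J,
        u * ((glSys chevF4 F).x α 1 * (glSys chevF4 F).x β 1) * u⁻¹ =
        (glSys chevF4 F).x α 1 * (glSys chevF4 F).x β 1 → u ∈ (glSys chevF4 F).XS R) :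
    (glSys chevF4 F).grp ⊓ Subgroup.centralizer {(glSys chevF4 F).x α 1 * (glSys chevF4 F).x β 1} =
      (glSys chevF4 F).XS R := by
  obtain ⟨T, hT⟩ := exists_γF4 (F := F)
  let S := glSys chevF4 F
  have hv : S.x α 1 * S.x β 1 ∈ S.grp := mul_mem (S.x_mem_grp _ _) (S.x_mem_grp _ _)
  have hf : T.f (S.x α 1 * S.x β 1) = S.x α 1 * S.x β 1 := by
    rw [T.f_xmul _ _ (S.x_mem_grp _ _), T.f_x, hT, hT, hp.1, hp.2, one_pow, one_pow,
      (commuteP S 2 hαβ _ _).eq]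
  have hl : S.Lead (S.x α 1 * S.x β 1) α 1 := lead_x_mul (S.x_mem hβ.1 _)
  have hu : S.x α 1 * S.x β 1 ∈ S.XS (UpL [α]) :=
    mul_mem (S.x_mem (T := UpL [α]) ⟨α, by simp, RLe.rfl⟩ _)
      (S.x_mem (T := UpL [α]) ⟨α, by simp, hβ.2⟩ _)
  refine cent_XS (S := S) gl_R3 (fun r hr t => (commuteP S 2 (h1 r hr).1 _ _).mul_right
    (commuteP S 2 (h1 r hr).2 _ _)) h2 (fun w y hy e => ?_) (fun u hu c e => ?_) (h6 T hf)
  · have e1 := hl.rle hα one_ne_zero hu (T.mem_cell hy)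
      (by rw [← hf, ← T.f_conj (cell_le_grp hy) hv, e])
    have e2 : symF4.ρ w • α = symF4.p (w • β) := by rw [← symF4.ρ_smul, hp.2]
    refine WK_mono hJ (mem_WK_of_rle ha.1 ha.2 hd (hl.rle hα one_ne_zero hu hy e) ?_)
    rcases hle _ (e2 ▸ e1) with h | h | ⟨s, h, h'⟩
    · exact h
    · exact absurd (pr_self _) h
    · exact absurd (inv_smul_eq_iff.mp (hβ' _ (pr_smul_left w β s ▸ h))) h'
  · have he : ∀ i t, T.φ (sim i) t = t ^ eF4 1 i := fun i t => by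
      rw [hT]
      exact congrArg _ ((by decide +kernel :
        ∀ i : Fin 4, byte gLF4 (sim (nF4 i) : Rt chevF4) = eF4 1 i) i)
    have hz : (gl_R3 (D := chevF4)).hT c ∈ S.grp := S.H_le_grp ((gl_R3 (D := chevF4)).range_hT.le ⟨c, rfl⟩)
    have e1 := congrArg T.f e
    rw [T.f_conj (mul_mem (S.U_le_grp hu) hz) hv, hf, T.f_mul _ (S.U_le_grp hu) _ hz,
      Tw.f_hT gl_R3 he] at e1
    refine h5 c (hl.tor_eq hα one_ne_zero gl_R3 hu e) ?_
    have e2 : Tw.tau symF4 (eF4 1) c = ![c (nF4 3), c (nF4 2), c (nF4 1) ^ 2, c (nF4 0) ^ 2] :=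
      Tw.tau_eq_iff.mpr fun (i : Fin 4) => by
        rw [π_F4 i]; fin_cases i <;> simp [eF4] <;> rfl
    exact e2 ▸ hl.tor_eq hα one_ne_zero gl_R3 (T.mem_U hu) e1

theorem cent_F4_top [Finite F] : (glSys chevF4 F).grp ⊓ Subgroup.centralizer
    {(glSys chevF4 F).x (rF4 44) 1 * (glSys chevF4 F).x (rF4 47) 1} =
    (glSys chevF4 F).XS ({r | Pos r} ∪ {rF4 20} ∪ {rF4 22}) :=
  cent_F4_pair (a := 1) (b := 1) (J := {i | i = nF4 1 ∨ i = nF4 2}) (by decide +kernel)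
    (by decide +kernel) (by decide +kernel) (by decide) (by decide +kernel)
    (by simp only [Set.mem_setOf_eq]; decide +kernel) (by decide +kernel) (by decide +kernel)
    (by simp only [Set.mem_union, Set.mem_singleton_iff, Set.mem_setOf_eq]; decide +kernel)
    (by decide +kernel)
    (by simp only [Set.mem_union, Set.mem_singleton_iff, Set.mem_setOf_eq]; decide +kernel)
    (fun c h1 h2 (i : Fin 4) hi => by
      simp only [(by decide +kernel : ∀ i, ca (nF4 i) (rF4 44) = ![1, 0, 0, 0] i),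
        Fin.prod_univ_four] at h1 h2
      fin_cases i <;> first | exact absurd (Or.inl rfl) hi | exact absurd (Or.inr rfl) hi | simp_all)
    fun _ _ _ hu _ => (glSys chevF4 F).XS_mono (fun _ h => Or.inl (Or.inl h)) (UJ_le_U _ hu)

theorem cent_F4_mix [Finite F] : (glSys chevF4 F).grp ⊓ Subgroup.centralizer
    {(glSys chevF4 F).x (rF4 39) 1 * (glSys chevF4 F).x (rF4 45) 1} =
    (glSys chevF4 F).XS ({rF4 33} ∪ {rF4 14} ∪ {rF4 24} ∪ {rF4 23} ∪
      {r | Pos r ∧ (r : ℕ) ∉ [27, 25, 34, 26]}) := by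
  refine cent_F4_pair (a := 3) (b := 2) (J := {i | i = nF4 0 ∨ i = nF4 3}) (by decide +kernel)
    (by decide +kernel) (by decide +kernel) (by decide) (by decide +kernel)
    (by simp only [Set.mem_setOf_eq]; decide +kernel) (by decide +kernel) (by decide +kernel)
    (by simp only [Set.mem_union, Set.mem_singleton_iff, Set.mem_setOf_eq]; decide +kernel)
    (by decide +kernel)
    (by simp only [Set.mem_union, Set.mem_singleton_iff, Set.mem_setOf_eq]; decide +kernel)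
    (fun c h1 h2 (i : Fin 4) hi => by
      simp only [(by decide +kernel : ∀ i, ca (nF4 i) (rF4 39) = ![0, -1, 1, 0] i),
        Fin.prod_univ_four] at h1 h2
      have h3 : c 1 = c 2 := by simpa [inv_mul_eq_one] using h1
      have h4 : c 2 = 1 := by simpa [h3, pow_two] using h2
      fin_cases i <;> first | exact absurd (Or.inl rfl) hi | exact absurd (Or.inr rfl) hi | simp_all) fun T hf u hu e => ?_
  let S := glSys chevF4 F
  have hc : ∀ r : Rt chevF4, r = sim (nF4 0) ∨ r = ng (sim (nF4 0)) → ∀ t,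
      Commute (S.x r t) (S.x (rF4 39) 1 * S.x (rF4 45) 1) := fun r hr t =>
    have := (by decide +kernel : ∀ r : Rt chevF4, r = sim (nF4 0) ∨ r = ng (sim (nF4 0)) →
      commP chevF4 2 r (rF4 39) = true ∧ commP chevF4 2 r (rF4 45) = true) r hr
    (commuteP S 2 this.1 _ _).mul_right (commuteP S 2 this.2 _ _)
  have key : ∀ u ∈ S.UJ {i | i = nF4 0 ∨ i = nF4 3},
      u * (S.x (rF4 39) 1 * S.x (rF4 45) 1) * u⁻¹ = S.x (rF4 39) 1 * S.x (rF4 45) 1 →
      u ∈ S.XS (AJ {i | i = nF4 0 ∨ i = nF4 3} (nF4 1) (nF4 0)) := fun u hu e =>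
    mem_of_conj_ns (Or.inl rfl) (commute_n (hc _ (Or.inl rfl)) (hc _ (Or.inr rfl)) _)
      (fun u hu => mem_Ui_of_comm (α := rF4 39) (β := rF4 40) (C := 1) (l := []) (by decide +kernel)
        one_ne_zero (by simp) (by decide +kernel) (by decide +kernel) (by simp)
        (by rw [inv_mul_cancel_left]; exact S.x_mem (by decide +kernel) _) hu) hu e
  have hg := S.U_le_grp (UJ_le_U _ hu)
  have h1 := key (T.f u) (T.mem_XS (by
    simp only [Set.mem_setOf_eq, PhiK]; decide +kernel) hu) (by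
      rw [← hf, ← T.f_conj hg (mul_mem (S.x_mem_grp _ _) (S.x_mem_grp _ _)), e])
  have h2 : u ∈ S.XS (AJ {i | i = nF4 0 ∨ i = nF4 3} (nF4 2) (nF4 3)) :=
    sub_mem_XS.mp (T.mor.mem_of_f_mem_XS (uni_UJ {i | i = nF4 0 ∨ i = nF4 3}) uni_pos
      (uni_AJ _ _ _) (fun r hr => (symF4.pos_p r).mpr hr.1) (fun _ h => h.1.1.1) (by
        simp only [Set.mem_setOf_eq, PhiK, sW_smul, AJ]; decide +kernel)
      (a := ⟨u, hg⟩) (sub_mem_XS.mpr hu) h1)
  refine S.XS_mono (fun r => ?_) ((S.XS_inf uni_pos (uni_AJ _ _ _) (uni_AJ _ _ _)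
    (fun _ h => h.1.1.1) fun _ h => h.1.1.1).le ⟨key u hu e, h2⟩)
  simp only [Set.mem_union, Set.mem_singleton_iff, Set.mem_setOf_eq, PhiK, sW_smul, AJ,
    Set.mem_inter_iff]
  revert r; decide +kernel

end F4
end Cfsg.Agent.Chev
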