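import Mathlib
import Cfsg.Agent.Chev.TwD4

/-! Commutation rules of the positive root elements in type `D₄`. -/

set_option autoImplicit false
set_option linter.unusedSectionVars false
set_option maxHeartbeats 400000
set_option maxRecDepth 100000

namespace Cfsg.Agent.Chev
open Cfsg.Lie Cfsg.Agent.BN StSys Tw

section
variable {D : ChevalleyDatum} [g : Good2 D] {F : Type*} [Field F] {G : Type*} [Group G]
  (S : StSys D F G)

theorem swap0 {r s : Rt D} (h : s ≠ r ∧ s ≠ ng r ∧ D.commTerms r s = []) (t u : F) (y : G) :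
    S.x s u * (S.x r t * y) = S.x r t * (S.x s u * y) := by
  rw [← mul_assoc, S.comm_of h]; simp [mul_assoc]

theorem swap1 {r s c : Rt D} {C : ℤ} (h : s ≠ r ∧ s ≠ ng r ∧ D.commTerms r s = [((c : ℕ), C, 1, 1)])
    {t u v : F} (hv : v = C * -t * u) (y : G) :
    S.x s u * (S.x r t * y) = S.x r t * (S.x s u * (S.x c v * y)) := by
  rw [← mul_assoc, S.comm_of h, hv]; simp [mul_assoc]

theorem merge (r : Rt D) (t u : F) (y : G) : S.x r t * (S.x r u * y) = S.x r (t + u) * y := by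
  rw [S.add, mul_assoc]
end

attribute [local instance] good2D4

/-- roots by their number -/
abbrev rD4 (n : Fin 24) : Rt chevD4 := n

namespace D4R
variable {F : Type*} [Field F] {G : Type*} [Group G] (S : StSys chevD4 F G)

theorem c9_21 (t u : F) (g : G) : S.x (rD4 21) u * (S.x (rD4 9) t * g) =
    S.x (rD4 9) t * (S.x (rD4 21) u * g) :=
  swap0 S (by decide +kernel) t u g
theorem c9_17 (t u : F) (g : G) : S.x (rD4 17) u * (S.x (rD4 9) t * g) =
    S.x (rD4 9) t * (S.x (rD4 17) u * g) :=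
  swap0 S (by decide +kernel) t u g
theorem c9_20 (t u : F) (g : G) : S.x (rD4 20) u * (S.x (rD4 9) t * g) =
    S.x (rD4 9) t * (S.x (rD4 20) u * g) :=
  swap0 S (by decide +kernel) t u g
theorem c9_22 (t u : F) (g : G) : S.x (rD4 22) u * (S.x (rD4 9) t * g) =
    S.x (rD4 9) t * (S.x (rD4 22) u * g) :=
  swap0 S (by decide +kernel) t u g
theorem c9_23 (t u : F) (g : G) : S.x (rD4 23) u * (S.x (rD4 9) t * g) =
    S.x (rD4 9) t * (S.x (rD4 23) u * (S.x (rD4 22) (-(t * u)) * g)) :=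
  swap1 S (C := 1) (by decide +kernel) (by simp) g
theorem c18_13 (t u : F) (g : G) : S.x (rD4 13) u * (S.x (rD4 18) t * g) =
    S.x (rD4 18) t * (S.x (rD4 13) u * g) :=
  swap0 S (by decide +kernel) t u g
theorem c18_12 (t u : F) (g : G) : S.x (rD4 12) u * (S.x (rD4 18) t * g) =
    S.x (rD4 18) t * (S.x (rD4 12) u * g) :=
  swap0 S (by decide +kernel) t u g
theorem c18_14 (t u : F) (g : G) : S.x (rD4 14) u * (S.x (rD4 18) t * g) =
    S.x (rD4 18) t * (S.x (rD4 14) u * (S.x (rD4 19) (t * u) * g)) :=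
  swap1 S (C := -1) (by decide +kernel) (by simp) g
theorem c18_19 (t u : F) (g : G) : S.x (rD4 19) u * (S.x (rD4 18) t * g) =
    S.x (rD4 18) t * (S.x (rD4 19) u * g) :=
  swap0 S (by decide +kernel) t u g
theorem c18_16 (t u : F) (g : G) : S.x (rD4 16) u * (S.x (rD4 18) t * g) =
    S.x (rD4 18) t * (S.x (rD4 16) u * (S.x (rD4 21) (t * u) * g)) :=
  swap1 S (C := -1) (by decide +kernel) (by simp) g
theorem c18_15 (t u : F) (g : G) : S.x (rD4 15) u * (S.x (rD4 18) t * g) =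
    S.x (rD4 18) t * (S.x (rD4 15) u * (S.x (rD4 20) (t * u) * g)) :=
  swap1 S (C := -1) (by decide +kernel) (by simp) g
theorem c18_21 (t u : F) (g : G) : S.x (rD4 21) u * (S.x (rD4 18) t * g) =
    S.x (rD4 18) t * (S.x (rD4 21) u * g) :=
  swap0 S (by decide +kernel) t u g
theorem c18_17 (t u : F) (g : G) : S.x (rD4 17) u * (S.x (rD4 18) t * g) =
    S.x (rD4 18) t * (S.x (rD4 17) u * (S.x (rD4 22) (t * u) * g)) :=
  swap1 S (C := -1) (by decide +kernel) (by simp) g
theorem c18_20 (t u : F) (g : G) : S.x (rD4 20) u * (S.x (rD4 18) t * g) =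
    S.x (rD4 18) t * (S.x (rD4 20) u * g) :=
  swap0 S (by decide +kernel) t u g
theorem c18_22 (t u : F) (g : G) : S.x (rD4 22) u * (S.x (rD4 18) t * g) =
    S.x (rD4 18) t * (S.x (rD4 22) u * g) :=
  swap0 S (by decide +kernel) t u g
theorem c18_23 (t u : F) (g : G) : S.x (rD4 23) u * (S.x (rD4 18) t * g) =
    S.x (rD4 18) t * (S.x (rD4 23) u * g) :=
  swap0 S (by decide +kernel) t u g
theorem c13_12 (t u : F) (g : G) : S.x (rD4 12) u * (S.x (rD4 13) t * g) =
    S.x (rD4 13) t * (S.x (rD4 12) u * g) :=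
  swap0 S (by decide +kernel) t u g
theorem c13_14 (t u : F) (g : G) : S.x (rD4 14) u * (S.x (rD4 13) t * g) =
    S.x (rD4 13) t * (S.x (rD4 14) u * (S.x (rD4 16) (-(t * u)) * g)) :=
  swap1 S (C := 1) (by decide +kernel) (by simp) g
theorem c13_19 (t u : F) (g : G) : S.x (rD4 19) u * (S.x (rD4 13) t * g) =
    S.x (rD4 13) t * (S.x (rD4 19) u * (S.x (rD4 21) (-(t * u)) * g)) :=
  swap1 S (C := 1) (by decide +kernel) (by simp) g
theorem c13_16 (t u : F) (g : G) : S.x (rD4 16) u * (S.x (rD4 13) t * g) =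
    S.x (rD4 13) t * (S.x (rD4 16) u * g) :=
  swap0 S (by decide +kernel) t u g
theorem c13_15 (t u : F) (g : G) : S.x (rD4 15) u * (S.x (rD4 13) t * g) =
    S.x (rD4 13) t * (S.x (rD4 15) u * (S.x (rD4 17) (-(t * u)) * g)) :=
  swap1 S (C := 1) (by decide +kernel) (by simp) g
theorem c13_21 (t u : F) (g : G) : S.x (rD4 21) u * (S.x (rD4 13) t * g) =
    S.x (rD4 13) t * (S.x (rD4 21) u * g) :=
  swap0 S (by decide +kernel) t u g
theorem c13_17 (t u : F) (g : G) : S.x (rD4 17) u * (S.x (rD4 13) t * g) =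
    S.x (rD4 13) t * (S.x (rD4 17) u * g) :=
  swap0 S (by decide +kernel) t u g
theorem c13_20 (t u : F) (g : G) : S.x (rD4 20) u * (S.x (rD4 13) t * g) =
    S.x (rD4 13) t * (S.x (rD4 20) u * (S.x (rD4 22) (-(t * u)) * g)) :=
  swap1 S (C := 1) (by decide +kernel) (by simp) g
theorem c13_22 (t u : F) (g : G) : S.x (rD4 22) u * (S.x (rD4 13) t * g) =
    S.x (rD4 13) t * (S.x (rD4 22) u * g) :=
  swap0 S (by decide +kernel) t u g
theorem c13_23 (t u : F) (g : G) : S.x (rD4 23) u * (S.x (rD4 13) t * g) =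
    S.x (rD4 13) t * (S.x (rD4 23) u * g) :=
  swap0 S (by decide +kernel) t u g
theorem c12_14 (t u : F) (g : G) : S.x (rD4 14) u * (S.x (rD4 12) t * g) =
    S.x (rD4 12) t * (S.x (rD4 14) u * (S.x (rD4 15) (-(t * u)) * g)) :=
  swap1 S (C := 1) (by decide +kernel) (by simp) g
theorem c12_19 (t u : F) (g : G) : S.x (rD4 19) u * (S.x (rD4 12) t * g) =
    S.x (rD4 12) t * (S.x (rD4 19) u * (S.x (rD4 20) (-(t * u)) * g)) :=
  swap1 S (C := 1) (by decide +kernel) (by simp) g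
theorem c12_16 (t u : F) (g : G) : S.x (rD4 16) u * (S.x (rD4 12) t * g) =
    S.x (rD4 12) t * (S.x (rD4 16) u * (S.x (rD4 17) (-(t * u)) * g)) :=
  swap1 S (C := 1) (by decide +kernel) (by simp) g
theorem c12_15 (t u : F) (g : G) : S.x (rD4 15) u * (S.x (rD4 12) t * g) =
    S.x (rD4 12) t * (S.x (rD4 15) u * g) :=
  swap0 S (by decide +kernel) t u g
theorem c12_21 (t u : F) (g : G) : S.x (rD4 21) u * (S.x (rD4 12) t * g) =
    S.x (rD4 12) t * (S.x (rD4 21) u * (S.x (rD4 22) (-(t * u)) * g)) :=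
  swap1 S (C := 1) (by decide +kernel) (by simp) g
theorem c12_17 (t u : F) (g : G) : S.x (rD4 17) u * (S.x (rD4 12) t * g) =
    S.x (rD4 12) t * (S.x (rD4 17) u * g) :=
  swap0 S (by decide +kernel) t u g
theorem c12_20 (t u : F) (g : G) : S.x (rD4 20) u * (S.x (rD4 12) t * g) =
    S.x (rD4 12) t * (S.x (rD4 20) u * g) :=
  swap0 S (by decide +kernel) t u g
theorem c12_22 (t u : F) (g : G) : S.x (rD4 22) u * (S.x (rD4 12) t * g) =
    S.x (rD4 12) t * (S.x (rD4 22) u * g) :=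
  swap0 S (by decide +kernel) t u g
theorem c12_23 (t u : F) (g : G) : S.x (rD4 23) u * (S.x (rD4 12) t * g) =
    S.x (rD4 12) t * (S.x (rD4 23) u * g) :=
  swap0 S (by decide +kernel) t u g
theorem c14_19 (t u : F) (g : G) : S.x (rD4 19) u * (S.x (rD4 14) t * g) =
    S.x (rD4 14) t * (S.x (rD4 19) u * g) :=
  swap0 S (by decide +kernel) t u g
theorem c14_16 (t u : F) (g : G) : S.x (rD4 16) u * (S.x (rD4 14) t * g) =
    S.x (rD4 14) t * (S.x (rD4 16) u * g) :=
  swap0 S (by decide +kernel) t u g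
theorem c14_15 (t u : F) (g : G) : S.x (rD4 15) u * (S.x (rD4 14) t * g) =
    S.x (rD4 14) t * (S.x (rD4 15) u * g) :=
  swap0 S (by decide +kernel) t u g
theorem c14_21 (t u : F) (g : G) : S.x (rD4 21) u * (S.x (rD4 14) t * g) =
    S.x (rD4 14) t * (S.x (rD4 21) u * g) :=
  swap0 S (by decide +kernel) t u g
theorem c14_17 (t u : F) (g : G) : S.x (rD4 17) u * (S.x (rD4 14) t * g) =
    S.x (rD4 14) t * (S.x (rD4 17) u * g) :=
  swap0 S (by decide +kernel) t u g
theorem c14_20 (t u : F) (g : G) : S.x (rD4 20) u * (S.x (rD4 14) t * g) =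
    S.x (rD4 14) t * (S.x (rD4 20) u * g) :=
  swap0 S (by decide +kernel) t u g
theorem c14_22 (t u : F) (g : G) : S.x (rD4 22) u * (S.x (rD4 14) t * g) =
    S.x (rD4 14) t * (S.x (rD4 22) u * (S.x (rD4 23) (-(t * u)) * g)) :=
  swap1 S (C := 1) (by decide +kernel) (by simp) g
theorem c14_23 (t u : F) (g : G) : S.x (rD4 23) u * (S.x (rD4 14) t * g) =
    S.x (rD4 14) t * (S.x (rD4 23) u * g) :=
  swap0 S (by decide +kernel) t u g
theorem c19_16 (t u : F) (g : G) : S.x (rD4 16) u * (S.x (rD4 19) t * g) =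
    S.x (rD4 19) t * (S.x (rD4 16) u * g) :=
  swap0 S (by decide +kernel) t u g
theorem c19_15 (t u : F) (g : G) : S.x (rD4 15) u * (S.x (rD4 19) t * g) =
    S.x (rD4 19) t * (S.x (rD4 15) u * g) :=
  swap0 S (by decide +kernel) t u g
theorem c19_21 (t u : F) (g : G) : S.x (rD4 21) u * (S.x (rD4 19) t * g) =
    S.x (rD4 19) t * (S.x (rD4 21) u * g) :=
  swap0 S (by decide +kernel) t u g
theorem c19_17 (t u : F) (g : G) : S.x (rD4 17) u * (S.x (rD4 19) t * g) =
    S.x (rD4 19) t * (S.x (rD4 17) u * (S.x (rD4 23) (t * u) * g)) :=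
  swap1 S (C := -1) (by decide +kernel) (by simp) g
theorem c19_20 (t u : F) (g : G) : S.x (rD4 20) u * (S.x (rD4 19) t * g) =
    S.x (rD4 19) t * (S.x (rD4 20) u * g) :=
  swap0 S (by decide +kernel) t u g
theorem c19_22 (t u : F) (g : G) : S.x (rD4 22) u * (S.x (rD4 19) t * g) =
    S.x (rD4 19) t * (S.x (rD4 22) u * g) :=
  swap0 S (by decide +kernel) t u g
theorem c19_23 (t u : F) (g : G) : S.x (rD4 23) u * (S.x (rD4 19) t * g) =
    S.x (rD4 19) t * (S.x (rD4 23) u * g) :=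
  swap0 S (by decide +kernel) t u g
theorem c16_15 (t u : F) (g : G) : S.x (rD4 15) u * (S.x (rD4 16) t * g) =
    S.x (rD4 16) t * (S.x (rD4 15) u * g) :=
  swap0 S (by decide +kernel) t u g
theorem c16_21 (t u : F) (g : G) : S.x (rD4 21) u * (S.x (rD4 16) t * g) =
    S.x (rD4 16) t * (S.x (rD4 21) u * g) :=
  swap0 S (by decide +kernel) t u g
theorem c16_17 (t u : F) (g : G) : S.x (rD4 17) u * (S.x (rD4 16) t * g) =
    S.x (rD4 16) t * (S.x (rD4 17) u * g) :=
  swap0 S (by decide +kernel) t u g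
theorem c16_20 (t u : F) (g : G) : S.x (rD4 20) u * (S.x (rD4 16) t * g) =
    S.x (rD4 16) t * (S.x (rD4 20) u * (S.x (rD4 23) (t * u) * g)) :=
  swap1 S (C := -1) (by decide +kernel) (by simp) g
theorem c16_22 (t u : F) (g : G) : S.x (rD4 22) u * (S.x (rD4 16) t * g) =
    S.x (rD4 16) t * (S.x (rD4 22) u * g) :=
  swap0 S (by decide +kernel) t u g
theorem c16_23 (t u : F) (g : G) : S.x (rD4 23) u * (S.x (rD4 16) t * g) =
    S.x (rD4 16) t * (S.x (rD4 23) u * g) :=
  swap0 S (by decide +kernel) t u g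
theorem c15_21 (t u : F) (g : G) : S.x (rD4 21) u * (S.x (rD4 15) t * g) =
    S.x (rD4 15) t * (S.x (rD4 21) u * (S.x (rD4 23) (t * u) * g)) :=
  swap1 S (C := -1) (by decide +kernel) (by simp) g
theorem c15_17 (t u : F) (g : G) : S.x (rD4 17) u * (S.x (rD4 15) t * g) =
    S.x (rD4 15) t * (S.x (rD4 17) u * g) :=
  swap0 S (by decide +kernel) t u g
theorem c15_20 (t u : F) (g : G) : S.x (rD4 20) u * (S.x (rD4 15) t * g) =
    S.x (rD4 15) t * (S.x (rD4 20) u * g) :=
  swap0 S (by decide +kernel) t u g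
theorem c15_22 (t u : F) (g : G) : S.x (rD4 22) u * (S.x (rD4 15) t * g) =
    S.x (rD4 15) t * (S.x (rD4 22) u * g) :=
  swap0 S (by decide +kernel) t u g
theorem c15_23 (t u : F) (g : G) : S.x (rD4 23) u * (S.x (rD4 15) t * g) =
    S.x (rD4 15) t * (S.x (rD4 23) u * g) :=
  swap0 S (by decide +kernel) t u g
theorem c21_17 (t u : F) (g : G) : S.x (rD4 17) u * (S.x (rD4 21) t * g) =
    S.x (rD4 21) t * (S.x (rD4 17) u * g) :=
  swap0 S (by decide +kernel) t u g
theorem c21_20 (t u : F) (g : G) : S.x (rD4 20) u * (S.x (rD4 21) t * g) =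
    S.x (rD4 21) t * (S.x (rD4 20) u * g) :=
  swap0 S (by decide +kernel) t u g
theorem c21_22 (t u : F) (g : G) : S.x (rD4 22) u * (S.x (rD4 21) t * g) =
    S.x (rD4 21) t * (S.x (rD4 22) u * g) :=
  swap0 S (by decide +kernel) t u g
theorem c21_23 (t u : F) (g : G) : S.x (rD4 23) u * (S.x (rD4 21) t * g) =
    S.x (rD4 21) t * (S.x (rD4 23) u * g) :=
  swap0 S (by decide +kernel) t u g
theorem c17_20 (t u : F) (g : G) : S.x (rD4 20) u * (S.x (rD4 17) t * g) =
    S.x (rD4 17) t * (S.x (rD4 20) u * g) :=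
  swap0 S (by decide +kernel) t u g
theorem c17_22 (t u : F) (g : G) : S.x (rD4 22) u * (S.x (rD4 17) t * g) =
    S.x (rD4 17) t * (S.x (rD4 22) u * g) :=
  swap0 S (by decide +kernel) t u g
theorem c17_23 (t u : F) (g : G) : S.x (rD4 23) u * (S.x (rD4 17) t * g) =
    S.x (rD4 17) t * (S.x (rD4 23) u * g) :=
  swap0 S (by decide +kernel) t u g
theorem c20_22 (t u : F) (g : G) : S.x (rD4 22) u * (S.x (rD4 20) t * g) =
    S.x (rD4 20) t * (S.x (rD4 22) u * g) :=
  swap0 S (by decide +kernel) t u g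
theorem c20_23 (t u : F) (g : G) : S.x (rD4 23) u * (S.x (rD4 20) t * g) =
    S.x (rD4 20) t * (S.x (rD4 23) u * g) :=
  swap0 S (by decide +kernel) t u g
theorem c22_23 (t u : F) (g : G) : S.x (rD4 23) u * (S.x (rD4 22) t * g) =
    S.x (rD4 22) t * (S.x (rD4 23) u * g) :=
  swap0 S (by decide +kernel) t u g


/-- all the rules -/
def all := And.intro (merge S) <| And.intro (c9_21 S) <| And.intro (c9_17 S) <| And.intro (c9_20
  S) <| And.intro (c9_22 S) <| And.intro (c9_23 S) <| And.intro (c18_13 S) <| And.intro (c18_12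
  S) <| And.intro (c18_14 S) <| And.intro (c18_19 S) <| And.intro (c18_16 S) <| And.intro
  (c18_15 S) <| And.intro (c18_21 S) <| And.intro (c18_17 S) <| And.intro (c18_20 S) <|
  And.intro (c18_22 S) <| And.intro (c18_23 S) <| And.intro (c13_12 S) <| And.intro (c13_14 S)
  <| And.intro (c13_19 S) <| And.intro (c13_16 S) <| And.intro (c13_15 S) <| And.intro (c13_21
  S) <| And.intro (c13_17 S) <| And.intro (c13_20 S) <| And.intro (c13_22 S) <| And.intro
  (c13_23 S) <| And.intro (c12_14 S) <| And.intro (c12_19 S) <| And.intro (c12_16 S) <|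
  And.intro (c12_15 S) <| And.intro (c12_21 S) <| And.intro (c12_17 S) <| And.intro (c12_20 S)
  <| And.intro (c12_22 S) <| And.intro (c12_23 S) <| And.intro (c14_19 S) <| And.intro (c14_16
  S) <| And.intro (c14_15 S) <| And.intro (c14_21 S) <| And.intro (c14_17 S) <| And.intro
  (c14_20 S) <| And.intro (c14_22 S) <| And.intro (c14_23 S) <| And.intro (c19_16 S) <|
  And.intro (c19_15 S) <| And.intro (c19_21 S) <| And.intro (c19_17 S) <| And.intro (c19_20 S)
  <| And.intro (c19_22 S) <| And.intro (c19_23 S) <| And.intro (c16_15 S) <| And.intro (c16_21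
  S) <| And.intro (c16_17 S) <| And.intro (c16_20 S) <| And.intro (c16_22 S) <| And.intro
  (c16_23 S) <| And.intro (c15_21 S) <| And.intro (c15_17 S) <| And.intro (c15_20 S) <|
  And.intro (c15_22 S) <| And.intro (c15_23 S) <| And.intro (c21_17 S) <| And.intro (c21_20 S)
  <| And.intro (c21_22 S) <| And.intro (c21_23 S) <| And.intro (c17_20 S) <| And.intro (c17_22
  S) <| And.intro (c17_23 S) <| And.intro (c20_22 S) <| And.intro (c20_23 S) <| c22_23 S

end D4R

end Cfsg.Agent.Chev
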