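import Mathlib
import Cfsg.Agent.Chev.Emb
import Cfsg.Agent.Chev.All2

/-! Certificates for embeddings and foldings. -/

set_option autoImplicit false
set_option maxRecDepth 100000

namespace Cfsg.Agent.Chev
open Cfsg.Lie

def phiB2F4 : List (List (ℕ × ℤ)) := [[(17, 1)], [(19, 1)], [(20, 1)], [(22, 1)], [(25, 1)], [(27, 1)], [(28, 1)], [(30, 1)]]
def nodB2F4 : List (List ℕ) := [[1], [2]]
theorem embA_B2F4 : chkEmbA chevB2 chevF4 phiB2F4 = true := by decide +kernel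
theorem embB_B2F4 : chkEmbB certB2 certF4 chevB2 chevF4 phiB2F4 nodB2F4 = true := by decide +kernel
theorem embC_B2F4 : chkEmbC certB2 certF4 chevB2 chevF4 phiB2F4 = true := by decide +kernel
theorem emb_B2F4 : @Emb chevB2 chevF4 good2B2 good2F4 phiB2F4 (nodesOf _ _ nodB2F4) :=
  emb_of_chk (g := good2B2) (g' := good2F4) embA_B2F4 embB_B2F4 embC_B2F4 (by decide +kernel)
theorem ker_st_B2 (F : Type*) [Field F] : letI := good2B2
    (st_R3 (D := chevB2) (F := F)).hT.ker = ⊥ :=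
  ker_st_of_chk (g := good2B2) (g' := good2F4) (N := [[(7, -1)], [(2, 1), (7, -2)]])
    emb_B2F4 embB_B2F4 (by decide +kernel)

def phiD4E6 : List (List (ℕ × ℤ)) := [[(18, 1)], [(20, 1)], [(21, 1)], [(23, 1)], [(24, 1)], [(25, 1)], [(27, -1)], [(28, -1)], [(31, 1)], [(32, 1)], [(29, 1)], [(34, 1)], [(37, 1)], [(42, 1)], [(39, 1)], [(40, 1)], [(43, -1)], [(44, -1)], [(46, 1)], [(47, 1)], [(48, 1)], [(50, 1)], [(51, 1)], [(53, 1)]]
def nodD4E6 : List (List ℕ) := [[1], [3], [2], [4]]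
theorem embA_D4E6 : chkEmbA chevD4 chevE6 phiD4E6 = true := by decide +kernel
theorem embB_D4E6 : chkEmbB certD4 certE6 chevD4 chevE6 phiD4E6 nodD4E6 = true := by decide +kernel
theorem embC_D4E6 : chkEmbC certD4 certE6 chevD4 chevE6 phiD4E6 = true := by decide +kernel
theorem emb_D4E6 : @Emb chevD4 chevE6 good2D4 good2E6 phiD4E6 (nodesOf _ _ nodD4E6) :=
  emb_of_chk (g := good2D4) (g' := good2E6) embA_D4E6 embB_D4E6 embC_D4E6 (by decide +kernel)
theorem ker_st_D4 (F : Type*) [Field F] : letI := good2D4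
    (st_R3 (D := chevD4) (F := F)).hT.ker = ⊥ :=
  ker_st_of_chk (g := good2D4) (g' := good2E6) (N := [[(8, -1), (37, -1), (16, -2)], [(37, -1), (16, -2)], [(4, -1)], [(16, -1)]])
    emb_D4E6 embB_D4E6 (by decide +kernel)

def phiE6E7 : List (List (ℕ × ℤ)) := [[(6, 1)], [(10, 1)], [(13, 1)], [(15, 1)], [(16, 1)], [(19, 1)], [(21, 1)], [(22, 1)], [(24, 1)], [(25, 1)], [(26, 1)], [(28, 1)], [(29, 1)], [(30, 1)], [(31, 1)], [(32, 1)], [(35, 1)], [(37, 1)], [(38, 1)], [(40, 1)], [(41, 1)], [(42, 1)], [(44, 1)], [(45, 1)], [(46, 1)], [(47, 1)], [(49, 1)], [(50, 1)], [(51, 1)], [(52, 1)], [(54, 1)], [(55, 1)], [(56, 1)], [(58, 1)], [(59, 1)], [(61, 1)], [(64, 1)], [(66, 1)], [(67, 1)], [(69, 1)], [(70, 1)], [(71, 1)], [(73, 1)], [(74, 1)], [(75, 1)], [(76, 1)], [(78, 1)], [(79, 1)], [(80, 1)], [(81, 1)], [(83, 1)], [(84, 1)], [(85, 1)], [(87, 1)], [(88, 1)], [(90, 1)], [(93, 1)], [(94, 1)], [(95, 1)], [(96,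 1)], [(97, 1)], [(99, 1)], [(100, 1)], [(101, 1)], [(103, 1)], [(104, 1)], [(106, 1)], [(109, 1)], [(110, 1)], [(112, 1)], [(115, 1)], [(119, 1)]]
def nodE6E7 : List (List ℕ) := [[0], [1], [2], [3], [4], [5]]
theorem embA_E6E7 : chkEmbA chevE6 chevE7 phiE6E7 = true := by decide +kernel
theorem embB_E6E7 : chkEmbB certE6 certE7 chevE6 chevE7 phiE6E7 nodE6E7 = true := by decide +kernel
theorem embC_E6E7 : chkEmbC certE6 certE7 chevE6 chevE7 phiE6E7 = true := by decide +kernel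
theorem emb_E6E7 : @Emb chevE6 chevE7 good2E6 good2E7 phiE6E7 (nodesOf _ _ nodE6E7) :=
  emb_of_chk (g := good2E6) (g' := good2E7) embA_E6E7 embB_E6E7 embC_E6E7 (by decide +kernel)
theorem ker_st_E6 (F : Type*) [Field F] : letI := good2E6
    (st_R3 (D := chevE6) (F := F)).hT.ker = ⊥ :=
  ker_st_of_chk (g := good2E6) (g' := good2E7) (N := [[(92, -1), (102, -1), (75, -1), (13, -1)], [(102, -1), (75, -1), (120, 1), (13, -1)], [(92, -2), (102, -2), (29, 1), (75, -1), (13, -2)], [(92, -1), (102, -3), (75, -2), (120, 1), (13, -2)], [(92, 1), (102, -1), (29, -1), (75, -1), (120, 1), (13, -1)], [(102, -1), (75, -1), (13, -1)]])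
    emb_E6E7 embB_E6E7 (by decide +kernel)

def phiE7E8 : List (List (ℕ × ℤ)) := [[(13, 1)], [(20, 1)], [(25, 1)], [(29, 1)], [(32, 1)], [(34, 1)], [(35, 1)], [(39, 1)], [(42, 1)], [(44, 1)], [(45, 1)], [(48, 1)], [(50, 1)], [(51, 1)], [(53, 1)], [(54, 1)], [(55, 1)], [(58, 1)], [(60, 1)], [(61, 1)], [(63, 1)], [(64, 1)], [(65, 1)], [(67, 1)], [(68, 1)], [(69, 1)], [(70, 1)], [(72, 1)], [(73, 1)], [(74, 1)], [(75, 1)], [(76, 1)], [(77, 1)], [(80, 1)], [(82, 1)], [(83, 1)], [(85, 1)], [(86, 1)], [(87, 1)], [(89, 1)], [(90, 1)], [(91, 1)], [(92, 1)], [(94, 1)], [(95, 1)], [(96, 1)], [(97, 1)], [(98, 1)], [(100, 1)], [(101, 1)], [(102, 1)], [(103, 1)], [(104, 1)], [(106, 1)], [(107, 1)], [(108, 1)], [(109, 1)], [(111, 1)], [(112, 1)], [(113, 1)], [(115, 1)], [(116, 1)], [(118, 1)], [(121, 1)], [(123, 1)], [(124, 1)], [(126, 1)], [(127, 1)], [(128, 1)], [(130, 1)], [(131, 1)], [(132, 1)], [(133, 1)], [(135,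 1)], [(136, 1)], [(137, 1)], [(138, 1)], [(139, 1)], [(141, 1)], [(142, 1)], [(143, 1)], [(144, 1)], [(145, 1)], [(147, 1)], [(148, 1)], [(149, 1)], [(150, 1)], [(152, 1)], [(153, 1)], [(154, 1)], [(156, 1)], [(157, 1)], [(159, 1)], [(162, 1)], [(163, 1)], [(164, 1)], [(165, 1)], [(166, 1)], [(167, 1)], [(169, 1)], [(170, 1)], [(171, 1)], [(172, 1)], [(174, 1)], [(175, 1)], [(176, 1)], [(178, 1)], [(179, 1)], [(181, 1)], [(184, 1)], [(185, 1)], [(186, 1)], [(188, 1)], [(189, 1)], [(191, 1)], [(194, 1)], [(195, 1)], [(197, 1)], [(200, 1)], [(204, 1)], [(205, 1)], [(207, 1)], [(210, 1)], [(214, 1)], [(219, 1)], [(226, 1)]]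
def nodE7E8 : List (List ℕ) := [[0], [1], [2], [3], [4], [5], [6]]
theorem embA_E7E8 : chkEmbA chevE7 chevE8 phiE7E8 = true := by decide +kernel
theorem embB_E7E8 : chkEmbB certE7 certE8 chevE7 chevE8 phiE7E8 nodE7E8 = true := by decide +kernel
theorem embC_E7E8 : chkEmbC certE7 certE8 chevE7 chevE8 phiE7E8 = true := by decide +kernel
theorem emb_E7E8 : @Emb chevE7 chevE8 good2E7 good2E8 phiE7E8 (nodesOf _ _ nodE7E8) :=
  emb_of_chk (g := good2E7) (g' := good2E8) embA_E7E8 embB_E7E8 embC_E7E8 (by decide +kernel)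
theorem ker_st_E7 (F : Type*) [Field F] : letI := good2E7
    (st_R3 (D := chevE7) (F := F)).hT.ker = ⊥ :=
  ker_st_of_chk (g := good2E7) (g' := good2E8) (N := [[(6, -1), (7, -1)], [(27, 1), (82, -1), (8, 1), (6, -2), (7, -1)], [(27, 1), (82, -1), (8, 1), (6, -2), (7, -2)], [(27, 2), (82, -2), (8, 1), (6, -3), (7, -2)], [(164, -1), (27, 1), (82, -1), (6, -2), (7, -2)], [(59, 1), (164, -1), (8, -1), (6, -1), (7, -1)], [(59, 1), (27, -1), (8, -1)]])
    emb_E7E8 embB_E7E8 (by decide +kernel)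

end Cfsg.Agent.Chev
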