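import Mathlib
import Cfsg.Agent.Chev.Homo

/-! Certificates for homocyclic Sylow subgroups. -/

set_option autoImplicit false
set_option maxHeartbeats 400000
set_option maxRecDepth 100000

namespace Cfsg.Agent.Chev
open Cfsg.Lie

def hoEG2 : List (List ℕ × List ℕ × List (List ℤ) × ℤ × List ℕ) :=
  [([], [], [], 1, []),
   ([], [7, 6], [[2, 1], [3, 2]], 1, []),
   ([1, 0, 1, 0, 1, 0], [2, 1], [[-1, -1], [0, 1]], 2, [1]),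
   ([0, 1, 0, 1], [6], [[0, 1]], 3, [1]),
   ([], [], [], 1, []),
   ([], [], [], 1, []),
   ([0, 1], [3], [[-1, -1]], 6, [3, 2])]
theorem homo_G2 : (lall [2, 6] (Nat.blt · 31) && Nat.beq ([2, 6].prod % 2) 0 &&
    allN 31 fun d => certG2.chkHomo chevG2 [2, 6].prod
      ([2, 6].filter (d ∣ ·)).length d (hoEG2.getD d ([], [], [], 1, []))) = true := by
  decide +kernel

def hoEB2 : List (List ℕ × List ℕ × List (List ℤ) × ℤ × List ℕ) :=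
  [([], [], [], 1, []),
   ([], [5, 4], [[2, 1], [2, 2]], 2, []),
   ([1, 0, 1, 0], [2, 6], [[-1, 0], [1, 1]], 4, [1]),
   ([], [], [], 1, []),
   ([0, 1], [6], [[1, 1]], 4, [2])]
theorem homo_B2 : (lall [2, 4] (Nat.blt · 31) && Nat.beq ([2, 4].prod % 2) 0 &&
    allN 31 fun d => certB2.chkHomo chevB2 [2, 4].prod
      ([2, 4].filter (d ∣ ·)).length d (hoEB2.getD d ([], [], [], 1, []))) = true := by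
  decide +kernel

def hoED4 : List (List ℕ × List ℕ × List (List ℤ) × ℤ × List ℕ) :=
  [([], [], [], 1, []),
   ([], [18, 14, 13, 12], [[2, 2, 1, 1], [2, 4, 2, 2], [1, 2, 2, 1], [1, 2, 1, 2]], 2, []),
   ([3, 1, 2, 0, 1, 3, 0, 1, 2, 0, 1, 0], [9, 6, 5, 10], [[-1, -2, -1, 0], [-1, -2, -1, -2], [-2, -2, -1, -1], [0, 0, -1, 1]], 4, [1]),
   ([2, 1], [5], [[-1, 0, 0, 0]], 1, [1]),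
   ([2, 0, 1, 3, 0, 1], [15, 19], [[0, 1, 0, 1], [1, 1, 0, 0]], 4, [2]),
   ([], [], [], 1, []),
   ([2, 1, 3, 0], [5], [[-1, 0, 0, 0]], 2, [3, 2])]
theorem homo_D4 : (lall [2, 4, 4, 6] (Nat.blt · 31) && Nat.beq ([2, 4, 4, 6].prod % 2) 0 &&
    allN 31 fun d => certD4.chkHomo chevD4 [2, 4, 4, 6].prod
      ([2, 4, 4, 6].filter (d ∣ ·)).length d (hoED4.getD d ([], [], [], 1, []))) = true := by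
  decide +kernel

def hoEF4 : List (List ℕ × List ℕ × List (List ℤ) × ℤ × List ℕ) :=
  [([], [], [], 1, []),
   ([], [33, 27, 25, 24], [[2, 3, 2, 1], [3, 6, 4, 2], [4, 8, 6, 3], [2, 4, 3, 2]], 1, []),
   ([3, 2, 1, 2, 0, 1, 2, 3, 2, 1, 2, 0, 1, 2, 3, 2, 1, 2, 0, 1, 2, 0, 1, 0], [23, 38, 40, 30], [[2, 2, 1, 0], [1, 1, 0, 0], [1, 2, 2, 1], [-2, -2, -2, -1]], 2, [1]),
   ([2, 1, 2, 0, 1, 2, 3, 2, 1, 2, 0, 1, 2, 3, 1, 0], [4, 23], [[-1, 1, 0, 0], [-1, -1, 0, -1]], 3, [1]),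
   ([1, 2, 3, 1, 2, 0, 1, 2, 3, 2, 1, 0], [41, 42], [[0, -1, -1, -1], [1, 1, 1, 1]], 2, [2]),
   ([], [], [], 1, []),
   ([2, 1, 2, 0, 1, 2, 3, 0], [30, 24], [[-1, 1, 0, 0], [-1, 0, 0, 1]], 6, [3, 2]),
   ([], [], [], 1, []),
   ([2, 1, 2, 3, 0, 1], [22], [[0, 1, 0, 0]], 2, [4]),
   ([], [], [], 1, []),
   ([], [], [], 1, []),
   ([], [], [], 1, []),
   ([2, 1, 2, 3, 2, 0], [21], [[0, 1, 0, -1]], 6, [6, 4])]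
theorem homo_F4 : (lall [2, 6, 8, 12] (Nat.blt · 31) && Nat.beq ([2, 6, 8, 12].prod % 2) 0 &&
    allN 31 fun d => certF4.chkHomo chevF4 [2, 6, 8, 12].prod
      ([2, 6, 8, 12].filter (d ∣ ·)).length d (hoEF4.getD d ([], [], [], 1, []))) = true := by
  decide +kernel

def hoEE6 : List (List ℕ × List ℕ × List (List ℤ) × ℤ × List ℕ) :=
  [([], [], [], 1, []),
   ([], [56, 46, 42, 39, 37, 36], [[4, 3, 5, 6, 4, 2], [3, 6, 6, 9, 6, 3], [5, 6, 10, 12, 8, 4], [6, 9, 12, 18, 12, 6], [4, 6, 8, 12, 10, 5], [2, 3, 4, 6, 5, 4]], 3, []),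
   ([5, 4, 3, 0, 2, 1, 3, 4, 5, 4, 3, 2, 1, 3, 4, 2, 1, 0], [18, 22, 20, 4], [[0, 0, 0, -1, -1, 0], [-2, -1, 0, -2, 0, 0], [2, 0, 0, 2, 0, 0], [-2, 0, 0, -1, -1, 0]], 2, [1]),
   ([5, 4, 3, 2, 1, 3, 4, 5, 1, 3, 4, 2, 3, 0, 2, 1, 3, 4, 3, 2, 1, 3, 2, 0], [9, 10, 19], [[0, 0, 0, 1, 0, 1], [-1, 0, -1, 0, 1, 0], [1, -1, 0, 0, 0, 0]], 3, [1]),
   ([5, 4, 2, 3, 0, 2, 1, 3, 4, 2, 3, 0, 2, 0], [44, 52], [[0, 0, 0, 0, 1, 0], [-1, 0, 0, 0, 0, 0]], 2, [2]),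
   ([3, 4, 3, 0, 2, 1], [69], [[0, -1, 0, -1, 0, 0]], 1, [1]),
   ([5, 4, 3, 2, 1, 3, 4, 2, 1, 3, 2, 0], [54, 7], [[-1, 0, 0, 1, 0, 0], [-1, -1, 0, -1, 0, 0]], 6, [3, 2]),
   ([], [], [], 1, []),
   ([4, 5, 2, 1, 3, 4, 3, 2, 0], [62], [[0, 0, 1, 1, 1, 0]], 2, [4]),
   ([5, 2, 1, 3, 4, 0, 2, 3, 2, 0], [52], [[0, 0, 1, 0, 1, 1]], 3, [3]),
   ([], [], [], 1, []),
   ([], [], [], 1, []),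
   ([4, 5, 2, 1, 3, 4, 3, 0, 2, 0], [46], [[-1, 1, 0, 0, 0, 0]], 6, [6, 4])]
theorem homo_E6 : (lall [2, 5, 6, 8, 9, 12] (Nat.blt · 31) && Nat.beq ([2, 5, 6, 8, 9, 12].prod % 2) 0 &&
    allN 31 fun d => certE6.chkHomo chevE6 [2, 5, 6, 8, 9, 12].prod
      ([2, 5, 6, 8, 9, 12].filter (d ∣ ·)).length d (hoEE6.getD d ([], [], [], 1, []))) = true := by
  decide +kernel

def hoEE7 : List (List ℕ × List ℕ × List (List ℤ) × ℤ × List ℕ) :=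
  [([], [], [], 1, []),
   ([], [93, 78, 73, 69, 66, 64, 63], [[4, 4, 6, 8, 6, 4, 2], [4, 7, 8, 12, 9, 6, 3], [6, 8, 12, 16, 12, 8, 4], [8, 12, 16, 24, 18, 12, 6], [6, 9, 12, 18, 15, 10, 5], [4, 6, 8, 12, 10, 8, 4], [2, 3, 4, 6, 5, 4, 3]], 2, []),
   ([6, 5, 4, 3, 2, 1, 3, 4, 5, 6, 0, 2, 3, 4, 5, 1, 3, 4, 2, 3, 0, 2, 1, 3, 4, 5, 6, 0, 2, 3, 4, 5, 1, 3, 4, 2, 3, 0, 2, 1, 3, 4, 5, 1, 3, 4, 2, 3, 0, 2, 1, 3, 4, 2, 3, 0, 2, 1, 3, 0, 2, 1, 0], [59, 99, 33, 104, 34, 29, 52], [[0, -1, 0, 0, -1, 0, 1], [2, 2, 2, 2, 2, 2, 2], [-2, -1, -2, -2, -3, -4, -3], [0, 2, 2, 4, 2, 0, -2], [0, -2, -2, -4, -2, 0, 0], [-2, 0, -2, -2, -2, -2, -2], [0, -1, -2, -2, -1, 0, 1]], 4, [1]),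
   ([2, 1, 3, 4, 5, 6, 0, 2, 3, 4, 5, 1, 3, 4, 2, 3, 0, 2, 1, 3, 4, 5, 6, 3, 2, 1, 3, 4, 5, 3, 0, 2, 1, 3, 4, 2, 3, 0, 2, 1, 3, 0], [10, 80, 58], [[-1, 0, -2, -2, -2, 0, 0], [1, 2, 0, 2, 1, -1, 0], [-1, 1, 0, 1, -1, -2, 0]], 3, [1]),
   ([2, 1, 3, 4, 5, 4, 3, 2, 1, 3, 4, 3, 2, 0], [103, 71], [[1, 0, 0, 0, 0, 0, 0], [-1, 0, -1, 0, 0, 0, 0]], 2, [2]),
   ([5, 6, 4, 5, 4, 2, 1, 3, 0, 2, 1], [117], [[0, 0, -1, -1, -1, 0, 0]], 1, [1]),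
   ([5, 4, 2, 3, 0, 2, 1, 3, 4, 5, 6, 4, 5, 2, 3, 4, 0, 2, 1, 3, 0], [20, 114, 16], [[-1, -1, -1, -2, 0, -1, 0], [0, 2, 1, 0, -1, -1, 0], [0, 1, -1, 0, 1, 1, 0]], 6, [3, 2]),
   ([5, 6, 2, 1, 3, 4, 5, 4, 2, 3, 0, 2, 1, 3, 4, 2, 1, 3, 2, 0], [27], [[-1, -1, 0, -1, -1, -1, 0]], 1, [1]),
   ([6, 5, 1, 3, 4, 0, 2, 3, 2, 0], [58], [[0, 0, 0, 0, -1, -1, 0]], 2, [4]),
   ([2, 1, 3, 4, 5, 6, 3, 4, 3, 0, 2, 1, 3, 0], [66], [[1, 0, 1, 0, 1, 0, 0]], 3, [3]),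
   ([5, 6, 4, 5, 2, 1, 3, 4, 0, 2, 3, 2], [51], [[1, 0, 0, 0, 0, 0, 0]], 2, [5, 2]),
   ([], [], [], 1, []),
   ([6, 5, 2, 1, 3, 4, 3, 2, 1, 3, 1, 0], [33], [[1, 1, -1, 0, 0, 0, 0]], 6, [6, 4]),
   ([], [], [], 1, []),
   ([6, 5, 2, 1, 3, 4, 0, 2, 3, 2, 0], [74], [[0, 1, 0, 1, 0, 1, 0]], 2, [7, 2]),
   ([], [], [], 1, []),
   ([], [], [], 1, []),
   ([], [], [], 1, []),
   ([4, 5, 6, 4, 5, 2, 1, 3, 0], [58], [[0, -1, 1, 0, -1, -1, 0]], 6, [9, 6])]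
theorem homo_E7 : (lall [2, 6, 8, 10, 12, 14, 18] (Nat.blt · 31) && Nat.beq ([2, 6, 8, 10, 12, 14, 18].prod % 2) 0 &&
    allN 31 fun d => certE7.chkHomo chevE7 [2, 6, 8, 10, 12, 14, 18].prod
      ([2, 6, 8, 10, 12, 14, 18].filter (d ∣ ·)).length d (hoEE7.getD d ([], [], [], 1, []))) = true := by
  decide +kernel

def hoEE8 : List (List ℕ × List ℕ × List (List ℤ) × ℤ × List ℕ) :=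
  [([], [], [], 1, []),
   ([], [162, 141, 135, 130, 126, 123, 121, 120], [[4, 5, 7, 10, 8, 6, 4, 2], [5, 8, 10, 15, 12, 9, 6, 3], [7, 10, 14, 20, 16, 12, 8, 4], [10, 15, 20, 30, 24, 18, 12, 6], [8, 12, 16, 24, 20, 15, 10, 5], [6, 9, 12, 18, 15, 12, 8, 4], [4, 6, 8, 12, 10, 8, 6, 3], [2, 3, 4, 6, 5, 4, 3, 2]], 1, []),
   ([7, 6, 5, 4, 3, 2, 1, 3, 4, 5, 6, 0, 2, 3, 4, 5, 1, 3, 4, 2, 3, 0, 2, 1, 3, 4, 5, 6, 7, 6, 5, 4, 3, 2, 1, 3, 4, 5, 6, 0, 2, 3, 4, 5, 1, 3, 4, 2, 3, 0, 2, 1, 3, 4, 5, 6, 7, 6, 5, 4, 3, 2, 1, 3, 4, 5, 6, 0, 2, 3, 4, 5, 1, 3, 4, 2, 3, 0, 2, 1, 3, 4, 5, 6, 0, 2, 3, 4, 5, 1, 3, 4, 2, 3, 0, 2, 1, 3, 4, 5, 1, 3, 4, 2, 3, 0, 2, 1, 3, 4, 2, 3, 0, 2, 1, 3, 0, 2, 1, 0], [78, 171, 202, 61, 237, 90, 5, 210], [[0, -1, 0, -1, -1, -1, -1, -1], [0,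 -1, -1, -2, -1, 0, 0, 0], [0, -1, 0, -1, 0, 0, 0, 0], [0, -1, 0, -1, -1, 0, 0, -1], [1, 1, 2, 3, 2, 2, 1, 0], [1, 1, 1, 2, 1, 1, 1, 0], [-1, -2, -2, -3, -2, -1, -1, -1], [0, 0, 0, 0, 0, 0, 0, -1]], 2, [1]),
   ([0, 2, 3, 4, 5, 6, 7, 6, 5, 4, 3, 2, 1, 3, 4, 5, 6, 0, 2, 3, 4, 5, 1, 3, 4, 2, 3, 0, 2, 1, 3, 4, 5, 6, 7, 1, 3, 4, 5, 6, 0, 2, 3, 4, 5, 1, 3, 4, 2, 3, 0, 2, 1, 3, 4, 5, 6, 4, 5, 1, 3, 4, 2, 3, 0, 2, 1, 3, 4, 5, 3, 2, 1, 3, 4, 3, 2, 1, 3, 1], [209, 49, 88, 155], [[2, 2, 3, 3, 1, 1, 1, 0], [-1, 0, -2, -2, -2, -1, -2, -1], [0, -2, 0, -1, -2, -2, 0, -1], [-1, -1, 0, 0, -1, -1, 0, 0]], 3, [1]),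
   ([3, 2, 1, 3, 4, 5, 6, 7, 5, 4, 3, 2, 1, 3, 4, 5, 6, 0, 2, 3, 4, 5, 1, 3, 4, 2, 3, 0, 2, 1, 3, 4, 5, 6, 7, 2, 3, 4, 5, 6, 4, 2, 3, 0, 2, 1, 3, 4, 5, 4, 3, 2, 1, 3, 4, 3, 0, 2, 1, 0], [21, 214, 27, 101], [[-1, -1, -1, -2, -2, -2, -1, -1], [0, 1, 1, 2, 1, 0, 0, 0], [0, 0, -1, -1, -1, 0, -1, 0], [0, 0, -1, -1, -1, 0, 0, 0]], 2, [2]),
   ([7, 6, 5, 4, 3, 0, 2, 1, 3, 4, 5, 6, 7, 6, 4, 5, 1, 3, 4, 2, 3, 0, 2, 1, 3, 4, 5, 6, 4, 5, 1, 3, 4, 2, 3, 0, 2, 1, 3, 4, 5, 2, 3, 4, 3, 2, 1, 3], [138, 132], [[0, -1, 3, 2, 1, 0, 0, -1], [-1, 0, -3, -1, 1, 2, 0, -1]], 5, [1]),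
   ([0, 2, 3, 4, 5, 6, 7, 6, 5, 1, 3, 4, 2, 3, 0, 2, 1, 3, 4, 5, 6, 5, 4, 2, 3, 0, 2, 1, 3, 4, 5, 2, 1, 3, 4, 3, 2, 1, 3, 1], [12, 80, 132, 239], [[-2, -2, -3, -3, -2, -2, 0, 0], [-1, -1, -2, -1, -1, -3, -1, 0], [0, 0, -1, 1, 1, 0, 0, 0], [0, 1, 2, 3, 3, 2, 2, 2]], 6, [3, 2]),
   ([7, 6, 5, 3, 4, 2, 3, 0, 2, 1, 3, 4, 5, 6, 7, 1, 3, 4, 5, 6, 3, 2, 1, 3, 4, 5, 4, 0, 2, 3, 1, 0], [17], [[0, 0, 0, 0, 1, 0, 0, 0]], 1, [1]),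
   ([6, 4, 5, 1, 3, 4, 2, 3, 0, 2, 1, 3, 4, 5, 6, 7, 0, 2, 3, 4, 5, 6, 0, 2, 1, 3, 4, 5, 4, 2, 3, 0, 2, 1, 3, 2], [179, 163], [[1, 1, 0, 1, 1, 1, 1, 0], [1, 0, 1, 0, 0, 0, 0, 0]], 4, [4]),
   ([3, 4, 5, 6, 7, 5, 6, 0, 2, 3, 4, 5, 3, 4, 3, 0, 2, 1, 3, 0, 2, 1], [108], [[0, 1, 1, 0, 1, 1, 1, 0]], 3, [3]),
   ([7, 6, 5, 4, 3, 0, 2, 1, 3, 4, 5, 6, 0, 2, 1, 3, 4, 5, 2, 3, 4, 2, 1, 3], [31, 119], [[-2, -3, -2, -1, 0, -1, 0, 0], [-2, 0, -1, -2, -3, -1, 0, -2]], 10, [5, 2]),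
   ([], [], [], 1, []),
   ([6, 5, 3, 4, 2, 3, 0, 2, 1, 3, 4, 5, 6, 7, 0, 2, 1, 3, 4, 5, 6, 3, 4, 5, 2, 1, 3, 4, 3, 0, 2, 0], [106, 99], [[0, 0, 0, -1, -1, -1, -1, 0], [0, 0, -1, -1, -1, -1, -1, -1]], 6, [6, 4]),
   ([], [], [], 1, []),
   ([3, 4, 5, 6, 7, 5, 6, 0, 2, 3, 4, 5, 4, 0, 2, 3, 2, 1, 0], [150], [[0, 0, -1, -1, 0, 0, 0, 0]], 2, [7, 2]),
   ([5, 6, 7, 0, 2, 3, 4, 5, 6, 5, 4, 3, 2, 1, 3, 4, 5, 4, 2, 3], [49], [[2, 1, -2, 0, -3, 1, 0, -2]], 15, [5, 3]),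
   ([], [], [], 1, []),
   ([], [], [], 1, []),
   ([6, 5, 3, 4, 2, 3, 0, 2, 1, 3, 4, 5, 6, 7, 6, 0, 2, 1, 3, 4, 5, 3, 4, 1, 3, 0], [186], [[1, 0, 1, 0, -1, -1, 0, 0]], 6, [9, 6]),
   ([], [], [], 1, []),
   ([6, 3, 4, 5, 1, 3, 4, 2, 3, 0, 2, 1, 3, 4, 5, 6, 7, 4, 5, 6, 3, 0, 2, 1, 3, 4, 5, 4, 2, 3, 0, 2, 1, 3, 4, 3, 0, 2, 1, 3, 1, 0], [67], [[-1, 0, 0, 1, 0, 0, -1, 1]], 10, [10, 4]),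
   ([], [], [], 1, []),
   ([], [], [], 1, []),
   ([], [], [], 1, []),
   ([6, 5, 4, 3, 2, 1, 3, 4, 5, 6, 7, 4, 2, 3, 0, 2, 1, 3, 4, 5, 6, 0, 2, 1, 3, 4, 5, 4, 2, 3, 0, 2, 1, 3, 2, 1], [86], [[1, 0, 0, -1, 0, 0, 0, -1]], 6, [12, 8]),
   ([], [], [], 1, []),
   ([], [], [], 1, []),
   ([], [], [], 1, []),
   ([], [], [], 1, []),
   ([], [], [], 1, []),
   ([3, 4, 5, 6, 7, 5, 6, 0, 2, 3, 4, 5, 4, 3, 0, 2, 1, 3], [117], [[3, -2, 0, 2, 4, 4, 0, -4]], 30, [15, 10, 6])]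
theorem homo_E8 : (lall [2, 8, 12, 14, 18, 20, 24, 30] (Nat.blt · 31) && Nat.beq ([2, 8, 12, 14, 18, 20, 24, 30].prod % 2) 0 &&
    allN 31 fun d => certE8.chkHomo chevE8 [2, 8, 12, 14, 18, 20, 24, 30].prod
      ([2, 8, 12, 14, 18, 20, 24, 30].filter (d ∣ ·)).length d (hoEE8.getD d ([], [], [], 1, []))) = true := by
  decide +kernel

end Cfsg.Agent.Chev
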