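import Mathlib
import Cfsg.Agent.Chev.Inv4
import Cfsg.Agent.Chev.All2
import Cfsg.Agent.Chev.GrCert

/-! Certificates for classes of involutions. -/

set_option autoImplicit false
set_option maxHeartbeats 400000
set_option maxRecDepth 100000

namespace Cfsg.Agent.Chev
open Cfsg.Lie Cfsg.Agent.BN StSys Tw

/-- certificate data -/
def nodesG2 : List (List ℕ × List (List ℕ) × List (ℕ × List ℕ × List ℕ)) :=
  [([], [[0], [1]], [(9, [], [9]), (11, [], [11])]),
   ([9], [[1]], [(6, [], [9, 6])]),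
   ([11], [[0]], [(7, [0, 1], [9, 6])]),
   ([9, 6], [], [])]
/-- certificate data -/
def redsG2 : List (List ℕ × List (ℕ × ℕ) × List ℕ × List ℕ × List ℕ) :=
  [([9, 6], [(8, 0), (4, 0)], [9], [], [9])]
/-- certificate data -/
def repsG2 : List (List ℕ) := [[11], [9]]
theorem oc_G2 : allN chevG2.rank (fun i => allN chevG2.nroots fun s =>
    !(ieq (certG2.ca chevG2 i s) 0) || commP chevG2 2 (chevG2.simple i) s) = true := by
  decide +kernel
theorem cab_G2 : allN chevG2.rank (fun i => allN chevG2.nroots fun s =>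
    Nat.blt (certG2.ca chevG2 i s).natAbs 4) = true := by decide +kernel
theorem tree_G2 : lall nodesG2 (certG2.chkNode chevG2 id (nodesG2.map (·.1))) = true := by
  decide +kernel
theorem red_G2 : lall redsG2 (certG2.chkRed chevG2 id false) = true := by decide +kernel
theorem fin_G2 : chkReds (nodesG2.map (·.1)) redsG2 ([] :: repsG2) = true := by decide +kernel
theorem comm_G2 : ∀ M ∈ repsG2, commL chevG2 M = true := by decide +kernel

/-- certificate data -/
def nodesF4 : List (List ℕ × List (List ℕ) × List (ℕ × List ℕ × List ℕ)) :=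
  [([], [[0], [1], [2], [3]], [(44, [], [44]), (47, [], [47])]),
   ([44], [[2], [3], [1]], [(29, [], [44, 29]), (32, [], [44, 32])]),
   ([47], [[0], [1], [2]], [(37, [0, 1, 2, 3], [44, 32]), (41, [], [47, 41])]),
   ([44, 29], [[1], [2]], [(28, [], [44, 29, 28]), (30, [], [44, 29, 30])]),
   ([44, 32], [[1], [3]], [(24, [], [44, 32, 24]), (27, [0, 1, 2, 3, 1, 2, 0], [44, 29, 30])]),
   ([47, 41], [[1], [2]], [(28, [0, 1, 2, 3, 1, 0], [44, 32, 24]), (30, [], [47, 41, 30])]),
   ([44, 29, 28], [[1]], [(27, [], [44, 29, 28, 27])]),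
   ([44, 29, 30], [[2]], [(25, [], [44, 29, 30, 25])]),
   ([44, 32, 24], [[1]], [(27, [0, 1, 2, 3, 1, 2, 0], [44, 29, 30, 25])]),
   ([47, 41, 30], [[2]], [(25, [], [47, 41, 30, 25])]),
   ([44, 29, 28, 27], [], []),
   ([44, 29, 30, 25], [], []),
   ([47, 41, 30, 25], [], [])]
/-- certificate data -/
def redsF4 : List (List ℕ × List (ℕ × ℕ) × List ℕ × List ℕ × List ℕ) :=
  [([44, 29], [(41, 0)], [29, 47], [0, 1, 2, 1, 0], [47, 44]),
   ([44, 32], [], [44, 32], [1, 0], [39, 45]),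
   ([47, 41], [(29, 0)], [41, 44], [3, 2, 1, 2, 3], [47, 44]),
   ([44, 29, 46], [(41, 0), (24, 0)], [29, 46], [2, 1, 0], [39, 45]),
   ([44, 29, 28], [(5, 0)], [44, 29, 46], [], [44, 29, 46]),
   ([44, 29, 30], [(41, 0), (37, 0), (36, 0)], [29, 30], [1, 2, 3, 1, 2, 1, 0], [39, 45]),
   ([44, 32, 24], [(28, 0)], [24, 29, 44], [2, 1, 2, 0, 1, 2, 1, 0], [44, 29, 46]),
   ([30, 47, 44], [(6, 0)], [30, 44, 29], [], [44, 29, 30]),
   ([47, 41, 30], [(18, 0)], [30, 47, 44], [], [30, 47, 44]),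
   ([44, 29, 28, 27], [(36, 0), (35, 0), (34, 0), (14, 0)], [27, 29, 28], [2, 0, 1, 2, 3, 2, 1, 2, 0], [44, 29, 28]),
   ([44, 29, 30, 25], [(27, 0), (26, 0), (23, 0)], [25, 29, 44], [0, 1, 2, 0, 1, 0], [44, 29, 30]),
   ([47, 41, 30, 25], [(42, 0), (31, 0), (30, 0), (26, 0)], [41, 25, 30], [3, 1, 2, 0, 1, 2, 3, 1], [47, 41, 30])]
/-- certificate data -/
def repsF4 : List (List ℕ) := [[47], [44], [47, 44], [39, 45]]
theorem oc_F4 : allN chevF4.rank (fun i => allN chevF4.nroots fun s =>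
    !(ieq (certF4.ca chevF4 i s) 0) || commP chevF4 2 (chevF4.simple i) s) = true := by
  decide +kernel
theorem cab_F4 : allN chevF4.rank (fun i => allN chevF4.nroots fun s =>
    Nat.blt (certF4.ca chevF4 i s).natAbs 3) = true := by decide +kernel
theorem tree_F4 : lall nodesF4 (certF4.chkNode chevF4 id (nodesF4.map (·.1))) = true := by
  decide +kernel
theorem red_F4 : lall redsF4 (certF4.chkRed chevF4 id false) = true := by decide +kernel
theorem fin_F4 : chkReds (nodesF4.map (·.1)) redsF4 ([] :: repsF4) = true := by decide +kernel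
theorem comm_F4 : ∀ M ∈ repsF4, commL chevF4 M = true := by decide +kernel

/-- certificate data -/
def nodesE6 : List (List ℕ × List (List ℕ) × List (ℕ × List ℕ × List ℕ)) :=
  [([], [[0], [2], [3], [1], [4], [5]], [(71, [], [71])]),
   ([71], [[0], [2], [3], [4], [5]], [(60, [], [71, 60])]),
   ([71, 60], [[2], [3], [4]], [(44, [], [71, 60, 44])]),
   ([71, 60, 44], [[3]], [(39, [], [71, 60, 44, 39])]),
   ([71, 60, 44, 39], [], [])]
/-- certificate data -/
def redsE6 : List (List ℕ × List (ℕ × ℕ) × List ℕ × List ℕ × List ℕ) :=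
  [([71, 60], [], [71, 60], [4, 3, 1], [68, 66]),
   ([71, 60, 44], [], [71, 60, 44], [0, 2, 3, 1, 0], [55, 65, 67]),
   ([71, 60, 44, 39], [(51, 0), (25, 0), (24, 0), (8, 0)], [60, 39, 71], [5, 3, 4, 3, 0, 2, 1], [55, 65, 67])]
/-- certificate data -/
def repsE6 : List (List ℕ) := [[71], [68, 66], [55, 65, 67]]
theorem oc_E6 : allN chevE6.rank (fun i => allN chevE6.nroots fun s =>
    !(ieq (certE6.ca chevE6 i s) 0) || commP chevE6 2 (chevE6.simple i) s) = true := by
  decide +kernel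
theorem cab_E6 : allN chevE6.rank (fun i => allN chevE6.nroots fun s =>
    Nat.blt (certE6.ca chevE6 i s).natAbs 3) = true := by decide +kernel
theorem tree_E6 : lall nodesE6 (certE6.chkNode chevE6 id (nodesE6.map (·.1))) = true := by
  decide +kernel
theorem red_E6 : lall redsE6 (certE6.chkRed chevE6 id false) = true := by decide +kernel
theorem fin_E6 : chkReds (nodesE6.map (·.1)) redsE6 ([] :: repsE6) = true := by decide +kernel
theorem comm_E6 : ∀ M ∈ repsE6, commL chevE6 M = true := by decide +kernel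
theorem nc_E6 : ([] :: repsE6).Pairwise fun a b => certE6.chkNC chevE6 a b = true := by
  decide +kernel

/-- certificate data -/
def nodestE6 : List (List ℕ × List (List ℕ) × List (ℕ × List ℕ × List ℕ)) :=
  [([], [[4, 2], [3], [1], [5, 0]], [(68, [], [68, 66]), (71, [], [71])]),
   ([68, 66], [[1], [3], [2, 3, 4, 3, 2]], [(53, [], [68, 66, 53])]),
   ([71], [[4, 2], [3], [5, 0]], [(59, [5, 4, 0, 2, 3, 1], [68, 66, 53]), (60, [], [71, 60])]),
   ([68, 66, 53], [[1]], [(46, [], [68, 66, 53, 46])]),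
   ([71, 60], [[3], [4, 2]], [(43, [0, 2, 3, 4, 5, 4, 3, 2, 1, 0], [68, 66, 53, 46]), (44, [], [71, 60, 44])]),
   ([68, 66, 53, 46], [], []),
   ([71, 60, 44], [[3]], [(39, [], [71, 60, 44, 39])]),
   ([71, 60, 44, 39], [], [])]
/-- certificate data -/
def redstE6 : List (List ℕ × List (ℕ × ℕ) × List ℕ × List ℕ × List ℕ) :=
  [([68, 66, 53], [], [68, 66, 53], [5, 0], [55, 65, 67]),
   ([60, 68, 66], [(21, 1), (23, 0), (23, 1)], [66, 68], [], [68, 66]),
   ([71, 60], [(48, 0), (50, 0)], [60, 68, 66], [], [60, 68, 66]),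
   ([68, 66, 53, 46], [(48, 1), (50, 0), (50, 1), (28, 0), (31, 0), (11, 0)], [68, 53, 66], [5, 0], [55, 65, 67]),
   ([60, 59, 45, 71], [(36, 1), (56, 0), (56, 1)], [45, 71, 59], [4, 2, 3, 1], [55, 65, 67]),
   ([71, 60, 44], [(15, 0), (35, 0)], [60, 59, 45, 71], [], [60, 59, 45, 71]),
   ([71, 60, 44, 39], [(63, 0), (25, 0), (24, 0), (20, 0)], [39, 44, 71], [0, 2, 1, 3, 4, 5, 2, 3, 4, 3, 0, 2, 1, 0], [71, 60, 44])]
/-- certificate data -/
def repstE6 : List (List ℕ) := [[71], [68, 66], [55, 65, 67]]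
theorem tree_tE6 : lall nodestE6 (certE6.chkNode chevE6 (byte gPE6) (nodestE6.map (·.1))) = true := by
  decide +kernel
theorem red_tE6 : lall redstE6 (certE6.chkRed chevE6 (byte gPE6) true) = true := by decide +kernel
theorem fin_tE6 : chkReds (nodestE6.map (·.1)) redstE6 ([] :: repstE6) = true := by decide +kernel
theorem comm_tE6 : ∀ M ∈ repstE6, commL chevE6 M = true := by decide +kernel

/-- certificate data -/
def nodestD4 : List (List ℕ × List (List ℕ) × List (ℕ × List ℕ × List ℕ)) :=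
  [([], [[1], [3, 2, 0], [2, 0, 1, 3, 1, 2, 0]], [(19, [3, 2, 0], [17, 20, 21]), (20, [], [17, 20, 21]), (21, [], [17, 20, 21]), (23, [], [23])]),
   ([17, 20, 21], [[1]], [(14, [], [17, 20, 21, 14])]),
   ([23], [[3, 2, 0]], [(12, [3, 2, 0, 1], [17, 20, 21, 14]), (13, [3, 2, 0, 1], [17, 20, 21, 14]), (18, [3, 2, 0, 1], [17, 20, 21, 14])]),
   ([17, 20, 21, 14], [], [])]
/-- certificate data -/
def redstD4 : List (List ℕ × List (ℕ × ℕ) × List ℕ × List ℕ × List ℕ) :=
  [([17, 20, 21], [], [17, 20, 21], [], [21, 20, 17]),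
   ([17, 20, 21, 14], [(15, 0), (19, 0), (16, 0), (5, 0), (10, 0), (11, 0)], [21, 20, 17], [], [21, 20, 17])]
/-- certificate data -/
def repstD4 : List (List ℕ) := [[23], [21, 20, 17]]
theorem oc_D4 : allN chevD4.rank (fun i => allN chevD4.nroots fun s =>
    !(ieq (certD4.ca chevD4 i s) 0) || commP chevD4 2 (chevD4.simple i) s) = true := by
  decide +kernel
theorem cab_D4 : allN chevD4.rank (fun i => allN chevD4.nroots fun s =>
    Nat.blt (certD4.ca chevD4 i s).natAbs 3) = true := by decide +kernel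
theorem tree_tD4 : lall nodestD4 (certD4.chkNode chevD4 (byte gPD4a) (nodestD4.map (·.1))) = true := by
  decide +kernel
theorem red_tD4 : lall redstD4 (certD4.chkRed chevD4 (byte gPD4a) false) = true := by decide +kernel
theorem fin_tD4 : chkReds (nodestD4.map (·.1)) redstD4 ([] :: repstD4) = true := by decide +kernel
theorem comm_tD4 : ∀ M ∈ repstD4, commL chevD4 M = true := by decide +kernel
theorem nc_tD4 : ([] :: repstD4).Pairwise fun a b => certD4.chkNC chevD4 a b = true := by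
  decide +kernel

/-- certificate data -/
def nodestF4 : List (List ℕ × List (List ℕ) × List (ℕ × List ℕ × List ℕ)) :=
  [([], [[3, 0], [2, 1, 2, 1]], [(39, [], [39, 45]), (44, [], [44, 47]), (45, [], [39, 45]), (47, [], [44, 47])]),
   ([39, 45], [[3, 0]], [(24, [], [39, 45, 24, 33]), (33, [2, 1, 2, 3, 1, 2, 0, 1, 2, 1], [39, 45, 24, 33])]),
   ([44, 47], [[2, 1, 2, 1]], [(28, [], [44, 47, 28, 30]), (30, [3, 2, 0, 1, 2, 3, 1, 0], [44, 47, 28, 30])]),
   ([39, 45, 24, 33], [], []),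
   ([44, 47, 28, 30], [], [])]
/-- certificate data -/
def redstF4 : List (List ℕ × List (ℕ × ℕ) × List ℕ × List ℕ × List ℕ) :=
  [([44, 47], [], [44, 47], [], [47, 44]),
   ([39, 45, 24, 33], [(26, 0), (34, 0), (36, 0), (20, 0), (22, 0), (17, 0), (10, 0), (15, 0)], [45, 39], [], [39, 45]),
   ([28, 30, 32, 37], [(13, 0), (21, 0), (11, 0)], [37, 32], [2, 1, 2, 3, 1, 0], [39, 45]),
   ([44, 47, 28, 30], [(29, 0), (41, 0), (44, 0), (26, 0), (34, 0), (36, 0)], [28, 30, 32, 37], [], [28, 30, 32, 37])]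
/-- certificate data -/
def repstF4 : List (List ℕ) := [[47, 44], [39, 45]]
theorem tree_tF4 : lall nodestF4 (certF4.chkNode chevF4 (byte gPF4) (nodestF4.map (·.1))) = true := by
  decide +kernel
theorem red_tF4 : lall redstF4 (certF4.chkRed chevF4 (byte gPF4) false) = true := by decide +kernel
theorem fin_tF4 : chkReds (nodestF4.map (·.1)) redstF4 ([] :: repstF4) = true := by decide +kernel
theorem comm_tF4 : ∀ M ∈ repstF4, commL chevF4 M = true := by decide +kernel

end Cfsg.Agent.Chev
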