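import Mathlib
import Cfsg.Agent.Chev.InvC1
import Cfsg.Agent.Chev.Cent2
import Cfsg.Agent.Chev.TwE6
import Cfsg.Agent.Chev.TwD4

/-! Classes of involutions in groups of type `G₂`, `F₄`, `²E₆`, `³D₄`. -/

set_option autoImplicit false
set_option linter.unusedSectionVars false
set_option maxHeartbeats 400000
set_option maxRecDepth 100000

namespace Cfsg.Agent.Chev
open Cfsg.Lie Cfsg.Agent.BN StSys Tw

section
variable {D : ChevalleyDatum} [g : Good2 D] {F : Type*} [Field F] {G : Type*} [Group G]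

/-- long roots in a system with two root lengths -/
def Lg (r : Rt D) : Prop := ∃ s, s ≠ r ∧ 2 ≤ pr s r

instance instDecLg (r : Rt D) : Decidable (Lg r) := inferInstanceAs (Decidable (∃ _, _))

theorem lg_smul (w : W D) (r : Rt D) : Lg (w • r) ↔ Lg r :=
  ⟨fun ⟨s, h, h'⟩ => ⟨w⁻¹ • s, fun e => h (by rw [← e, smul_inv_smul]), by
    rwa [← pr_smul w, smul_inv_smul]⟩, fun ⟨s, h, h'⟩ => ⟨w • s, by simpa using h, by simpa⟩⟩

theorem nc_one (S : StSys D F G) (a : Rt D) {M' : List (Rt D)} {M : List ℕ}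
    (h : g.cert.chkLead D [a] M (M'.map Fin.val) = true ∧ ∀ b ∈ UpL M', ¬ (Lg b ↔ Lg a)) :
    S.NC (M'.map Fin.val) M := fun _ hy e =>
  (exists_cell hy).elim fun w hw =>
    h.2 _ (chkLead_spec S (A := [a]) h.1 hw e a (by simp)) (lg_smul w a)

theorem Tw.f_zN {S : StSys D F G} {σ : Sym D} (T : Tw S σ) (h1 : ∀ r, T.φ r 1 = 1)
    (L : List (Rt D)) : T.f (S.zN (L.map Fin.val)) = S.zN ((L.map σ.p).map Fin.val) := by
  rw [← z_eq, ← z_eq, z, T.f_prd, z, prd, List.map_map]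
  simp only [h1, Function.comp_def]

theorem Tw.lead {S : StSys D F G} {σ : Sym D} (T : Tw S σ) (h1 : ∀ r, T.φ r 1 = 1) (c : Rt D)
    {M M' : List (Rt D)}
    (h : g.cert.chkLead D [σ.p c] ((M.map σ.p).map Fin.val) ((M'.map σ.p).map Fin.val) = true)
    {y : G} {w : W D} (hy : y ∈ S.cell w)
    (e : y * S.zN (M.map Fin.val) * y⁻¹ = S.zN (M'.map Fin.val)) :
    σ.p (w • c) ∈ UpL (M'.map σ.p) :=
  σ.ρ_smul w c ▸ chkLead_spec S (A := [σ.p c]) h (T.mem_cell hy) (by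
    rw [← T.f_zN h1, ← T.f_conj (cell_le_grp hy) (zN_mem _ _), e, T.f_zN h1]) _ (by simp)

theorem Tw.nc_two {S : StSys D F G} {σ : Sym D} (T : Tw S σ) (h1 : ∀ r, T.φ r 1 = 1) (c : Rt D)
    {M M' : List (Rt D)}
    (h : g.cert.chkLead D [σ.p c] ((M.map σ.p).map Fin.val) ((M'.map σ.p).map Fin.val) = true ∧
      ∀ b, σ.p b ∈ UpL (M'.map σ.p) → ¬ (Lg b ↔ Lg c)) :
    S.NC (M'.map Fin.val) (M.map Fin.val) := fun _ hy e =>
  (exists_cell hy).elim fun w hw => h.2 _ (T.lead h1 c h.1 hw e) (lg_smul w c)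

theorem red_three [Fintype F] [CharP F 2] {σ : Sym D} {T : Tw (glSys D F) σ}
    (h : ∀ i s, ca i s = 0 → commP D 2 (sim i : Rt D) s = true) {J : Set (Ix D)} {i : Ix D}
    (hb : A1 σ J (sim i)) (hp : σ.p (sim i) = sim i) (h1 : T.φ (ng (sim i)) 1 = 1)
    (hv : ∀ v, ((3 : ℕ) : ℤ) ∣ ca i v → ca i v = 0) {E : Set (Rt D)} (hE : ∀ s, PhiK J s → Prp E s)
    (hz : (glSys D F).z (σ.orb (sim i)) ∈ T.Fx ⊓ (glSys D F).XS {r | PhiK J r})
    (hzz : (glSys D F).z (σ.orb (sim i)) * (glSys D F).z (σ.orb (sim i)) = 1) :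
    Red T J {r | Prp E r ∧ Pos r ∧ ¬ PhiK J r} ((glSys D F).z (σ.orb (sim i))) := by
  haveI : NeZero ((3 : ℕ) : F) := ⟨by rw [Ne, CharP.cast_eq_zero_iff F 2]; decide⟩
  obtain ⟨c, hc⟩ := HasEnoughRootsOfUnity.exists_primitiveRoot (AlgebraicClosure F) 3
  have e : σ.orb (sim i) = [sim i] := if_pos hp
  have h0 := hc.ne_zero three_ne_zero
  refine red_A1 (algebraMap F _) h hb.orth hb.phi (τ := fun _ => 1) (c := fun _ => c) (n := 1)
    Nat.prime_three (by decide) (fun r _ => ⟨h0, fun h2 => ?_, ?_, hc.pow_eq_one⟩)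
    (fun v _ _ h2 => ?_) ?_ hE hz hzz
  · exact hc.pow_ne_one_of_pos_of_lt (l := 2) (by decide) (by decide) (by rw [pow_two, h2])
  · have := hc.geom_sum_eq_zero (by decide)
    simp only [Finset.sum_range_succ, Finset.sum_range_zero] at this
    rw [map_one, ← eq_inv_of_mul_eq_one_left (pow_succ c 2 ▸ hc.pow_eq_one :)]
    linear_combination this - (c + c ^ 2) * CharTwo.two_eq_zero (R := AlgebraicClosure F)
  · simp only [e, List.map_singleton, List.prod_singleton, pr_sim, List.mem_singleton,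
      forall_eq] at h2 ⊢
    exact hv v ((hc.zpow_eq_one_iff_dvd _).mp h2)
  · simp only [e, zm, List.map_singleton, List.prod_singleton]
    exact (x_mem_Fx (by rw [σ.p_ng, hp])).mpr h1

theorem card_eq_two_pow [Fintype F] [CharP F 2] {q k : ℕ} (hK : Fintype.card F = q ^ (k + 1)) :
    ∃ f, q = 2 ^ (f + 1) := by
  obtain ⟨n, -, hn⟩ := FiniteField.card F 2
  obtain ⟨f, -, rfl⟩ := (Nat.dvd_prime_pow Nat.prime_two).mp
    (hn ▸ hK ▸ dvd_pow_self q k.succ_ne_zero : q ∣ 2 ^ (n : ℕ))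
  cases f with
  | zero => exact absurd (by simpa using hK) Fintype.one_lt_card.ne'
  | succ f => exact ⟨f, rfl⟩

theorem map_eq_pow {F' : Type*} [Field F'] [CharP F' 2] (ι : F →+* F') {τ : F} {c : F'}
    (h : ι τ = c + c⁻¹) (f : ℕ) : ι (τ ^ 2 ^ f) = c ^ 2 ^ f + (c ^ 2 ^ f)⁻¹ := by
  rw [map_pow, h, add_pow_char_pow, inv_pow]

end

variable {F : Type*} [Field F] [Fintype F] [CharP F 2]

section G2
attribute [local instance] good2G2

theorem nc_G2 : ([] :: repsG2).Pairwise (glSys chevG2 F).NC := by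
  simp only [repsG2, List.pairwise_cons, List.forall_mem_cons, List.not_mem_nil, List.Pairwise.nil,
    IsEmpty.forall_iff, implies_true, and_true]
  exact ⟨⟨nc_one _ (rG2 11) (M' := []) (by decide +kernel),
    nc_one _ (rG2 9) (M' := []) (by decide +kernel)⟩,
    nc_one _ (rG2 9) (M' := [rG2 11]) (by decide +kernel)⟩

theorem loc_G2 (hF : 4 ≤ Fintype.card F) :
    Loc (Tw.id (glSys chevG2 F)) (Orb.triv chevG2) sim := by
  obtain ⟨n, -, hn⟩ := FiniteField.card F 2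
  have h2 : 2 ∣ Fintype.card F := hn ▸ dvd_pow_self 2 n.ne_zero
  have key : ∀ m, 4 < m → Odd m → (m ∣ Fintype.card F - 1 ∨ m ∣ Fintype.card F + 1) →
      Loc (Tw.id (glSys chevG2 F)) (Orb.triv chevG2) sim := fun m hm ho hd => by
    by_cases h : ∃ l, l.Prime ∧ l ∣ m ∧ l ≠ 3
    · obtain ⟨l, h1, h3, h4⟩ := h
      have h5 : l ≠ 2 := fun e => ho.not_two_dvd_nat (e ▸ h3)
      refine loc_id (oc_of_chk oc_G2) (n := 1) h1 h5 (by
        rw [pow_one]; exact hd.imp h3.trans h3.trans) (dvd_ca_of_chk cab_G2 ?_)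
      exact (pow_one l).symm ▸ (by omega : 4 ≤ 5).trans (h1.five_le_of_ne_two_of_ne_three h5 h4)
    push Not at h
    have := Nat.eq_prime_pow_of_unique_prime_dvd ho.pos.ne' fun {l} => h l
    refine loc_id (oc_of_chk oc_G2) (n := m.primeFactorsList.length) Nat.prime_three (by decide)
      (this ▸ hd) (dvd_ca_of_chk cab_G2 (this ▸ hm.le))
  exact key (Fintype.card F + 1) (by omega) (Nat.odd_iff.mpr (by omega)) (Or.inr dvd_rfl)

end G2

section F4
attribute [local instance] good2F4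

theorem nc_F4_pair : (glSys chevF4 F).NC [47, 44] [39, 45] := fun y hy e => by
  obtain ⟨T, hT⟩ := exists_γF4 (F := F)
  obtain ⟨w, hw⟩ := exists_cell hy
  exact (by decide +kernel : ∀ a ∈ UpL [rF4 47, rF4 44], (Lg a ↔ Lg (rF4 39)) → ∀ c,
      symF4.p c ∈ UpL ([rF4 47, rF4 44].map symF4.p) → (Lg c ↔ Lg (rF4 45)) →
        pr a c ≠ pr (rF4 39) (rF4 45)) _
    (chkLead_spec _ (A := [rF4 39]) (M' := [rF4 47, rF4 44]) (by decide +kernel) hw e _ (by simp))
    (lg_smul w _) _ (T.lead (by simp [hT]) (rF4 45) (M := [rF4 39, rF4 45]) (by decide +kernel) hw e)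
    (lg_smul w _) (pr_smul w _ _)

theorem nc_F4 : ([] :: repsF4).Pairwise (glSys chevF4 F).NC := by
  obtain ⟨T, hT⟩ := exists_γF4 (F := F)
  simp only [repsF4, List.pairwise_cons, List.forall_mem_cons, List.not_mem_nil, List.Pairwise.nil,
    IsEmpty.forall_iff, implies_true, and_true]
  exact ⟨⟨nc_one _ (rF4 47) (M' := []) (by decide +kernel),
    nc_one _ (rF4 44) (M' := []) (by decide +kernel),
    nc_one _ (rF4 44) (M' := []) (by decide +kernel),
    nc_one _ (rF4 39) (M' := []) (by decide +kernel)⟩,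
    ⟨nc_one _ (rF4 44) (M' := [rF4 47]) (by decide +kernel),
    nc_one _ (rF4 44) (M' := [rF4 47]) (by decide +kernel),
    nc_one _ (rF4 39) (M' := [rF4 47]) (by decide +kernel)⟩,
    ⟨T.nc_two (by simp [hT]) (rF4 47) (M := [rF4 47, rF4 44]) (M' := [rF4 44]) (by decide +kernel),
    T.nc_two (by simp [hT]) (rF4 45) (M := [rF4 39, rF4 45]) (M' := [rF4 44]) (by decide +kernel)⟩,
    nc_F4_pair⟩

end F4

section E6
attribute [local instance] good2E6

/-- representatives of the orbits -/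
def bE6 (a : Fin 4) : Ix chevE6 := nE6 (![1, 3, 2, 0] a)

theorem a1_E6 (a : Fin 4) : A1 symE6 (orbE6.J a) (sim (bE6 a)) := by
  refine ⟨?_, ?_, ?_, ?_, ?_⟩ <;> revert a <;>
    (try simp only [PhiK, PM, Orb.J, Set.mem_setOf_eq]) <;> decide +kernel

theorem CE6.φ_eq {q : ℕ} (C : CE6 F q) (r : Rt chevE6) (t : F) : C.T.φ r t = C.ψ t := by
  rw [C.hT]; unfold sgn; cases Nat.beq _ _ <;> simp [show Int.neg 1 = -1 from rfl, CharTwo.neg_eq]

theorem CE6.loc {q : ℕ} (C : CE6 F q) (hK : Fintype.card F = q ^ 2) :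
    Loc C.T orbE6 fun a => sim (bE6 a) := by
  have oc := oc_of_chk oc_E6
  obtain ⟨f, hq⟩ := card_eq_two_pow hK
  refine ⟨gl_inj, fun r => by simp [C.φ_eq], OC.of_sim oc, fun a => (a1_E6 a).span,
    fun a => (a1_E6 a).adm, fun a => (a1_E6 a).scale (OC.of_sim oc) (ψ := fun _ => C.ψ)
      (fun r _ => C.φ_eq r) gl_R3, fun a E _ hE => ?_⟩
  by_cases hp : symE6.p (sim (bE6 a)) = sim (bE6 a)
  · exact red_three oc (a1_E6 a) hp (by simp [C.φ_eq]) (dvd_ca_of_chk cab_E6 le_rfl _) hE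
  have e1 : symE6.p (symE6.p (sim (bE6 a))) = sim (bE6 a) := by clear hE hp; revert a; decide +kernel
  have e : symE6.orb (sim (bE6 a)) = [sim (bE6 a), symE6.p (sim (bE6 a))] := by
    rw [Sym.orb, if_neg hp, if_pos e1]
  have ho : Odd (q ^ 2 + 1) := (Even.pow_of_ne_zero (by simp [hq, Nat.even_pow]) two_ne_zero).add_one
  have hl : (q ^ 2 + 1).minFac.Prime := Nat.minFac_prime (by simp [hq])
  have hd := (q ^ 2 + 1).minFac_dvd
  generalize (q ^ 2 + 1).minFac = l at hl hd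
  have hl2 : l ≠ 2 := fun e => ho.not_two_dvd_nat (e ▸ hd)
  obtain ⟨c, τ, hc, h1⟩ := exists_lam (F := F) (hl.odd_of_ne_two hl2) (Or.inr (hK ▸ hd))
  have h0 := hc.ne_zero hl.ne_zero
  have hP : Prime (l : ℤ) := Nat.prime_iff_prime_int.mp hl
  have hd' : (l : ℤ) ∣ q ^ 2 + 1 := by exact_mod_cast hd
  have h2 : ¬ (l : ℤ) ∣ 2 := fun h => hl2 ((Nat.prime_dvd_prime_iff_eq hl Nat.prime_two).mp
    (by exact_mod_cast h))
  have hq' : ¬ (l : ℤ) ∣ q := fun h => h2 (hP.dvd_of_dvd_pow (by simpa [hq] using h))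
  refine red_A1 (algebraMap F _) oc (a1_E6 a).orth (a1_E6 a).phi
    (τ := fun r => if r = sim (bE6 a) then τ else τ ^ q)
    (c := fun r => if r = sim (bE6 a) then c else c ^ q) (n := 1) hl hl2 ?_ (fun v _ hv h3 => ?_)
    ((a1_E6 a).zm_mem (OC.of_sim oc) (ψ := fun _ => C.ψ) (fun r _ => C.φ_eq r) ?_) hE
  · simp only [e, List.forall_mem_cons, if_pos, if_neg hp, pow_one, hc.pow_eq_one, ← pow_mul,
      mul_comm q l, pow_mul c l, one_pow]
    refine ⟨⟨h0, fun h => h2 ?_, h1, trivial⟩, ⟨pow_ne_zero _ h0, fun h => ?_,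
      hq ▸ map_eq_pow _ h1 _, trivial⟩, by simp⟩
    · exact (hc.zpow_eq_one_iff_dvd _).mp (by rw [← h, zpow_two])
    · rw [← pow_add, hc.pow_eq_one_iff_dvd, ← two_mul, ← Int.natCast_dvd_natCast] at h
      exact (hP.dvd_or_dvd (by simpa using h)).elim h2 hq'
  · simp only [e, List.map_cons, List.map_nil, List.prod_cons, List.prod_nil, if_pos, if_neg hp,
      mul_one, List.forall_mem_cons] at h3 ⊢
    rw [← zpow_natCast, ← zpow_mul, ← zpow_add₀ h0, hc.zpow_eq_one_iff_dvd] at h3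
    have h4 : (pr (sim (bE6 a)) v).natAbs ≤ 1 ∧ (pr (symE6.p (sim (bE6 a))) v).natAbs ≤ 1 := by
      clear hE h3 e e1 hp
      revert a v
      simp only [PhiK, Orb.J, Set.mem_setOf_eq]; decide +kernel
    generalize pr (sim (bE6 a)) v = m, pr (symE6.p (sim (bE6 a))) v = n at h3 h4
    have h5 : (l : ℤ) ∣ m ^ 2 + n ^ 2 := by
      have := (h3.mul_left (m - q * n)).add (hd'.mul_left (n ^ 2))
      rwa [show (m - q * n) * (m + q * n) + n ^ 2 * (q ^ 2 + 1) = m ^ 2 + n ^ 2 by ring] at this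
    have h6 : ¬ (l : ℤ) ∣ 1 := hP.not_dvd_one
    obtain rfl | rfl | rfl : m = -1 ∨ m = 0 ∨ m = 1 := by omega
    all_goals obtain rfl | rfl | rfl : n = -1 ∨ n = 0 ∨ n = 1 := by omega
    all_goals first | exact absurd h5 h2 | exact absurd h5 h6 | simp
  · simp only [e, List.forall_mem_cons, if_pos, if_neg hp, e1, C.hψ, ← pow_mul, ← pow_two, ← hK,
      FiniteField.pow_card]
    simp

theorem CE6.exists_trace {q : ℕ} (C : CE6 F q) (hK : Fintype.card F = q ^ 2) :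
    ∃ t, C.ψ t = 1 + t := by
  obtain ⟨f, rfl⟩ := card_eq_two_pow hK
  obtain ⟨s, hs⟩ : ∃ s, C.ψ s ≠ s := by
    by_contra! h
    have := card_fixed (by positivity) hK
    rw [Nat.card_congr (Equiv.subtypeUnivEquiv fun t => C.hψ t ▸ h t), Nat.card_eq_fintype_card,
      hK, ← pow_mul] at this
    have := Nat.pow_right_injective le_rfl this
    omega
  have h0 : C.ψ s + s ≠ 0 := by rwa [Ne, CharTwo.add_eq_zero]
  refine ⟨s / (C.ψ s + s), ?_⟩
  rw [map_div₀, map_add, C.ψψ, add_comm s]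
  field_simp
  linear_combination (-s) * CharTwo.two_eq_zero (R := F)

theorem classes_twE6 {q : ℕ} (hK : Fintype.card F = q ^ 2) :
    (ConjClasses.mk '' {y : twistedE6 F q | orderOf y = 2}).ncard = 3 := by
  obtain ⟨C⟩ := exists_CE6 (by
    obtain ⟨f, rfl⟩ := card_eq_two_pow hK
    exact ⟨2, f + 1, Nat.prime_two.prime, f.succ_pos, rfl⟩) hK
  obtain ⟨t, ht⟩ := C.exists_trace hK
  have h1 : ∀ r, C.T.φ r 1 = 1 := fun r => by simp [C.φ_eq]
  refine ncard_classes (K := repstE6) C.isTw.le_grp comm_tE6 (pairwise_NC _ nc_E6) ?_ ?_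
  · simp only [repstE6, List.forall_mem_cons, C.eq_Fx]
    refine ⟨⟨zN_mem _ _, C.T.f_zN h1 [⟨71, by decide⟩]⟩, ⟨zN_mem _ _,
      (C.T.f_zN h1 [⟨68, by decide⟩, ⟨66, by decide⟩]).trans ?_⟩, ⟨zN_mem _ _,
      (C.T.f_zN h1 [⟨55, by decide⟩, ⟨65, by decide⟩, ⟨67, by decide⟩]).trans ?_⟩, by simp⟩ <;>
    exact zN_perm _ (by decide +kernel) (by decide +kernel)
  · rw [C.eq_Fx]
    exact fun y hy => classify (fun _ => rfl) (C.loc hK) (C.eq_Fx ▸ C.isTw)
      (fun _ r => (C.φ_eq r t).trans ht) tree_tE6 (by decide) red_tE6 fin_tE6 hy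

end E6

section D4
attribute [local instance] good2D4

/-- representatives of the orbits -/
def bD4 (a : Fin 2) : Ix chevD4 := nD4 (![0, 1] a)

theorem a1_D4 (a : Fin 2) : A1 symD4a (orbD4.J a) (sim (bD4 a)) := by
  refine ⟨?_, ?_, ?_, ?_, ?_⟩ <;> revert a <;>
    (try simp only [PhiK, PM, Orb.J, Set.mem_setOf_eq]) <;> decide +kernel

theorem CD4.φ_eq {q : ℕ} (C : CD4 F q) (r : Rt chevD4) (t : F) : C.T.φ r t = C.ψ t := by
  rw [C.hT]; unfold sgn; cases Nat.beq _ _ <;> simp [show Int.neg 1 = -1 from rfl, CharTwo.neg_eq]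

theorem CD4.loc {q : ℕ} (C : CD4 F q) (hK : Fintype.card F = q ^ 3) :
    Loc C.T orbD4 fun a => sim (bD4 a) := by
  have oc := oc_of_chk oc_D4
  obtain ⟨f, hq⟩ := card_eq_two_pow hK
  refine ⟨gl_inj, fun r => by simp [C.φ_eq], OC.of_sim oc, fun a => (a1_D4 a).span,
    fun a => (a1_D4 a).adm, fun a => (a1_D4 a).scale (OC.of_sim oc) (ψ := fun _ => C.ψ)
      (fun r _ => C.φ_eq r) gl_R3, fun a E _ hE => ?_⟩
  by_cases hp : symD4a.p (sim (bD4 a)) = sim (bD4 a)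
  · exact red_three oc (a1_D4 a) hp (by simp [C.φ_eq]) (dvd_ca_of_chk cab_D4 le_rfl _) hE
  obtain rfl : a = 0 := by clear hE; revert a; decide +kernel
  have e : symD4a.orb (sim (bD4 0)) = [sim (nD4 0), sim (nD4 2), sim (nD4 3)] := by decide +kernel
  have h9 : q % 9 = 1 ∨ q % 9 = 2 ∨ q % 9 = 4 ∨ q % 9 = 5 ∨ q % 9 = 7 ∨ q % 9 = 8 := by
    have : ¬ 3 ∣ q := fun h => by have := Nat.prime_three.dvd_of_dvd_pow (hq ▸ h); omega
    omega
  obtain ⟨c, τ, hc, h1⟩ := exists_lam (F := F) (N := 9) (by decide) (by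
    have := Nat.pow_mod q 3 9
    rw [hK]
    rcases h9 with h | h | h | h | h | h <;> rw [h] at this <;> omega)
  have h0 := hc.ne_zero (by decide)
  have n1 : sim (nD4 2) ≠ sim (nD4 0) ∧ sim (nD4 3) ≠ sim (nD4 0) ∧ sim (nD4 3) ≠ sim (nD4 2) := by
    decide +kernel
  refine red_A1 (algebraMap F _) oc (a1_D4 0).orth (a1_D4 0).phi
    (τ := fun r => if r = sim (nD4 0) then τ else if r = sim (nD4 2) then τ ^ q else (τ ^ q) ^ q)
    (c := fun r => if r = sim (nD4 0) then c else if r = sim (nD4 2) then c ^ q else (c ^ q) ^ q)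
    (n := 2) Nat.prime_three (by decide) ?_ (fun v _ hv h3 => ?_)
    ((a1_D4 0).zm_mem (OC.of_sim oc) (ψ := fun _ => C.ψ) (fun r _ => C.φ_eq r) ?_) hE
  · have key : ∀ c : AlgebraicClosure F, IsPrimitiveRoot c 9 → c * c ≠ 1 ∧ c ^ 3 ^ 2 = 1 :=
      fun c hc => ⟨fun h => hc.pow_ne_one_of_pos_of_lt (l := 2) (by decide) (by decide)
        (by rw [pow_two, h]), hc.pow_eq_one⟩
    have hq9 : q.Coprime 9 := hq ▸ Nat.Coprime.pow_left _ (by decide)
    have h2 := hc.pow_of_coprime q hq9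
    have h3 := h2.pow_of_coprime q hq9
    simp only [e, List.forall_mem_cons, if_pos, if_neg n1.1, if_neg n1.2.1, if_neg n1.2.2]
    exact ⟨⟨h0, (key _ hc).1, h1, (key _ hc).2⟩, ⟨pow_ne_zero _ h0, (key _ h2).1,
      hq ▸ map_eq_pow _ h1 _, (key _ h2).2⟩, ⟨pow_ne_zero _ (pow_ne_zero _ h0), (key _ h3).1,
      hq ▸ map_eq_pow _ (map_eq_pow _ h1 _) _, (key _ h3).2⟩, by simp⟩
  · simp only [e, List.map_cons, List.map_nil, List.prod_cons, List.prod_nil, if_pos, if_neg n1.1,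
      if_neg n1.2.1, if_neg n1.2.2, mul_one, List.forall_mem_cons] at h3 ⊢
    rw [← pow_mul, pow_eq_pow_mod q hc.pow_eq_one, pow_eq_pow_mod (q * q) hc.pow_eq_one, Nat.mul_mod,
      ← zpow_natCast, ← zpow_natCast, ← zpow_mul, ← zpow_mul, ← zpow_add₀ h0,
      ← zpow_add₀ h0, hc.zpow_eq_one_iff_dvd] at h3
    generalize q % 9 = k at h3 h9
    have : ∀ k ∈ [1, 2, 4, 5, 7, 8], ∀ v : Rt chevD4, ¬ PhiK (orbD4.J 0) v →
        ((9 : ℕ) : ℤ) ∣ pr (sim (nD4 0)) v + ((k : ℕ) * pr (sim (nD4 2)) v +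
          (k * k % 9 : ℕ) * pr (sim (nD4 3)) v) →
        pr (sim (nD4 0)) v = 0 ∧ pr (sim (nD4 2)) v = 0 ∧ pr (sim (nD4 3)) v = 0 := by
      simp only [PhiK, Orb.J, Set.mem_setOf_eq]; decide +kernel
    simpa using this k (by simpa using h9) v hv h3
  · have p0 : symD4a.p (sim (nD4 0)) = sim (nD4 2) ∧ symD4a.p (sim (nD4 2)) = sim (nD4 3) ∧
      symD4a.p (sim (nD4 3)) = sim (nD4 0) := by decide +kernel
    simp only [e, List.forall_mem_cons, if_pos, if_neg n1.1, if_neg n1.2.1, if_neg n1.2.2, p0,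
      ← C.hψ, C.ψψ]
    simp

theorem classes_twD4 {q : ℕ} (hK : Fintype.card F = q ^ 3) :
    (ConjClasses.mk '' {y : twistedD4 F q | orderOf y = 2}).ncard = 2 := by
  obtain ⟨C⟩ := exists_CD4 (by
    obtain ⟨f, rfl⟩ := card_eq_two_pow hK
    exact ⟨2, f + 1, Nat.prime_two.prime, f.succ_pos, rfl⟩) hK
  have h1 : ∀ r, C.T.φ r 1 = 1 := fun r => by simp [C.φ_eq]
  refine ncard_classes (K := repstD4) C.isTw.le_grp comm_tD4 (pairwise_NC _ nc_tD4) ?_ ?_
  · simp only [repstD4, List.forall_mem_cons, C.eq_Fx]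
    refine ⟨⟨zN_mem _ _, C.T.f_zN h1 [⟨23, by decide⟩]⟩, ⟨zN_mem _ _,
      (C.T.f_zN h1 [⟨21, by decide⟩, ⟨20, by decide⟩, ⟨17, by decide⟩]).trans ?_⟩, by simp⟩
    exact zN_perm _ (by decide +kernel) (by decide +kernel)
  · rw [C.eq_Fx]
    exact fun y hy => classify (fun _ => rfl) (C.loc hK) (C.eq_Fx ▸ C.isTw) (t := 0)
      (by simp) tree_tD4 (by decide) red_tD4 fin_tD4 hy

end D4
end Cfsg.Agent.Chev
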