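import Mathlib
import Cfsg.Agent.Chev.Inv4
import Cfsg.Agent.Chev.All2
import Cfsg.Agent.Chev.GrCert

/-! Certificates for classes of involutions. -/

set_option autoImplicit false
set_option maxHeartbeats 400000
set_option maxRecDepth 100000

namespace Cfsg.Agent.Chev
open Cfsg.Lie Cfsg.Agent.BN StSys Tw

/-- certificate data -/
def nodesE7 : List (List ℕ × List (List ℕ) × List (ℕ × List ℕ × List ℕ)) :=
  [([], [[0], [2], [3], [1], [4], [5], [6]], [(125, [], [125])]),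
   ([125], [[1], [3], [4], [5], [2], [6]], [(92, [], [125, 92])]),
   ([125, 92], [[1], [3], [2], [4], [6]], [(63, [], [125, 92, 63]), (87, [], [125, 92, 87])]),
   ([125, 92, 63], [[1], [3], [2], [4]], [(87, [], [125, 92, 63, 87])]),
   ([125, 92, 87], [[1], [2], [4], [6]], [(63, [0, 2, 3, 4, 5, 1, 3, 4, 2, 3, 0, 2, 1, 3, 4, 5], [125, 92, 63, 87]), (66, [0, 2, 3, 4, 5, 6, 1, 3, 4, 5, 2, 3, 0, 2, 1, 3], [125, 92, 63, 87]), (73, [], [125, 92, 87, 73]), (78, [0, 2, 3, 4, 5, 6, 1, 3, 4, 5, 3, 2, 1, 3, 4, 0, 2, 3, 2, 0], [125, 92, 63, 87])]),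
   ([125, 92, 63, 87], [[1], [2], [4]], [(66, [], [125, 92, 63, 87, 66]), (73, [5, 6, 0, 2, 3, 4, 5, 1, 3, 4, 2, 3, 0, 2, 1, 3, 4, 5, 2, 3, 4, 1, 3, 0], [125, 92, 63, 87, 66]), (78, [5, 6, 4, 5, 3, 0, 2, 1, 3, 4, 0, 2, 1, 3, 2, 0], [125, 92, 63, 87, 66])]),
   ([125, 92, 87, 73], [[1], [4], [6]], [(63, [0, 2, 3, 4, 5, 1, 3, 4, 2, 3, 0, 2, 1, 3, 4, 5], [125, 92, 63, 87, 66]), (66, [0, 2, 3, 4, 5, 6, 1, 3, 4, 5, 2, 3, 0, 2, 1, 3], [125, 92, 63, 87, 66]), (78, [0, 2, 3, 4, 5, 6, 1, 3, 4, 5, 2, 3, 4, 0, 2, 3], [125, 92, 63, 87, 66])]),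
   ([125, 92, 63, 87, 66], [[1], [2]], [(73, [], [125, 92, 63, 87, 66, 73]), (78, [3, 0, 2, 1, 3, 4, 5, 6, 3, 2, 1, 3, 4, 5, 3, 2, 1, 3, 4, 0, 2, 3, 2, 0], [125, 92, 63, 87, 66, 73])]),
   ([125, 92, 63, 87, 66, 73], [[1]], [(78, [], [125, 92, 63, 87, 66, 73, 78])]),
   ([125, 92, 63, 87, 66, 73, 78], [], [])]
/-- certificate data -/
def redsE7 : List (List ℕ × List (ℕ × ℕ) × List ℕ × List ℕ × List ℕ) :=
  [([125, 92], [], [125, 92], [1, 3, 2, 0], [118, 121]),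
   ([125, 92, 63], [], [125, 92, 63], [2, 3, 0, 2, 1, 3, 4, 5, 1, 3, 2, 0], [92, 107, 111]),
   ([125, 92, 87], [], [125, 92, 87], [1, 3, 4, 5, 1, 3, 2, 0], [114, 116, 119]),
   ([125, 92, 63, 87], [], [125, 92, 63, 87], [2, 3, 0, 2, 1, 3, 4, 5, 1, 3, 2, 0], [92, 107, 111, 119]),
   ([125, 92, 87, 73], [(108, 0), (103, 0), (94, 0), (32, 0)], [73, 87, 92], [2, 3, 4, 5, 6, 5, 4, 3, 2, 1, 3, 4, 5, 2, 3, 4, 3, 2, 1, 3, 2, 0], [114, 116, 119]),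
   ([125, 92, 63, 87, 66], [(67, 0), (61, 0), (60, 0), (37, 0)], [87, 92, 63, 125], [4, 3, 0, 2, 1, 3, 4, 5, 4, 3, 2, 0], [92, 107, 111, 119]),
   ([125, 92, 63, 87, 66, 73], [(108, 0), (103, 0), (87, 0), (94, 0)], [87, 73, 92, 63, 66], [5, 4, 3, 0, 2, 1, 3, 4, 5, 6, 5, 4, 3, 2, 1, 3, 4, 5, 3, 2, 1, 3, 4, 3, 2, 1, 3, 0], [125, 92, 63, 87, 66]),
   ([125, 92, 63, 87, 66, 73, 78], [(108, 0), (103, 0), (94, 0), (32, 0)], [87, 73, 92, 63, 66, 78], [5, 3, 4, 2, 3, 0, 2, 1, 3, 4, 5, 6, 5, 4, 3, 2, 1, 3, 4, 5, 4, 3, 2, 0], [125, 92, 63, 87, 66, 73])]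
/-- certificate data -/
def repsE7 : List (List ℕ) := [[125], [118, 121], [92, 107, 111], [114, 116, 119], [92, 107, 111, 119]]
theorem oc_E7 : allN chevE7.rank (fun i => allN chevE7.nroots fun s =>
    !(ieq (certE7.ca chevE7 i s) 0) || commP chevE7 2 (chevE7.simple i) s) = true := by
  decide +kernel
theorem cab_E7 : allN chevE7.rank (fun i => allN chevE7.nroots fun s =>
    Nat.blt (certE7.ca chevE7 i s).natAbs 3) = true := by decide +kernel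
theorem tree_E7 : lall nodesE7 (certE7.chkNode chevE7 id (nodesE7.map (·.1))) = true := by
  decide +kernel
theorem red_E7 : lall redsE7 (certE7.chkRed chevE7 id false) = true := by decide +kernel
theorem fin_E7 : chkReds (nodesE7.map (·.1)) redsE7 ([] :: repsE7) = true := by decide +kernel
theorem comm_E7 : ∀ M ∈ repsE7, commL chevE7 M = true := by decide +kernel
theorem nc_E7 : ([] :: repsE7).Pairwise fun a b => certE7.chkNC chevE7 a b = true := by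
  decide +kernel

end Cfsg.Agent.Chev
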