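import Mathlib
import Cfsg.Agent.Chev.Inv4
import Cfsg.Agent.Chev.All2
import Cfsg.Agent.Chev.GrCert

/-! Certificates for classes of involutions. -/

set_option autoImplicit false
set_option maxHeartbeats 400000
set_option maxRecDepth 100000

namespace Cfsg.Agent.Chev
open Cfsg.Lie Cfsg.Agent.BN StSys Tw

/-- certificate data -/
def nodesE8 : List (List ℕ × List (List ℕ) × List (ℕ × List ℕ × List ℕ)) :=
  [([], [[0], [2], [3], [1], [4], [5], [6], [7]], [(239, [], [239])]),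
   ([239], [[0], [2], [3], [1], [4], [5], [6]], [(226, [], [239, 226])]),
   ([239, 226], [[1], [3], [4], [5], [2], [6]], [(159, [], [239, 226, 159])]),
   ([239, 226, 159], [[1], [3], [2], [4], [6]], [(121, [], [239, 226, 159, 121]), (152, [], [239, 226, 159, 152])]),
   ([239, 226, 159, 121], [[1], [3], [2], [4]], [(152, [], [239, 226, 159, 121, 152])]),
   ([239, 226, 159, 152], [[1], [2], [4], [6]], [(121, [7, 6, 5, 4, 3, 2, 1, 3, 4, 5, 6, 7, 0, 2, 3, 4, 5, 1, 3, 4, 2, 3, 0, 2, 1, 3, 4, 5], [239, 226, 159, 121, 152]), (126, [7, 6, 5, 4, 3, 2, 1, 3, 4, 5, 6, 7, 0, 2, 3, 4, 5, 6, 1, 3, 4, 5, 2, 3, 0, 2, 1, 3], [239, 226, 159, 121, 152]), (135, [5, 6, 7, 4, 5, 6, 0, 2, 3, 4, 5, 1, 3, 4, 2, 3, 0, 2, 1, 3, 4, 5, 6, 7, 0, 2, 3, 4, 5, 6, 1, 3, 4, 5, 2, 3, 4, 1, 3, 0], [239, 226, 159, 121, 152]), (141, [7, 6, 5, 4, 3, 2, 1, 3, 4, 5, 6, 7, 0, 2,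 3, 4, 5, 6, 1, 3, 4, 5, 3, 2, 1, 3, 4, 0, 2, 3, 2, 0], [239, 226, 159, 121, 152])]),
   ([239, 226, 159, 121, 152], [[1], [2], [4]], [(126, [], [239, 226, 159, 121, 152, 126]), (135, [7, 6, 0, 2, 3, 4, 5, 1, 3, 4, 2, 3, 0, 2, 1, 3, 4, 5, 6, 7, 5, 4, 3, 0, 2, 1, 3, 4, 5, 6, 5, 4, 3, 2, 1, 3, 4, 5, 2, 3, 4, 1, 3, 0], [239, 226, 159, 121, 152, 126]), (141, [7, 6, 0, 2, 3, 4, 5, 1, 3, 4, 2, 3, 0, 2, 1, 3, 4, 5, 6, 7, 5, 4, 3, 0, 2, 1, 3, 4, 5, 6, 0, 2, 1, 3, 4, 5, 2, 3, 4, 0, 2, 3, 2, 0], [239, 226, 159, 121, 152, 126])]),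
   ([239, 226, 159, 121, 152, 126], [[1], [2]], [(135, [], [239, 226, 159, 121, 152, 126, 135]), (141, [7, 6, 5, 4, 3, 2, 1, 3, 4, 5, 6, 7, 0, 2, 3, 4, 5, 6, 2, 3, 0, 2, 1, 3, 4, 5, 3, 2, 1, 3, 4, 0, 2, 3, 2, 0], [239, 226, 159, 121, 152, 126, 135])]),
   ([239, 226, 159, 121, 152, 126, 135], [[1]], [(141, [], [239, 226, 159, 121, 152, 126, 135, 141])]),
   ([239, 226, 159, 121, 152, 126, 135, 141], [], [])]
/-- certificate data -/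
def redsE8 : List (List ℕ × List (ℕ × ℕ) × List ℕ × List ℕ × List ℕ) :=
  [([239, 226], [], [239, 226], [1, 3, 4, 5, 6, 7], [232, 233]),
   ([239, 226, 159], [], [239, 226, 159], [5, 4, 3, 2, 1, 3, 4, 5, 6, 7, 4, 3, 2, 0], [228, 222, 218]),
   ([239, 226, 159, 121], [(227, 0), (160, 0), (159, 0), (122, 0)], [121, 159, 226], [6, 5, 4, 3, 2, 1, 3, 4, 5, 6, 0, 2, 3, 4, 5, 1, 3, 4, 2, 3, 0, 2, 1, 3, 4, 5, 6, 7, 5, 4, 3, 2, 1, 3, 4, 5, 4, 3, 2, 0], [228, 222, 218]),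
   ([239, 226, 159, 152], [], [239, 226, 159, 152], [7, 6, 5, 4, 3, 2, 1, 3, 4, 5, 6, 7, 6, 3, 4, 5, 4, 3, 2, 0], [226, 220, 213, 216]),
   ([239, 226, 159, 121, 152], [(227, 0), (160, 0), (159, 0), (122, 0)], [121, 159, 226, 152], [6, 7, 2, 1, 3, 4, 5, 6, 0, 2, 3, 4, 5, 1, 3, 4, 2, 3, 0, 2, 1, 3, 4, 5, 6, 7, 5, 4, 3, 2, 1, 3, 4, 5, 4, 3, 2, 0], [226, 220, 213, 216]),
   ([239, 226, 159, 121, 152, 126], [(227, 0), (160, 0), (159, 0), (122, 0)], [121, 159, 226, 152, 126], [5, 6, 7, 3, 2, 1, 3, 4, 5, 6, 0, 2, 3, 4, 5, 1, 3, 4, 2, 3, 0, 2, 1, 3, 4, 5, 6, 7, 0, 2, 3, 4, 5, 1, 3, 4, 2, 3, 0, 2, 1, 3, 4, 5, 0, 2, 3, 4, 1, 3, 2, 0], [239, 226, 159, 121, 152]),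
   ([239, 226, 159, 121, 152, 126, 135], [(227, 0), (160, 0), (159, 0), (122, 0)], [121, 159, 226, 152, 126, 135], [3, 4, 5, 6, 7, 2, 3, 4, 5, 6, 0, 2, 3, 4, 5, 1, 3, 4, 2, 3, 0, 2, 1, 3, 4, 5, 6, 7, 5, 6, 0, 2, 3, 4, 5, 1, 3, 4, 2, 3, 0, 2, 1, 3, 4, 5, 3, 4, 2, 3, 0, 2, 1, 3, 2, 0], [239, 226, 159, 121, 152, 126]),
   ([239, 226, 159, 121, 152, 126, 135, 141], [(227, 0), (160, 0), (122, 0), (119, 0)], [121, 159, 226, 152, 126, 135, 141], [3, 4, 5, 6, 7, 2, 3, 4, 5, 6, 0, 2, 3, 4, 5, 1, 3, 4, 2, 3, 0, 2, 1, 3, 4, 5, 6, 7, 0, 2, 3, 4, 5, 1, 3, 4, 2, 3, 0, 2, 1, 3, 4, 5, 0, 2, 3, 4, 1, 3, 2, 0], [239, 226, 159, 121, 152, 126, 135])]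
/-- certificate data -/
def repsE8 : List (List ℕ) := [[239], [232, 233], [228, 222, 218], [226, 220, 213, 216]]
theorem oc_E8 : allN chevE8.rank (fun i => allN chevE8.nroots fun s =>
    !(ieq (certE8.ca chevE8 i s) 0) || commP chevE8 2 (chevE8.simple i) s) = true := by
  decide +kernel
theorem cab_E8 : allN chevE8.rank (fun i => allN chevE8.nroots fun s =>
    Nat.blt (certE8.ca chevE8 i s).natAbs 3) = true := by decide +kernel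
theorem tree_E8 : lall nodesE8 (certE8.chkNode chevE8 id (nodesE8.map (·.1))) = true := by
  decide +kernel
theorem red_E8 : lall redsE8 (certE8.chkRed chevE8 id false) = true := by decide +kernel
theorem fin_E8 : chkReds (nodesE8.map (·.1)) redsE8 ([] :: repsE8) = true := by decide +kernel
theorem comm_E8 : ∀ M ∈ repsE8, commL chevE8 M = true := by decide +kernel
theorem nc_E8 : ([] :: repsE8).Pairwise fun a b => certE8.chkNC chevE8 a b = true := by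
  decide +kernel

end Cfsg.Agent.Chev
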