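import Mathlib
import Cfsg.Agent.Ree.Lie3
import Cfsg.Agent.Ree.Two
import Cfsg.Agent.Classical.LS

/-! The minimal degree of the small Ree groups. -/

set_option autoImplicit false
set_option linter.unusedSectionVars false
set_option maxHeartbeats 400000

namespace Cfsg.Agent.Chev
open Module Cfsg.Agent.Classical.LS Cfsg.Agent.Ree

theorem four_dvd_of_traces {V : Type*} [AddCommGroup V] [Module ℂ V] [FiniteDimensional ℂ V]
    {a b : End ℂ V} (ha : a * a = 1) (hb : b * b = 1) (hab : a * b = b * a)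
    (ta : LinearMap.trace ℂ V a = 0) (tb : LinearMap.trace ℂ V b = 0)
    (tab : LinearMap.trace ℂ V (a * b) = 0) : 4 ∣ finrank ℂ V := by
  have key : (1 + a + b + a * b) * (1 + a + b + a * b) = (4 : ℂ) • (1 + a + b + a * b) := by
    have h1 : a * (a * b) = b := by rw [← mul_assoc, ha, one_mul]
    have h2 : b * (a * b) = a := by rw [hab, ← mul_assoc, hb, one_mul]
    have h3 : a * b * a = b := by rw [mul_assoc, ← hab, h1]
    have h4 : a * b * b = a := by rw [mul_assoc, hb, mul_one]
    have h5 : a * b * (a * b) = 1 := by rw [← mul_assoc, h3, hb]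
    simp only [mul_add, add_mul, one_mul, mul_one, ha, hb, h1, h2, h3, h4, h5, ← hab]
    module
  have he : IsIdempotentElem ((4 : ℂ)⁻¹ • (1 + a + b + a * b)) := by
    rw [IsIdempotentElem, smul_mul_smul_comm, key, smul_smul]
    norm_num
  have := (LinearMap.IsIdempotentElem.isProj_range _ he).trace
  rw [map_smul, map_add, map_add, map_add, ta, tb, tab, LinearMap.trace_one] at this
  generalize finrank ℂ (LinearMap.range ((4 : ℂ)⁻¹ • (1 + a + b + a * b))) = n at this
  refine ⟨n, ?_⟩
  have h : (finrank ℂ V : ℂ) = 4 * n := by rw [← this]; simp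
  exact_mod_cast h

section
variable {F : Type*} [Field F] [Fintype F]

/-- the characters of the additive group of the plane -/
noncomputable def L2 (p : F × F) : AddChar (F × F) ℂ where
  toFun v := ψ F (p.1 * v.1 + p.2 * v.2)
  map_zero_eq_one' := by simp
  map_add_eq_mul' v w := by rw [← ψ_add]; congr 1; simp; ring

theorem L2_apply (p v : F × F) : L2 p v = ψ F (p.1 * v.1 + p.2 * v.2) := rfl

theorem L2_bij : Function.Bijective (L2 (F := F)) := by
  constructor
  · intro p p' h
    refine Prod.ext (eq_of_ψ fun b => ?_) (eq_of_ψ fun b => ?_)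
    · simpa [L2_apply] using DFunLike.congr_fun h (b, 0)
    · simpa [L2_apply] using DFunLike.congr_fun h (0, b)
  · intro l
    obtain ⟨a, ha⟩ := exists_eq_ψ' (fun b : F => l (b, 0)) l.map_zero_eq_one fun a b => by
      rw [← AddChar.map_add_eq_mul]; simp
    obtain ⟨c, hc⟩ := exists_eq_ψ' (fun b : F => l (0, b)) l.map_zero_eq_one fun a b => by
      rw [← AddChar.map_add_eq_mul]; simp
    refine ⟨(a, c), AddChar.ext _ _ fun v => ?_⟩
    rw [L2_apply, ψ_add, ← ha, ← hc, ← AddChar.map_add_eq_mul]; simp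
end

theorem ree_min_degree {G Ω F : Type*} [Group G] [MulAction G Ω] [Field F] [Fintype F] {m : ℕ}
    (Z : Model G Ω F m) (hm : 1 ≤ m) {V : Type*} [AddCommGroup V] [Module ℂ V]
    [FiniteDimensional ℂ V] (ρ : Representation ℂ G V) (hρ : ∃ g, ρ g ≠ 1) :
    Fintype.card F ^ 2 - Fintype.card F + 1 ≤ finrank ℂ V := by
  classical
  haveI := Z.finite
  haveI := Z.simple hm
  have hker : ρ.ker = ⊥ := (Subgroup.Normal.eq_bot_or_eq_top inferInstance).resolve_right fun h => by
    obtain ⟨g, hg⟩ := hρ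
    exact hg (show g ∈ ρ.ker from h ▸ trivial)
  let x : F × F → G := fun v => Z.S 0 v.1 v.2
  have hx : ∀ v w, x (v + w) = x v * x w := fun v w => by simp [x, Z.S_mul]
  let d : F × F → ℕ := fun p => finrank ℂ (Wt ρ x (L2 p))
  have h1 : ∀ a b c, d (a, b) ≤ d (a - b * c, b) := fun a b c => by
    have := finrank_Wt_le (ρ := ρ) (x := x) (β := L2 (a, b)) (g := Z.S c 0 0)
      (π := fun v => (v.1, v.2 - c * v.1)) fun v => by simp [x, Z.S_mul]
    refine this.trans_eq (congrArg (fun β => finrank ℂ (Wt ρ x β)) ?_)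
    ext v; simp only [L2_apply, Function.comp]; congr 1; ring
  have h2 : ∀ a b (κ : Fˣ), d (a, b) ≤ d (a * (κ * Z.σ κ), b * (κ ^ 2 * Z.σ κ)) := fun a b κ => by
    have := finrank_Wt_le (ρ := ρ) (x := x) (β := L2 (a, b)) (g := (Z.M κ)⁻¹)
      (π := fun v => (κ * Z.σ κ * v.1, κ ^ 2 * Z.σ κ * v.2)) fun v => by
        have := Z.M_S κ 0 v.1 v.2
        rw [mul_zero] at this
        simp only [x, ← this]; group
    refine this.trans_eq (congrArg (fun β => finrank ℂ (Wt ρ x β)) ?_)
    ext v; simp only [L2_apply, Function.comp]; congr 1; ring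
  have hsurj : ∀ c : F, c ≠ 0 → ∃ κ : Fˣ, (κ : F) ^ 2 * Z.σ κ = c := fun c hc => by
    let f : Fˣ →* Fˣ := (powMonoidHom 2) * Units.map Z.σ.toMonoidHom
    have hf : Function.Injective f := (injective_iff_map_eq_one f).2 fun κ h =>
      Units.ext (Z.of_sq_mul_σ (by simpa [f] using congrArg Units.val h))
    obtain ⟨κ, h⟩ := Finite.surjective_of_injective hf (Units.mk0 c hc)
    exact ⟨κ, by simpa [f] using congrArg Units.val h⟩
  have h3 : ∀ a b a' b', b ≠ 0 → b' ≠ 0 → d (a, b) ≤ d (a', b') := fun a b a' b' hb hb' => by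
    obtain ⟨κ, hκ⟩ := hsurj (b' / b) (div_ne_zero hb' hb)
    have e1 := h2 a b κ
    rw [hκ, mul_div_cancel₀ _ hb] at e1
    have e2 := h1 (a * (κ * Z.σ κ)) b' ((a * (κ * Z.σ κ) - a') / b')
    rw [mul_div_cancel₀ _ hb', sub_sub_cancel] at e2
    exact e1.trans e2
  have hsum : finrank ℂ V = ∑ p, d p := by
    rw [finrank_eq_sum (ρ := ρ) hx, ← L2_bij.sum_comp]
  have hpos : ∀ a b, b ≠ 0 → 1 ≤ d (a, b) := by
    have hne : ρ (x (0, 1)) ≠ 1 := fun h => by
      have : x (0, 1) ∈ ρ.ker := h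
      rw [hker] at this
      exact one_ne_zero (Z.S_eq_one_iff.1 this).2.2
    by_contra H
    push Not at H
    obtain ⟨a, b, hb, H⟩ := H
    apply hne
    ext v
    have ev : v = ∑ p, P ρ x (L2 p) v := by
      rw [← LinearMap.sum_apply, L2_bij.sum_comp (P ρ x), sum_P hx, Module.End.one_apply]
    rw [Module.End.one_apply, ev, map_sum, ← ev]
    conv_rhs => rw [ev]
    refine Finset.sum_congr rfl fun p _ => ?_
    have hv := P_mem (ρ := ρ) hx (L2 p) v
    by_cases hp : p.2 = 0
    · rw [mem_Wt.1 hv, L2_apply]; simp [hp]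
    · have : d p = 0 := by have : d p ≤ d (a, b) := h3 p.1 p.2 a b hp hb; omega
      rw [Submodule.finrank_eq_zero.1 this, Submodule.mem_bot] at hv
      rw [hv, map_zero]
  by_contra hlt
  have hsplit := Finset.sum_filter_add_sum_filter_not Finset.univ (fun p : F × F => p.2 = 0) d
  have hcard : (Finset.univ.filter fun p : F × F => ¬ p.2 = 0).card =
      Fintype.card F ^ 2 - Fintype.card F := by
    have : (Finset.univ.filter fun p : F × F => ¬ p.2 = 0) = Finset.univ ×ˢ (Finset.univ.erase 0) := by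
      ext p; simp
    rw [this, Finset.card_product, Finset.card_erase_of_mem (Finset.mem_univ _), Finset.card_univ,
      Nat.mul_sub_one, sq]
  have hge := Finset.card_nsmul_le_sum (Finset.univ.filter fun p : F × F => ¬ p.2 = 0) d 1
    fun p hp => hpos p.1 p.2 (Finset.mem_filter.1 hp).2
  rw [hcard, smul_eq_mul, mul_one] at hge
  change _ ≤ ∑ p with ¬ p.2 = 0, d p at hge
  have hV : finrank ℂ V = Fintype.card F ^ 2 - Fintype.card F := by omega
  have h0 : ∀ p : F × F, p.2 = 0 → d p = 0 := fun p hp =>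
    Finset.sum_eq_zero_iff.1 (by omega : ∑ p ∈ Finset.univ.filter (fun p : F × F => p.2 = 0), d p = 0)
      p (by simp [hp])
  have ti : LinearMap.trace ℂ V (ρ Z.i) = 0 := by
    rw [trace_eq_sum (ρ := ρ) hx, ← L2_bij.sum_comp]
    refine Finset.sum_eq_zero fun p _ => ?_
    by_cases hp : p.2 = 0
    · rw [trace_mul_P_of_smul hx (c := 0) fun v hv => ?_, zero_mul]
      rw [Submodule.finrank_eq_zero.1 (h0 p hp), Submodule.mem_bot] at hv
      simp [hv]
    · refine trace_mul_P_of_ne hx (m := L2 (p.1, -p.2)) (fun h => hp ?_) fun v hv => ?_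
      · have := congrArg Prod.snd (L2_bij.1 h)
        exact (mul_eq_zero.1 (by linear_combination this : 2 * p.2 = 0)).resolve_left Z.two_ne
      · have := apply_mem_Wt (g := Z.i) (π := fun v => (v.1, -v.2)) (fun v => by
          have := Z.i_S 0 v.1 (-v.2)
          rw [neg_zero, neg_neg] at this
          simp only [x, ← this]; group) hv
        convert this using 2
        ext v; simp only [L2_apply, Function.comp]; congr 1; ring
  have tc : ∀ g h : G, g * Z.i * g⁻¹ = h → LinearMap.trace ℂ V (ρ h) = 0 := fun g h e => by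
    rw [← e]; exact (ρ.char_conj Z.i g).trans ti
  obtain ⟨g1, e1⟩ := Z.conj_t
  obtain ⟨g2, e2⟩ := Z.conj_it
  have := four_dvd_of_traces (a := ρ Z.i) (b := ρ Z.t) (by rw [← map_mul, Z.i_mul_i, map_one])
    (by rw [← map_mul, Z.t_mul_t, map_one]) (by rw [← map_mul, ← map_mul, Z.t_mul_i]) ti
    (tc _ _ e1) (by rw [← map_mul]; exact tc _ _ e2)
  rw [hV] at this
  have hq := Z.q_mod
  obtain ⟨k, hk⟩ : ∃ k, Fintype.card F = 8 * k + 3 := ⟨Fintype.card F / 8, by omega⟩
  rw [hk, show (8 * k + 3) ^ 2 = 4 * (16 * k ^ 2 + 10 * k + 1) + 2 + (8 * k + 3) by ring,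
    Nat.add_sub_cancel] at this
  omega

end Cfsg.Agent.Chev
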