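import Mathlib
import Cfsg.Agent.Chev.Cent2

/-! Coordinates on the unipotent radical of the parabolic subgroup attached to the highest root. -/

set_option autoImplicit false
set_option linter.unusedSectionVars false
set_option maxHeartbeats 400000

namespace Cfsg.Agent.Chev
open Cfsg.Lie Cfsg.Agent.BN StSys

variable {D : ChevalleyDatum} [g : Good2 D] {F : Type*} [Field F] {G : Type*} [Group G]

theorem eq_one_of_rle {n : ℕ} {α : Fin n → Rt D} {a : Fin n → ℤ} (ha : ∀ j, 0 < a j)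
    (h : ∀ i, 0 < ∑ j, a j * ca i (α j)) {w : W D} (h1 : ∀ j, RLe (α j) (w • α j)) : w = 1 := by
  have pos : ∀ r : Rt D, Pos r → 0 < ∑ j, a j * pr r (α j) := fun r hr => by
    have e : ∑ j, a j * pr r (α j) = ∑ i, cv r i * ∑ j, a j * ca i (α j) := by
      simp only [pr, Finset.mul_sum]
      rw [Finset.sum_comm]
      exact Finset.sum_congr rfl fun _ _ => Finset.sum_congr rfl fun _ _ => by ring
    rw [e]
    obtain ⟨i, hi⟩ := exists_cv_ne_zero ℚ r
    exact Finset.sum_pos' (fun i _ => mul_nonneg (cv_nonneg hr i) (h i).le)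
      ⟨i, Finset.mem_univ _, mul_pos (lt_of_le_of_ne (cv_nonneg hr i)
        (fun e => hi (by rw [← e]; simp))) (h i)⟩
  have le : ∀ (w : W D) (i : Ix D), ∑ j, a j * co (w • α j) i ≤ ∑ j, a j * co (α j) i := by
    intro w i
    induction w using W_ind_left with
    | h1 => simp
    | hs k w hw ih =>
      have := pos _ hw
      simp only [pr_smul_left, inv_inv, pr_sim] at this
      simp only [mul_smul, sW_smul, co_rf]
      by_cases e : i = k
      · subst e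
        simp only [Pi.sub_apply, Pi.smul_apply, Pi.single_eq_same, smul_eq_mul, mul_one, mul_sub,
          Finset.sum_sub_distrib]
        linarith
      · simpa [Pi.single_eq_of_ne e] using ih
  have fx : ∀ j, w • α j = α j := fun j => RLe.antisymm (fun i => by
    have h2 : ∀ j ∈ Finset.univ, a j * co (α j) i ≤ a j * co (w • α j) i := fun j _ =>
      mul_le_mul_of_nonneg_left (h1 j i) (ha j).le
    have := (Finset.sum_eq_sum_iff_of_le h2).mp (le_antisymm (Finset.sum_le_sum h2) (le w i)) j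
      (Finset.mem_univ _)
    exact (mul_left_cancel₀ (ha j).ne' this).ge) (h1 j)
  refine eq_one_of_pos fun i => by_contra fun hn => ?_
  have h2 := pos _ ((pos_ng _).mpr hn)
  have h3 := pos _ (pos_sim i)
  have e : ∀ j, pr (w • sim i) (α j) = pr (sim i) (α j) := fun j => by
    conv_lhs => rw [← fx j, pr_smul]
  simp only [pr_ng_left, e, mul_neg, Finset.sum_neg_distrib] at h2
  linarith

/-- roots of positive level at the node `k` -/
def Rk (k : Ix D) : Set (Rt D) := Hc (Pi.single k 1)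

theorem mem_Rk {k : Ix D} {r : Rt D} : r ∈ Rk k ↔ 0 < co r k := by
  rw [Rk, mem_Hc, ph_single]

theorem uni_Rk (k : Ix D) : Uni (Pi.single k 1) (Rk k) := uni_Hc _

theorem cl_Rk {k : Ix D} {R : Set (Rt D)} (h : ∀ r ∈ R, 0 ≤ co r k) : Cl R (Rk k) (Rk k) :=
  cl_Hc fun r hr => by rw [ph_single]; exact h r hr

namespace StSys
variable (S : StSys D F G)

theorem comm_mem' {r s : Rt D} (h : s ≠ ng r) {K : Subgroup G}
    (hK : ∀ e ∈ D.commTerms r s, ∀ v : Rt D, e.1 = v → 0 < e.2.2.1 → 0 < e.2.2.2 →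
      co v = (e.2.2.1 : ℤ) • co r + (e.2.2.2 : ℤ) • co s → ∀ t, S.x v t ∈ K)
    (t u : F) : (S.x r t * S.x s u)⁻¹ * (S.x s u * S.x r t) ∈ K := by
  by_cases e : s = r
  · rw [e, S.x_comm_self, inv_mul_cancel]; exact one_mem _
  · rw [S.comm r s e h, inv_mul_cancel_left]
    refine wd_mem fun v c hv => ?_
    obtain ⟨q, hq, e⟩ := List.mem_map.mp hv
    obtain ⟨h1, h2, v', h3, h4⟩ := mem_commTerms hq
    have : v' = v := Fin.ext (h3 ▸ congrArg Prod.fst e)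
    exact hK q hq v (this ▸ h3) h1 h2 (this ▸ h4) c

theorem exists_Ui_split (i : Ix D) {u : G} (hu : u ∈ S.U) :
    ∃ s, ∃ v ∈ S.Ui i, u = S.x (sim i) s * v := by
  obtain ⟨z, hz, v, hv, rfl⟩ := exists_U_split' (sW i) hu
  have : {r | r ∈ invs (sW i)} = {sim i} := by
    ext r
    simp only [Set.mem_setOf_eq, mem_invs, Set.mem_singleton_iff, sW_smul]
    exact ⟨fun h => eq_sim_of_not_pos_rf h.1 h.2, fun h => by
      rw [h, rf_sim]; exact ⟨pos_sim i, not_pos_ng_sim i⟩⟩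
  rw [Uw, this, mem_XS_singleton] at hz
  obtain ⟨t, rfl⟩ := hz
  exact ⟨t, v, hv, rfl⟩

theorem top_comm {θ : Rt D} (hθ : Pos θ) (top : ∀ s, Pos s → RLe s θ) {u : G} (hu : u ∈ S.U)
    (t : F) : Commute u (S.x θ t) :=
  Subgroup.mem_centralizer_singleton_iff.mp ((S.XS_le (K := Subgroup.centralizer {S.x θ t})).mpr
    (fun r hr s => Subgroup.mem_centralizer_singleton_iff.mpr (S.commute_of
      (fun e => (pos_ng r).mp (e ▸ hθ) hr) (fun v i j hi hj e => by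
        obtain ⟨h1, -, h2, -⟩ := rle_of_co hr hθ hi hj e
        exact h2 (RLe.antisymm (top v (h1.pos hθ)) h1)) s t)) hu)

/-- the coordinate of a unipotent element at a root of lowest level -/
noncomputable def cq (m : Rt D) (y : G) : F :=
  ent (exists_cv_ne_zero F m).choose m (S.θ y) / (cv m (exists_cv_ne_zero F m).choose : F)

theorem cq_x (m r : Rt D) (t : F) : S.cq m (S.x r t) = if r = m then t else 0 := by
  have := (exists_cv_ne_zero F m).choose_spec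
  rw [cq, S.θ_x, ent_XG]
  split_ifs with h
  · subst h; field_simp
  · simp

@[simp] theorem cq_one (m : Rt D) : S.cq m 1 = 0 := by
  simpa using S.cq_x m m 0

variable {S} {k : Ix D} {m : Rt D}

theorem cq_mul (hm : co m k = 1) {a b : G} (ha : a ∈ S.XS (Rk k)) (hb : b ∈ S.XS (Rk k)) :
    S.cq m (a * b) = S.cq m a + S.cq m b := by
  rw [cq, map_mul, ent_mul (S.θ_mem_UpG_one (uni_Rk k) ha) (S.θ_mem_UpG_one (uni_Rk k) hb)
    (by rw [ph_single, hm]; norm_num), add_div, cq, cq]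

theorem cq_inv (hm : co m k = 1) {a : G} (ha : a ∈ S.XS (Rk k)) : S.cq m a⁻¹ = - S.cq m a := by
  have := cq_mul hm (inv_mem ha) ha
  rw [inv_mul_cancel, cq_one] at this
  exact eq_neg_of_add_eq_zero_left this.symm

theorem cq_prd (hm : co m k = 1) {L : List (Rt D)} (hL : L.Nodup) (h : ∀ r ∈ L, r ∈ Rk k)
    (t : Rt D → F) : S.cq m (S.prd L t) = if m ∈ L then t m else 0 := by
  induction L with
  | nil => simp
  | cons r L ih =>
    have h1 : ∀ r ∈ L, r ∈ Rk k := fun s hs => h s (List.mem_cons_of_mem _ hs)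
    rw [prd_cons, cq_mul hm (S.x_mem (h r (by simp)) _) (S.prd_mem' t h1), cq_x,
      ih (List.nodup_cons.mp hL).2 h1]
    by_cases e : r = m
    · subst e; simp [(List.nodup_cons.mp hL).1]
    · simp [e, Ne.symm e]

theorem top_of_cq {θ : Rt D} (lev2 : ∀ r, 2 ≤ co r k → r = θ) {a : G} (ha : a ∈ S.XS (Rk k))
    (h : ∀ m, co m k = 1 → S.cq m a = 0) : ∃ t, a = S.x θ t := by
  obtain ⟨L, hL, hLR⟩ := exists_list (Rk k)
  obtain ⟨t, rfl⟩ := S.exists_prd (uni_Rk k) hL hLR ha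
  refine S.mem_XS_singleton.mp (S.prd_mem fun r hr hn => ?_)
  have h1 := mem_Rk.mp ((hLR r).mp hr)
  have h2 : co r k = 1 := by
    by_contra h3
    exact hn (lev2 r (by omega))
  simpa [cq_prd h2 hL fun r => (hLR r).mp, hr] using h r h2

theorem cq_eq_zero (hm : co m k = 1) {T : Set (Rt D)} (hT : T ⊆ Rk k) (h : m ∉ T) {a : G}
    (ha : a ∈ S.XS T) : S.cq m a = 0 := by
  induction ha using S.XS_ind with
  | h1 => simp
  | hs r hr t a ha ih =>
    rw [cq_mul hm (S.x_mem (hT hr) t) (S.XS_mono hT ha), ih, cq_x, if_neg (fun e : r = m => h (e ▸ hr)),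
      add_zero]

theorem cq_ind (hm : co m k = 1) {κ : G → G} {Λ : G → F}
    (hκ : ∀ a ∈ S.XS (Rk k), ∀ b ∈ S.XS (Rk k), κ (a * b) = κ a * κ b)
    (hΛ : ∀ a ∈ S.XS (Rk k), ∀ b ∈ S.XS (Rk k), Λ (a * b) = Λ a + Λ b)
    (hx : ∀ r ∈ Rk k, ∀ t, κ (S.x r t) ∈ S.XS (Rk k) ∧ S.cq m (κ (S.x r t)) = Λ (S.x r t))
    {z : G} (hz : z ∈ S.XS (Rk k)) : κ z ∈ S.XS (Rk k) ∧ S.cq m (κ z) = Λ z := by
  induction hz using S.XS_ind with
  | h1 =>
    have h1 : κ 1 = 1 := by simpa using hκ 1 (one_mem _) 1 (one_mem _)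
    have h2 : Λ 1 = 0 := by simpa using hΛ 1 (one_mem _) 1 (one_mem _)
    rw [h1, h2]; exact ⟨one_mem _, S.cq_one m⟩
  | hs r hr t a ha ih =>
    rw [hκ _ (S.x_mem hr t) _ ha, hΛ _ (S.x_mem hr t) _ ha, cq_mul hm (hx r hr t).1 ih.1,
      (hx r hr t).2, ih.2]
    exact ⟨mul_mem (hx r hr t).1 ih.1, rfl⟩

theorem cq_mono (hm : co m k = 1) {a : G} {w : W D} (hw : ∀ r : Rt D, co (w • r) k = co r k)
    (ha : S.Mono a w) {c : F} (hc : ∀ u, a * S.x m u * a⁻¹ = S.x (w • m) (c * u)) {z : G}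
    (hz : z ∈ S.XS (Rk k)) :
    a * z * a⁻¹ ∈ S.XS (Rk k) ∧ S.cq (w • m) (a * z * a⁻¹) = c * S.cq m z := by
  refine cq_ind (κ := fun z => a * z * a⁻¹) (Λ := fun z => c * S.cq m z) (by rw [hw, hm])
    (fun _ _ _ _ => by group) (fun _ h1 _ h2 => by rw [cq_mul hm h1 h2, mul_add])
    (fun r hr t => ⟨ha.conj_x_mem (by rwa [mem_Rk, hw, ← mem_Rk]) t, ?_⟩) hz
  by_cases e : r = m
  · subst e; simp [hc, cq_x]
  · obtain ⟨d, -, hd, -⟩ := ha.exists_conj r
    simp [hd, cq_x, e]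

theorem cj_x {γ : Rt D} (hγ : co γ k = 0) (s : F) {r : Rt D} (hr : r ∈ Rk k) (t : F)
    {K : Subgroup G} (hK : ∀ e ∈ D.commTerms γ r, ∀ v : Rt D, e.1 = v → v ∈ Rk k →
      ∀ t, S.x v t ∈ K) : (S.x r t)⁻¹ * ((S.x γ s)⁻¹ * S.x r t * S.x γ s) ∈ K := by
  have h1 := mem_Rk.mp hr
  have := S.comm_mem' (r := γ) (s := r) (K := K) (fun e => by simp [e, hγ] at h1)
    (fun e he v hv h2 h3 h4 => hK e he v hv (by
      rw [mem_Rk, h4]; simp only [Pi.add_apply, Pi.smul_apply, hγ, smul_eq_mul]; positivity)) s t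
  simpa [mul_assoc] using this

theorem cj_mem {γ : Rt D} (hγ : co γ k = 0) (s : F) {z : G} (hz : z ∈ S.XS (Rk k)) :
    (S.x γ s)⁻¹ * z * S.x γ s ∈ S.XS (Rk k) :=
  S.conj_mem_of_cl' (cl_Rk (R := {γ}) fun r hr => by rw [Set.mem_singleton_iff.mp hr, hγ])
    (S.x_mem (Set.mem_singleton γ) s) hz

variable (S) in
/-- the elements with vanishing coordinate -/
def Kz (hm : co m k = 1) : Subgroup G where
  carrier := {z | z ∈ S.XS (Rk k) ∧ S.cq m z = 0}
  one_mem' := ⟨one_mem _, S.cq_one m⟩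
  mul_mem' := fun ha hb => ⟨mul_mem ha.1 hb.1, by rw [cq_mul hm ha.1 hb.1, ha.2, hb.2, add_zero]⟩
  inv_mem' := fun ha => ⟨inv_mem ha.1, by rw [cq_inv hm ha.1, ha.2, neg_zero]⟩

theorem cq_cj_x (hm : co m k = 1) {γ : Rt D} (hγ : co γ k = 0) (s : F) {r : Rt D} (hr : r ∈ Rk k)
    (t : F) (h : ∀ e ∈ D.commTerms γ r, e.1 ≠ m) :
    S.cq m ((S.x γ s)⁻¹ * S.x r t * S.x γ s) = S.cq m (S.x r t) := by
  have := cj_x (S := S) hγ s hr t (K := S.Kz hm) fun e he v hv h1 t =>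
    ⟨S.x_mem h1 t, by rw [cq_x, if_neg fun e' => h e he (by rw [hv, e'])]⟩
  rw [← mul_inv_cancel_left (S.x r t) ((S.x γ s)⁻¹ * S.x r t * S.x γ s),
    cq_mul hm (S.x_mem hr t) this.1, this.2, add_zero]

theorem cq_cj0 (hm : co m k = 1) {γ : Rt D} (hγ : co γ k = 0) (s : F)
    (h : ∀ r : Rt D, 0 < co r k → ∀ e ∈ D.commTerms γ r, e.1 ≠ m) {z : G}
    (hz : z ∈ S.XS (Rk k)) : S.cq m ((S.x γ s)⁻¹ * z * S.x γ s) = S.cq m z :=
  (cq_ind (κ := fun z => (S.x γ s)⁻¹ * z * S.x γ s) (Λ := S.cq m) hm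
    (fun _ _ _ _ => by group) (fun _ h1 _ h2 => cq_mul hm h1 h2)
    (fun r hr t => ⟨cj_mem hγ s (S.x_mem hr t), cq_cj_x hm hγ s hr t (h r (mem_Rk.mp hr))⟩) hz).2

theorem cq_cj1 (hm : co m k = 1) {γ : Rt D} (hγ : co γ k = 0) (s : F) {r0 : Rt D} {C : ℤ}
    (h0 : co r0 k = 1 ∧ D.commTerms γ r0 = [((m : ℕ), C, 1, 1)])
    (h : ∀ r : Rt D, 0 < co r k → r ≠ r0 → ∀ e ∈ D.commTerms γ r, e.1 ≠ m) {z : G}
    (hz : z ∈ S.XS (Rk k)) :
    S.cq m ((S.x γ s)⁻¹ * z * S.x γ s) = S.cq m z - C * s * S.cq r0 z := by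
  refine (cq_ind (κ := fun z => (S.x γ s)⁻¹ * z * S.x γ s)
    (Λ := fun z => S.cq m z - C * s * S.cq r0 z) hm
    (fun _ _ _ _ => by group) (fun _ h1 _ h2 => by rw [cq_mul hm h1 h2, cq_mul h0.1 h1 h2]; ring)
    (fun r hr t => ⟨cj_mem hγ s (S.x_mem hr t), ?_⟩) hz).2
  by_cases e : r = r0
  · subst e
    have := S.comm_of (r := γ) (s := r) ⟨fun e => by simp [e, hγ] at h0,
      fun e => by simp [e, hγ] at h0, h0.2⟩ s t
    rw [mul_assoc, this, mul_assoc, inv_mul_cancel_left, List.map_singleton, wd_one,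
      cq_mul hm (S.x_mem hr t) (S.x_mem (mem_Rk.mpr (by omega)) _), S.cq_x m m, S.cq_x r r]
    simp only [if_true]; ring
  · rw [cq_cj_x hm hγ s hr t (h r (mem_Rk.mp hr) e), S.cq_x r0, if_neg e]; ring

end StSys

theorem Tw.cq_f {S : StSys D F G} {σ : Sym D} (T : Tw S σ) {k : Ix D}
    (hσ : ∀ r, co (σ.p r) k = co r k) {m : Rt D} (hm : co m k = 1) {z : G}
    (hz : z ∈ S.XS (Rk k)) : S.cq (σ.p m) (T.f z) = T.φ m (S.cq m z) := by
  refine (cq_ind (κ := T.f) (Λ := fun z => T.φ m (S.cq m z)) (by rw [hσ, hm])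
    (fun _ h1 _ h2 => T.f_mul _ (S.XS_le_grp _ h1) _ (S.XS_le_grp _ h2))
    (fun _ h1 _ h2 => by rw [cq_mul hm h1 h2]; exact T.mor.φ_add _ _ _)
    (fun r hr t => ⟨T.f_x r t ▸ S.x_mem (by rwa [mem_Rk, hσ, ← mem_Rk]) _, ?_⟩) hz).2
  rw [T.f_x, cq_x, cq_x]
  by_cases e : r = m
  · simp [e]
  · simp [e, T.φ_zero]

end Cfsg.Agent.Chev
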