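import Mathlib
import Cfsg.Agent.Chev.Mx

/-! Overgroups of the subfield points of a twisted group. -/

set_option autoImplicit false
set_option linter.unusedSectionVars false
set_option maxHeartbeats 400000

namespace Cfsg.Agent.Chev
open Cfsg.Lie Cfsg.Agent.BN StSys

variable {D : ChevalleyDatum} [g : Good2 D] {F : Type*} [Field F] {G : Type*} [Group G]

theorem commute_of_fix (Ψ : G →* G) {x y : G} (hx : Ψ x = x)
    (h : Ψ (x * y * x⁻¹ * y⁻¹) = x * y * x⁻¹ * y⁻¹) : Commute ((Ψ y)⁻¹ * y) x := by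
  simp only [map_mul, map_inv, hx] at h
  calc (Ψ y)⁻¹ * y * x = (Ψ y)⁻¹ * (x * y * x⁻¹ * y⁻¹)⁻¹ * x * y := by group
    _ = (Ψ y)⁻¹ * (x * Ψ y * x⁻¹ * (Ψ y)⁻¹)⁻¹ * x * y := by rw [h]
    _ = x * ((Ψ y)⁻¹ * y) := by group

theorem commute_conj_iff {d m x : G} : Commute (m⁻¹ * d * m) x ↔ Commute d (m * x * m⁻¹) :=
  ⟨fun h => by
    calc d * (m * x * m⁻¹) = m * (m⁻¹ * d * m * x) * m⁻¹ := by group
      _ = _ := by rw [h.eq]; group,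
   fun h => by
    calc m⁻¹ * d * m * x = m⁻¹ * (d * (m * x * m⁻¹)) * m := by group
      _ = _ := by rw [h.eq]; group⟩

theorem θ_eq_one_of_core' {S : StSys D F G} {K : Subgroup G} {a : G} {w : W D} (ha : a ∈ K)
    (hN : a ∈ S.N) (hm : S.Mono a w) (hw : ∀ r : Rt D, Pos r → ¬ Pos (w⁻¹ • r))
    (hx : ∀ i, ∃ u ∈ S.U ⊓ K, u ∉ S.Ui i) {y : G} (hy : ∀ a ∈ K, a * y * a⁻¹ ∈ S.B) :
    S.θ y = 1 := by
  have key : ∀ y : G, (∀ a ∈ K, a * y * a⁻¹ ∈ S.B) → y ∈ S.H := fun y hy => by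
    rw [← B_inf_VH]
    refine ⟨by simpa using hy 1 (one_mem _), ?_⟩
    obtain ⟨u, hu, z, hz, e⟩ := mem_B.mp (hy a ha)
    have : y = (a⁻¹ * u * a) * (a⁻¹ * z * a) := by
      calc y = a⁻¹ * (a * y * a⁻¹) * a := by group
        _ = _ := by rw [e]; group
    rw [this]
    exact mul_mem (Subgroup.mem_sup_left (hm.conj_mem' hw hu))
      (Subgroup.mem_sup_right (conj_mem_H' hN hz))
  have h1 := key y hy
  refine IsTw.θ_eq_one_of_comm hx h1 fun u hu => ?_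
  have h2 : u * y * u⁻¹ ∈ S.H := key _ fun a ha => by
    simpa [mul_assoc] using hy _ (mul_mem ha hu.2)
  have h3 := one_of_mem_U_H (mul_mem hu.1 (inv_mem (B_conj_U (S.H_le_B h1) hu.1)))
    (by simpa [mul_assoc] using mul_mem h2 (inv_mem h1))
  exact (mul_inv_eq_one.mp h3).symm

/-- the orbit of a root -/
def Ob (σ : Sym D) (r : Rt D) : Set (Rt D) := {r, σ.p r, σ.p (σ.p r)}

instance instDecOb (σ : Sym D) (r s : Rt D) : Decidable (s ∈ Ob σ r) :=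
  inferInstanceAs (Decidable (s = r ∨ s = σ.p r ∨ s = σ.p (σ.p r)))

/-- a twisting endomorphism together with a commuting field endomorphism -/
structure SF (S : StSys D F G) (σ : Sym D) where
  T : Tw S σ
  ψ : F →+* F
  Ψ : G →* G
  Ψ_x : ∀ r t, Ψ (S.x r t) = S.x r (ψ t)
  φ_ψ : ∀ r t, ψ (T.φ r t) = T.φ r (ψ t)
  φ_fix : ∀ r, σ.p r = r → ∀ t, T.φ r t = ψ t

namespace SF
variable {S : StSys D F G} {σ : Sym D} (A : SF S σ)

/-- the common fixed points -/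
def M : Subgroup G := A.T.Fx ⊓ A.Ψ.eqLocus (MonoidHom.id G)

variable {A}
theorem mem_M {y : G} : y ∈ A.M ↔ y ∈ A.T.Fx ∧ A.Ψ y = y := Iff.rfl

theorem x_mem_M {r : Rt D} (h : σ.p r = r) {t : F} (ht : A.ψ t = t) : S.x r t ∈ A.M :=
  ⟨(Tw.x_mem_Fx h).mpr (by rw [A.φ_fix r h, ht]), by
    change A.Ψ _ = S.x r t; rw [A.Ψ_x, ht]⟩

theorem n_mem_M {r : Rt D} (h : σ.p r = r) {t : F} (ht : A.ψ t = t) : S.n r t ∈ A.M :=
  mul_mem (mul_mem (x_mem_M h ht) (x_mem_M (by rw [σ.p_ng, h]) (by simp [ht]))) (x_mem_M h ht)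

theorem h_mem_M {r : Rt D} (h : σ.p r = r) {t : F} (ht : A.ψ t = t) : S.h r t ∈ A.M :=
  mul_mem (n_mem_M h ht) (n_mem_M h (by simp))

theorem Ψ_mem_grp {y : G} (hy : y ∈ S.grp) : A.Ψ y ∈ S.grp :=
  S.map_mem_XS A.Ψ (fun r _ t => A.Ψ_x r t ▸ S.x_mem_grp r _) hy

theorem exists_conj_rat {n : G} (hn : n ∈ A.M) {w : W D} (hm : S.Mono n w) (s : Rt D) :
    ∃ c, c ≠ 0 ∧ A.ψ c = c ∧ ∀ u, n * S.x s u * n⁻¹ = S.x (w • s) (c * u) := by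
  obtain ⟨c, h0, hc, -⟩ := hm.exists_conj s
  refine ⟨c, h0, ?_, hc⟩
  have := congrArg A.Ψ (hc 1)
  rw [map_mul, map_mul, map_inv, (mem_M.mp hn).2, A.Ψ_x, A.Ψ_x, map_one, hc] at this
  simpa using (S.x_inj this).symm

theorem rat_φ {r : Rt D} {t : F} : A.ψ (A.T.φ r t) = A.T.φ r t ↔ A.ψ t = t := by
  rw [A.φ_ψ]; exact (A.T.mor.φ_inj r).eq_iff

variable (A) in
/-- Weyl group elements with a representative in `M` -/
def NW : Subgroup (W D) where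
  carrier := {w | ∃ n ∈ A.M, n ∈ S.N ∧ S.Mono n w}
  one_mem' := ⟨1, one_mem _, one_mem _, Mono.one⟩
  mul_mem' := fun ⟨_, h1, h2, h3⟩ ⟨_, h4, h5, h6⟩ => ⟨_, mul_mem h1 h4, mul_mem h2 h5, h3.mul h6⟩
  inv_mem' := fun ⟨_, h1, h2, h3⟩ => ⟨_, inv_mem h1, inv_mem h2, h3.inv⟩

theorem smul_p {w : W D} (hw : w ∈ A.NW) (r : Rt D) : w • σ.p r = σ.p (w • r) := by
  obtain ⟨n, h1, h2, h3⟩ := hw
  rw [← σ.ρ_smul, Tw.ρ_eq_of_mono h1.1 h2 h3]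

theorem smul_mem_Ob {w : W D} (hw : w ∈ A.NW) {r s : Rt D} (h : s ∈ Ob σ r) :
    w • s ∈ Ob σ (w • r) := by
  rcases h with rfl | rfl | rfl <;> simp [Ob, smul_p hw]

theorem wp_mem_NW {l : List (Ix D)} (h : wp S.ns l ∈ A.M) : wp sW l ∈ A.NW :=
  ⟨_, h, S.wp_ns_mem l, S.mono_wp l⟩

theorem wp_flat_mem {ι : Type} {b : ι → List (Ix D)} (h : ∀ a, wp sW (b a) ∈ A.NW) (l : List ι) :
    wp sW (l.flatMap b) ∈ A.NW := by
  induction l with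
  | nil => exact one_mem _
  | cons a l ih => rw [List.flatMap_cons, wp_append]; exact mul_mem (h a) ih

variable {H : Subgroup G}

theorem full_conj (hM : A.M ≤ H) {w : W D} (hw : w ∈ A.NW) {m : Rt D}
    (h : A.T.Fx ⊓ S.XS (Ob σ m) ≤ H) : A.T.Fx ⊓ S.XS (Ob σ (w • m)) ≤ H := fun y hy => by
  obtain ⟨n, h1, h2, h3⟩ := id hw
  have h4 : n ∈ A.T.Fx := h1.1
  have h5 : y ∈ A.T.Fx := hy.1
  have h6 : n⁻¹ * y * n ∈ A.T.Fx := mul_mem (mul_mem (inv_mem h4) h5) h4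
  have := h (x := n⁻¹ * y * n) ⟨h6,
    h3.conj_mem' (fun r hr => by simpa using smul_mem_Ob (inv_mem hw) hr) hy.2⟩
  simpa [mul_assoc] using mul_mem (mul_mem (hM h1) this) (inv_mem (hM h1))

variable {k : Ix D} {θ : Rt D}

variable (A k θ) in
/-- the properties of the highest root and of the node joined to it -/
structure Top : Prop where
  hσ : ∀ r, co (σ.p r) k = co r k
  hθ : σ.p θ = θ
  lev2 : ∀ r, 2 ≤ co r k → r = θ
  prθ : ∀ r, pr θ r = co r k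
  oe : ∀ r, co r k = 1 → ∀ t, A.ψ t = t → ∃ y ∈ A.M, y ∈ S.XS (Ob σ r) ∧ S.cq r y = t

namespace Top
variable (h : A.Top k θ)
include h

theorem Ob_sub {r : Rt D} (hr : co r k = 1) {s : Rt D} (hs : s ∈ Ob σ r) : co s k = 1 := by
  rcases hs with rfl | rfl | rfl <;> simp [h.hσ, hr]

theorem Ob_le {r : Rt D} (hr : co r k = 1) : Ob σ r ⊆ Rk k := fun _ hs =>
  mem_Rk.mpr (by rw [h.Ob_sub hr hs]; exact one_pos)

theorem cq_p {z : G} (hz : z ∈ A.T.Fx) (hQ : z ∈ S.XS (Rk k)) {m : Rt D} (hm : co m k = 1) :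
    S.cq (σ.p m) z = A.T.φ m (S.cq m z) := by
  rw [← A.T.cq_f h.hσ hm hQ, hz.2]

theorem rat_fix {z : G} (hz : z ∈ A.T.Fx) (hQ : z ∈ S.XS (Rk k)) {m : Rt D} (hm : co m k = 1)
    (hp : σ.p m = m) : A.ψ (S.cq m z) = S.cq m z := by
  rw [← A.φ_fix m hp, ← h.cq_p hz hQ hm, hp]

theorem cq_Ob {z : G} (hz : z ∈ A.T.Fx) (hQ : z ∈ S.XS (Rk k)) {m : Rt D} (hm : co m k = 1)
    (h0 : S.cq m z = 0) {s : Rt D} (hs : s ∈ Ob σ m) : S.cq s z = 0 := by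
  have h1 : S.cq (σ.p m) z = 0 := by rw [h.cq_p hz hQ hm, h0, A.T.φ_zero]
  rcases hs with rfl | rfl | rfl
  · exact h0
  · exact h1
  · rw [h.cq_p hz hQ (by rw [h.hσ, hm]), h1, A.T.φ_zero]

theorem rat_Ob {z : G} (hz : z ∈ A.T.Fx) (hQ : z ∈ S.XS (Rk k)) {m : Rt D} (hm : co m k = 1)
    {s : Rt D} (hs : s ∈ Ob σ m) : A.ψ (S.cq s z) = S.cq s z ↔ A.ψ (S.cq m z) = S.cq m z := by
  rcases hs with rfl | rfl | rfl
  · rfl
  · rw [h.cq_p hz hQ hm, rat_φ]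
  · rw [h.cq_p hz hQ (by rw [h.hσ, hm]), rat_φ, h.cq_p hz hQ hm, rat_φ]

theorem mem_M_of_rat {z : G} (hz : z ∈ A.T.Fx) (hQ : z ∈ S.XS (Rk k))
    (hr : ∀ m, co m k = 1 → A.ψ (S.cq m z) = S.cq m z) : z ∈ A.M := by
  classical
  generalize hn : (Finset.univ.filter fun m : Rt D => co m k = 1 ∧ S.cq m z ≠ 0).card = n
  induction n using Nat.strong_induction_on generalizing z with
  | _ n ih =>
  by_cases h0 : ∀ m, co m k = 1 → S.cq m z = 0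
  · obtain ⟨t, rfl⟩ := top_of_cq h.lev2 hQ h0
    exact x_mem_M h.hθ (by rw [← A.φ_fix θ h.hθ]; exact (Tw.x_mem_Fx h.hθ).mp hz)
  push Not at h0
  obtain ⟨r, hr1, hr0⟩ := h0
  obtain ⟨y, hy, hyO, hyr⟩ := h.oe r hr1 _ (hr r hr1)
  have hyQ := S.XS_mono (h.Ob_le hr1) hyO
  have h1 : y⁻¹ * z ∈ A.T.Fx := mul_mem (inv_mem hy.1) hz
  have h2 : y⁻¹ * z ∈ S.XS (Rk k) := mul_mem (inv_mem hyQ) hQ
  have h3 : S.cq r (y⁻¹ * z) = 0 := by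
    rw [cq_mul hr1 (inv_mem hyQ) hQ, cq_inv hr1 hyQ, hyr, neg_add_cancel]
  have h4 : ∀ m, co m k = 1 → S.cq m (y⁻¹ * z) = 0 ∨ S.cq m (y⁻¹ * z) = S.cq m z := fun m hm => by
    by_cases e : m ∈ Ob σ r
    · exact Or.inl (h.cq_Ob h1 h2 hr1 h3 e)
    · right
      rw [cq_mul hm (inv_mem hyQ) hQ, cq_inv hm hyQ, cq_eq_zero hm (h.Ob_le hr1) e hyO, neg_zero,
        zero_add]
  suffices y⁻¹ * z ∈ A.M by simpa using mul_mem hy this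
  refine ih _ ?_ h1 h2 (fun m hm => ?_) rfl
  · rw [← hn]
    refine Finset.card_lt_card ⟨fun m hm => ?_, fun hs => ?_⟩
    · simp only [Finset.mem_filter, Finset.mem_univ, true_and] at hm ⊢
      exact ⟨hm.1, ((h4 m hm.1).resolve_left hm.2) ▸ hm.2⟩
    · simpa [h3] using hs (Finset.mem_filter.mpr ⟨Finset.mem_univ r, hr1, hr0⟩)
  · rcases h4 m hm with e | e <;> simp [e, hr m hm]

theorem exists_nonrat {z : G} (hz : z ∈ A.T.Fx) (hQ : z ∈ S.XS (Rk k)) (hn : z ∉ A.M) :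
    ∃ m, co m k = 1 ∧ σ.p m ≠ m ∧ A.ψ (S.cq m z) ≠ S.cq m z := by
  by_contra hc
  push Not at hc
  exact hn (h.mem_M_of_rat hz hQ fun m hm =>
    if e : σ.p m = m then h.rat_fix hz hQ hm e else hc m hm e)

end Top

variable (A H k) in
/-- coordinates of elements of `H` which are rational outside an orbit -/
def Am (m : Rt D) : Set F := {τ | ∃ z ∈ H, z ∈ S.XS (Rk k) ∧ S.cq m z = τ ∧
  ∀ s, co s k = 1 → s ∉ Ob σ m → A.ψ (S.cq s z) = S.cq s z}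

variable {m : Rt D}

theorem Am_add (hm : co m k = 1) {τ τ' : F} (h1 : τ ∈ A.Am H k m) (h2 : τ' ∈ A.Am H k m) :
    τ + τ' ∈ A.Am H k m := by
  obtain ⟨z, a1, a2, rfl, a3⟩ := h1
  obtain ⟨z', b1, b2, rfl, b3⟩ := h2
  exact ⟨z * z', mul_mem a1 b1, mul_mem a2 b2, cq_mul hm a2 b2, fun s hs hn => by
    rw [cq_mul hs a2 b2, map_add, a3 s hs hn, b3 s hs hn]⟩

theorem Am_conj (hM : A.M ≤ H) (hm : co m k = 1) {n : G} (hn : n ∈ A.M) {w : W D}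
    (hw : w ∈ A.NW) (hnw : S.Mono n w) (hl : ∀ r : Rt D, co (w • r) k = co r k) {c : F}
    (hc : ∀ u, n * S.x m u * n⁻¹ = S.x (w • m) (c * u)) {τ : F} (h : τ ∈ A.Am H k m) :
    c * τ ∈ A.Am H k (w • m) := by
  obtain ⟨z, a1, a2, rfl, a3⟩ := h
  refine ⟨n * z * n⁻¹, mul_mem (mul_mem (hM hn) a1) (inv_mem (hM hn)),
    (cq_mono hm hl hnw hc a2).1, (cq_mono hm hl hnw hc a2).2, fun s hs hO => ?_⟩
  obtain ⟨s, rfl⟩ : ∃ s', w • s' = s := ⟨w⁻¹ • s, smul_inv_smul _ _⟩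
  obtain ⟨d, -, hd, hd'⟩ := exists_conj_rat hn hnw s
  rw [hl] at hs
  rw [(cq_mono hs hl hnw hd' a2).2, map_mul, hd, a3 s hs fun e => hO (smul_mem_Ob hw e)]

namespace Top
variable (h : A.Top k θ) (hM : A.M ≤ H) (hm : co m k = 1)
include h hM hm

theorem Am_rat {t : F} (ht : A.ψ t = t) : t ∈ A.Am H k m := by
  obtain ⟨y, hy, hO, rfl⟩ := h.oe m hm t ht
  exact ⟨y, hM hy, S.XS_mono (h.Ob_le hm) hO, rfl, fun s hs hn => by
    rw [cq_eq_zero hs (h.Ob_le hm) hn hO, map_zero]⟩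

theorem Am_smul {c τ : F} (hc : A.ψ c = c) (h1 : τ ∈ A.Am H k m) : c * τ ∈ A.Am H k m := by
  by_cases h0 : c = 0
  · rw [h0, zero_mul]; exact h.Am_rat hM hm (map_zero _)
  simpa using Am_conj hM hm (h_mem_M h.hθ hc) (one_mem _) (S.mono_h θ h0) (by simp)
    (c := c) (fun u => by rw [S.h_conj θ h0, h.prθ, hm, zpow_one, one_smul]) h1

theorem Am_smul_iff {c τ : F} (h0 : c ≠ 0) (hc : A.ψ c = c) (h1 : c * τ ∈ A.Am H k m) :
    τ ∈ A.Am H k m := by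
  simpa [h0] using h.Am_smul hM hm (c := c⁻¹) (by rw [map_inv₀, hc]) h1

theorem Am_smul_W {w : W D} (hw : w ∈ A.NW) (hl : ∀ r : Rt D, co (w • r) k = co r k) {τ : F}
    (h1 : τ ∈ A.Am H k m) : τ ∈ A.Am H k (w • m) := by
  obtain ⟨n, a1, -, a2⟩ := id hw
  obtain ⟨c, b1, b2, b3⟩ := exists_conj_rat a1 a2 m
  exact h.Am_smul_iff hM (by rw [hl, hm]) b1 b2 (Am_conj hM hm a1 hw a2 hl b3 h1)

theorem mem_of_Am (hH : H ≤ A.T.Fx) {y : G} (hy : y ∈ A.T.Fx) (hO : y ∈ S.XS (Ob σ m))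
    (h1 : S.cq m y ∈ A.Am H k m) : y ∈ H := by
  obtain ⟨z, a1, a2, a3, a4⟩ := h1
  have hQ := S.XS_mono (h.Ob_le hm) hO
  have b1 : y⁻¹ * z ∈ A.T.Fx := mul_mem (inv_mem hy) (hH a1)
  have b2 : y⁻¹ * z ∈ S.XS (Rk k) := mul_mem (inv_mem hQ) a2
  have := hM (h.mem_M_of_rat b1 b2 fun s hs => by
    by_cases e : s ∈ Ob σ m
    · rw [h.cq_Ob b1 b2 hm (by rw [cq_mul hm (inv_mem hQ) a2, cq_inv hm hQ, a3, neg_add_cancel]) e,
        map_zero]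
    · rw [cq_mul hs (inv_mem hQ) a2, cq_inv hs hQ, cq_eq_zero hs (h.Ob_le hm) e hO, neg_zero,
        zero_add, a4 s hs e])
  simpa using mul_mem a1 (inv_mem this)

theorem nonrat_smul (hH : H ≤ A.T.Fx) {w : W D} (hw : w ∈ A.NW)
    (hl : ∀ r : Rt D, co (w • r) k = co r k) {r0 : Rt D} (h0 : co r0 k = 1) (hO : w • m ∈ Ob σ r0)
    {z : G} (hz : z ∈ H) (hQ : z ∈ S.XS (Rk k)) (hn : A.ψ (S.cq m z) ≠ S.cq m z) :
    ∃ z ∈ H, z ∈ S.XS (Rk k) ∧ A.ψ (S.cq r0 z) ≠ S.cq r0 z := by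
  obtain ⟨n, a1, -, a2⟩ := id hw
  obtain ⟨c, b1, b2, b3⟩ := exists_conj_rat a1 a2 m
  have h1 := mul_mem (mul_mem (hM a1) hz) (inv_mem (hM a1))
  obtain ⟨h2, h3⟩ := cq_mono hm hl a2 b3 hQ
  refine ⟨_, h1, h2, fun e => hn ?_⟩
  rw [← h.rat_Ob (hH h1) h2 h0 hO, h3, map_mul, b2] at e
  exact mul_left_cancel₀ b1 e

end Top
end SF
end Cfsg.Agent.Chev
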