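import Mathlib
import Cfsg.Agent.Chev.Mx2

/-! Overgroups of the subfield points of a twisted group: long root elements. -/

set_option autoImplicit false
set_option linter.unusedSectionVars false
set_option maxHeartbeats 400000

namespace Cfsg.Agent.Chev
open Cfsg.Lie Cfsg.Agent.BN StSys

variable {D : ChevalleyDatum} [g : Good2 D] {F : Type*} [Field F] {G : Type*} [Group G]

theorem comm_aux {a b x y z : G} (h : b * a = a * b * z) (h1 : Commute a y) (h2 : Commute b x)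
    (h3 : Commute x y) (h4 : Commute z x) (h5 : Commute z y) :
    (a * x * (b * y))⁻¹ * (b * y * (a * x)) = z := by
  rw [inv_mul_eq_iff_eq_mul]
  calc _ = b * (y * a) * x := by group
    _ = a * b * (z * y) * x := by rw [← h1.eq, ← mul_assoc, h]; group
    _ = a * b * y * (z * x) := by rw [h5.eq]; group
    _ = a * b * (y * x) * z := by rw [h4.eq]; group
    _ = a * (b * x) * y * z := by rw [← h3.eq]; group
    _ = _ := by rw [h2.eq]; group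

namespace SF
variable {S : StSys D F G} {σ : Sym D} {A : SF S σ} {H : Subgroup G} {k : Ix D} {θ : Rt D}

variable (A θ) in
/-- the data showing that the long root elements of `M` have trivial centralizer -/
structure Cen : Prop where
  hθ : σ.p θ = θ
  inj : ∀ y ∈ S.grp, S.θ y = 1 → y = 1
  reg : ∃ (n : ℕ) (w : Fin n → W D) (a : Fin n → ℤ), (∀ j, w j ∈ A.NW) ∧ (∀ j, 0 < a j) ∧
    (∀ j, Pos (w j • θ)) ∧ ∀ i, 0 < ∑ j, a j * ca i (w j • θ)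
  n0 : ∃ w ∈ A.NW, ∀ r : Rt D, Pos r → ¬ Pos (w • r)
  hx : ∀ i, ∃ u ∈ S.U ⊓ A.M, u ∉ S.Ui i

theorem Cen.eq_one (h : A.Cen θ) {d : G} (hd : d ∈ S.grp)
    (hc : ∀ m ∈ A.M, Commute d (m * S.x θ 1 * m⁻¹)) : d = 1 := by
  have key : ∀ d ∈ S.grp, (∀ m ∈ A.M, Commute d (m * S.x θ 1 * m⁻¹)) → d ∈ S.B := by
    intro d hd hc
    obtain ⟨n, w, a, h1, h2, h3, h4⟩ := h.reg
    obtain ⟨v, hv⟩ := exists_cell hd
    rw [← StSys.mem_cell_one, ← eq_one_of_rle h2 h4 (w := v) fun j => ?_]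
    · exact hv
    obtain ⟨m, a1, -, a2⟩ := h1 j
    obtain ⟨c, b1, -, b2⟩ := exists_conj_rat a1 a2 θ
    have := hc m a1
    rw [b2, mul_one] at this
    have hl : S.Lead (S.x (w j • θ) c) (w j • θ) c := by simp [Lead]
    exact hl.rle (h3 j) b1 (S.x_mem (T := UpL [w j • θ]) ⟨_, by simp, RLe.rfl⟩ _) hv
      (by rw [this.eq, mul_inv_cancel_right])
  obtain ⟨w, hw, hw'⟩ := h.n0
  obtain ⟨n, a1, a2, a3⟩ := inv_mem hw
  refine h.inj d hd (θ_eq_one_of_core' a1 a2 a3 (by simpa using hw') h.hx fun a ha =>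
    key _ (mul_mem (mul_mem ha.1.1 hd) (inv_mem ha.1.1)) fun m hm => ?_)
  have := commute_conj_iff (m := a⁻¹) (d := d) (x := m * S.x θ 1 * m⁻¹)
  rw [inv_inv] at this
  exact this.mpr (by simpa [mul_assoc] using hc _ (mul_mem (inv_mem ha) hm))

variable (A k θ) in
/-- the data used for opposite long root subgroups -/
structure Opp : Prop where
  hk : σ.π k = k
  hθ : σ.p θ = θ
  pos : Pos θ
  top : ∀ s, Pos s → RLe s θ
  lev : co θ k = 2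
  lev2 : ∀ r, 2 ≤ co r k → r = θ
  sl : ∀ β : Rt D, ∀ e ∈ D.commTerms θ β, e.2.2.2 = 1
  ct : ∃ C : ℤ, C * C = 1 ∧ rf k θ ≠ sim k ∧ rf k θ ≠ ng (sim k) ∧
    D.commTerms (sim k : Rt D) (rf k θ) = [((θ : ℕ), C, 1, 1)]
  ne : rf k θ ≠ θ
  w1 : ∃ w ∈ A.NW, w • θ = θ ∧ w • rf k θ = sim k

variable (A θ) in
/-- conjugates of long root elements -/
def LR (y : G) : Prop := ∃ a ∈ A.T.Fx, ∃ s, y = a * S.x θ s * a⁻¹

theorem LR.conj {y m : G} (h : A.LR θ y) (hm : m ∈ A.T.Fx) : A.LR θ (m⁻¹ * y * m) := by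
  obtain ⟨a, ha, s, rfl⟩ := h
  exact ⟨m⁻¹ * a, mul_mem (inv_mem hm) ha, s, by group⟩

theorem δ_conj {y m : G} (hm : m ∈ A.M) :
    (A.Ψ (m⁻¹ * y * m))⁻¹ * (m⁻¹ * y * m) = m⁻¹ * ((A.Ψ y)⁻¹ * y) * m := by
  rw [map_mul, map_mul, map_inv, (mem_M.mp hm).2]; group

namespace Opp
variable (h : A.Opp k θ)
include h

theorem comm_mem_Q {β : Rt D} (hβ : β ≠ ng θ) {u : G} (hu : u ∈ S.U) (t c : F) :
    S.x θ t * (u * S.x β c * u⁻¹) * (S.x θ t)⁻¹ * (u * S.x β c * u⁻¹)⁻¹ ∈ S.XS (Rk k) := by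
  have h1 := S.comm_mem' (r := θ) (s := β) (K := S.XS (Rk k)) hβ (fun e he v _ h1 _ h3 t => by
    refine S.x_mem (mem_Rk.mpr ?_) t
    have : -1 ≤ co β k := by
      by_contra h4
      exact hβ (ng_eq_iff.mp (h.lev2 (ng β) (by simp only [co_ng, Pi.neg_apply]; omega)))
    rw [h3, h.sl β e he]
    simp only [Pi.add_apply, Pi.smul_apply, h.lev, smul_eq_mul]
    omega) (-t) (-c)
  have h2 := S.conj_mem_of_cl (cl_Rk (R := {r | Pos r}) fun r hr => (pos_iff r).mp hr k) hu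
    (inv_mem h1)
  have e : S.x θ t = u * S.x θ t * u⁻¹ := by
    rw [(S.top_comm h.pos h.top hu t).eq, mul_inv_cancel_right]
  rw [e]
  convert h2 using 1
  simp only [S.x_neg]; group

theorem exists_eq {y : G} (hy : A.LR θ y) :
    ∃ u ∈ S.U, u ∈ A.T.Fx ∧ ∃ β c, y = u * S.x β c * u⁻¹ := by
  obtain ⟨a, ha, s, rfl⟩ := hy
  obtain ⟨w, hw⟩ := exists_cell ha.1
  obtain ⟨u, hu, n, hn, hm, v, hv, rfl⟩ := exists_normal' hw
  obtain ⟨c, -, hc, -⟩ := hm.exists_conj θ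
  refine ⟨u, hu, (Tw.normal_mem hu hn hm hv ha).1, w • θ, c * s, ?_⟩
  rw [← hc]
  calc _ = u * n * (v * S.x θ s) * v⁻¹ * n⁻¹ * u⁻¹ := by group
    _ = _ := by rw [(S.top_comm h.pos h.top (Uw_le_U _ hv) s).eq]; group

variable (hM : A.M ≤ H) (hQ : ∀ y ∈ H, y ∈ S.XS (Rk k) → y ∈ A.M)
include hM hQ

theorem comm_of_ne {β : Rt D} (hβ : β ≠ ng θ) {u : G} (hu : u ∈ S.U) {c : F} {y : G}
    (e : y = u * S.x β c * u⁻¹) (hy : y ∈ H) {t : F} (ht : A.ψ t = t) :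
    Commute ((A.Ψ y)⁻¹ * y) (S.x θ t) := by
  have h1 := x_mem_M (A := A) h.hθ ht
  exact commute_of_fix A.Ψ h1.2 (hQ _ (mul_mem (mul_mem (mul_mem (hM h1) hy) (inv_mem (hM h1)))
    (inv_mem hy)) (e ▸ h.comm_mem_Q hβ hu t c)).2

theorem comm_or {y : G} (hy : A.LR θ y) (hH : y ∈ H) :
    (∀ t, A.ψ t = t → Commute ((A.Ψ y)⁻¹ * y) (S.x θ t)) ∨
      ∀ t, A.ψ t = t → ∃ e, Commute ((A.Ψ y)⁻¹ * y) (S.x (rf k θ) t * S.x θ e) := by
  obtain ⟨u, hu, hf, β, c, e⟩ := h.exists_eq hy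
  by_cases hβ : β = ng θ
  swap
  · exact Or.inl fun t ht => h.comm_of_ne hM hQ hβ hu e hH ht
  refine Or.inr fun t ht => ?_
  obtain ⟨s, v, hv, rfl⟩ := S.exists_Ui_split k hu
  have hp : σ.p (sim k) = sim k := by rw [σ.p_sim, h.hk]
  have hs : A.ψ s = s := by
    have h1 := hf.2
    rw [A.T.f_xmul _ _ (S.XS_le_grp _ hv), hp, A.φ_fix _ hp] at h1
    refine eq_of_Ui (A.T.mem_XS (fun r hr => ?_) hv) hv h1
    refine ⟨(σ.pos_p r).mpr hr.1, ?_⟩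
    have := σ.p_rf k r
    rw [h.hk] at this
    rw [sW_smul, ← this, σ.pos_p]; exact hr.2
  have hn : S.ns k ∈ A.M := n_mem_M hp (map_one _)
  have hm : S.x (sim k) s * S.ns k ∈ A.M := mul_mem (x_mem_M hp hs) hn
  obtain ⟨d, -, hd, -⟩ := (S.mono_ns k).inv.exists_conj β
  obtain ⟨c', b1, b2, b3⟩ := exists_conj_rat hn (S.mono_ns k) θ
  have := h.comm_of_ne hM hQ (β := (sW k)⁻¹ • β) (u := (S.ns k)⁻¹ * v * S.ns k) (c := d * c)
    (by rw [hβ, sW_inv, sW_smul, rf_ng]; exact fun e => h.ne (ng_inj e))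
    ((S.mono_ns k).conj_mem' (fun r hr => by rw [sW_inv]; exact hr.2) hv)
    (y := (S.x (sim k) s * S.ns k)⁻¹ * y * (S.x (sim k) s * S.ns k)) (by rw [e, ← hd]; group)
    (mul_mem (mul_mem (inv_mem (hM hm)) hH) (hM hm)) (t := c'⁻¹ * t) (by simp [b2, ht])
  rw [δ_conj hm, commute_conj_iff] at this
  obtain ⟨C, -, hC⟩ := h.ct
  have h2 := S.comm_of hC (-s) t
  rw [List.map_singleton, wd_one, S.x_neg] at h2
  have h3 : S.x (sim k) s * S.ns k * S.x θ (c'⁻¹ * t) * (S.x (sim k) s * S.ns k)⁻¹ =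
      S.x (sim k) s * (S.x (rf k θ) t * (S.x (sim k) s)⁻¹) := by
    have := b3 (c'⁻¹ * t)
    rw [mul_inv_cancel_left₀ b1, sW_smul] at this
    rw [← this]; group
  rw [h3, h2, mul_assoc, mul_inv_cancel_left] at this
  exact ⟨_, this⟩

theorem comm_top {y : G} (hy : A.LR θ y) (hH : y ∈ H) {t : F} (ht : A.ψ t = t) :
    Commute ((A.Ψ y)⁻¹ * y) (S.x θ t) := by
  rcases h.comm_or hM hQ hy hH with h1 | h1
  · exact h1 t ht
  obtain ⟨w, ⟨n, a1, -, a2⟩, w1, w2⟩ := h.w1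
  obtain ⟨c, b1, b2, b3⟩ := exists_conj_rat a1 a2 θ
  obtain ⟨d, d1, d2, d3⟩ := exists_conj_rat a1 a2 (rf k θ)
  rw [w1] at b3
  rw [w2] at d3
  rcases h.comm_or hM hQ (hy.conj a1.1) (mul_mem (mul_mem (inv_mem (hM a1)) hH) (hM a1))
    with h2 | h2
  · have := h2 (c⁻¹ * t) (by simp [b2, ht])
    rwa [δ_conj a1, commute_conj_iff, b3, mul_inv_cancel_left₀ b1] at this
  obtain ⟨e', h2⟩ := h2 1 (map_one _)
  rw [δ_conj a1, commute_conj_iff, show n * (S.x (rf k θ) 1 * S.x θ e') * n⁻¹ =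
    n * S.x (rf k θ) 1 * n⁻¹ * (n * S.x θ e' * n⁻¹) by group, d3, b3, mul_one] at h2
  obtain ⟨C, hC, hC'⟩ := h.ct
  have hC2 : (C : F) * C = 1 := by exact_mod_cast congrArg (Int.cast : ℤ → F) hC
  obtain ⟨e, h1⟩ := h1 (-(C * d⁻¹ * t)) (by simp [d2, ht])
  have h3 := S.comm_of hC' d (-(C * d⁻¹ * t))
  rw [List.map_singleton, wd_one] at h3
  have h4 : (C : F) * (-d) ^ 1 * (-(C * d⁻¹ * t)) ^ 1 = t := by
    field_simp; linear_combination t * hC2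
  simp only [h4] at h3
  have p1 : Pos (rf k θ) := pos_rf h.pos fun e => by simpa [e] using h.lev
  have c1 := fun a b => S.top_comm h.pos h.top (S.x_mem (T := {r | Pos r}) p1 a) b
  have c2 := fun a b => S.top_comm h.pos h.top (S.x_mem (T := {r | Pos r}) (pos_sim k) a) b
  have c3 := fun a b => S.top_comm h.pos h.top (S.x_mem (T := {r | Pos r}) h.pos a) b
  have := ((h2.mul_right h1).inv_right).mul_right (h1.mul_right h2)
  rwa [comm_aux h3 (c2 _ _) (c1 _ _) (c3 _ _) (c3 _ _) (c3 _ _)] at this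

theorem eq_M (hc : A.Cen θ) (hH : H ≤ A.T.Fx) : H = A.M := le_antisymm (fun y hy => by
  refine ⟨hH hy, ?_⟩
  change A.Ψ y = y
  rw [← inv_mul_eq_one]
  refine hc.eq_one (mul_mem (inv_mem (Ψ_mem_grp (hH hy).1)) (hH hy).1) fun m hm => ?_
  have h0 : S.x θ 1 ∈ A.M := x_mem_M h.hθ (map_one _)
  have h1 : m * S.x θ 1 * m⁻¹ ∈ A.M := mul_mem (mul_mem hm h0) (inv_mem hm)
  have h2 : y * (m * S.x θ 1 * m⁻¹) * y⁻¹ ∈ H := mul_mem (mul_mem hy (hM h1)) (inv_mem hy)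
  have h3 : A.LR θ (y * (m * S.x θ 1 * m⁻¹) * y⁻¹) := ⟨y * m, mul_mem (hH hy) hm.1, 1, by group⟩
  have h4 := hc.eq_one (mul_mem (inv_mem (Ψ_mem_grp (hH h2).1)) (hH h2).1) fun m' hm' => by
    rw [← commute_conj_iff, ← δ_conj hm']
    exact h.comm_top hM hQ (h3.conj hm'.1) (mul_mem (mul_mem (inv_mem (hM hm')) h2) (hM hm'))
      (map_one _)
  rw [inv_mul_eq_one, map_mul, map_mul, map_inv, (mem_M.mp h1).2] at h4
  generalize m * S.x θ 1 * m⁻¹ = x at *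
  calc (A.Ψ y)⁻¹ * y * x = (A.Ψ y)⁻¹ * (y * x * y⁻¹) * y := by group
    _ = _ := by rw [← h4]; group) hM

end Opp
end SF
end Cfsg.Agent.Chev
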