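import Mathlib
import Cfsg.Agent.Chev.Mx3
import Cfsg.Agent.Chev.TwD4
import Cfsg.Agent.Chev.D4Rel

/-! The subfield points of ³D₄(q) form a maximal subgroup. -/

set_option autoImplicit false
set_option linter.unusedSectionVars false
set_option maxHeartbeats 400000
set_option maxRecDepth 100000

namespace Cfsg.Agent.Chev
open Cfsg.Lie Cfsg.Agent.BN StSys

section
variable {D : ChevalleyDatum} [g : Good2 D] {F : Type*} [Field F] {G : Type*} [Group G]
  {S : StSys D F G} {σ : Sym D} {A : SF S σ}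

theorem SF.Ψ_ns (i : Ix D) : A.Ψ (S.ns i) = S.ns i := by simp [ns, n, A.Ψ_x]

theorem SF.f_ns (hφ : ∀ i, A.T.φ (sim i) 1 = 1) (i : Ix D) : A.T.f (S.ns i) = S.ns (σ.π i) := by
  rw [ns, A.T.f_n _ one_ne_zero, hφ, σ.p_sim, ns]

theorem SO.ns {i j : Ix D} (h : SO D (sim i) (sim j)) : Commute (S.ns i) (S.ns j) :=
  h.commute S (S.n_mem (by simp) (by simp) _) (S.n_mem (by simp) (by simp) _)

theorem SF.one_NW {i : Ix D} (h : σ.π i = i) : wp sW [i] ∈ A.NW :=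
  SF.wp_mem_NW (by simpa [ns] using SF.n_mem_M (A := A) (r := sim i) (by rw [σ.p_sim, h]) (map_one _))

theorem SF.two_NW (hφ : ∀ i, A.T.φ (sim i) 1 = 1) {i j : Ix D} (h1 : σ.π i = j) (h2 : σ.π j = i)
    (so : SO D (sim i) (sim j)) : wp sW [i, j] ∈ A.NW := by
  have m := fun i => S.N_le_grp (S.ns_mem i)
  refine SF.wp_mem_NW (SF.mem_M.mpr ⟨⟨S.N_le_grp (S.wp_ns_mem _), ?_⟩, by simp [SF.Ψ_ns]⟩)
  simp only [wp_cons, wp_nil, mul_one]
  rw [A.T.f_mul _ (m i) _ (m j), SF.f_ns hφ, SF.f_ns hφ, h1, h2, so.ns.eq]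

theorem SF.three_NW (hφ : ∀ i, A.T.φ (sim i) 1 = 1) {i j l : Ix D} (h1 : σ.π i = j)
    (h2 : σ.π j = l) (h3 : σ.π l = i) (so : SO D (sim i) (sim j)) (so' : SO D (sim i) (sim l)) :
    wp sW [i, j, l] ∈ A.NW := by
  have m := fun i => S.N_le_grp (S.ns_mem i)
  refine SF.wp_mem_NW (SF.mem_M.mpr ⟨⟨S.N_le_grp (S.wp_ns_mem _), ?_⟩, by simp [SF.Ψ_ns]⟩)
  simp only [wp_cons, wp_nil, mul_one]
  rw [A.T.f_mul _ (m i) _ (mul_mem (m j) (m l)), A.T.f_mul _ (m j) _ (m l), SF.f_ns hφ,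
    SF.f_ns hφ, SF.f_ns hφ, h1, h2, h3, (so.ns.mul_right so'.ns).eq, mul_assoc]

theorem co_wp {k : Ix D} {l : List (Ix D)} (h : k ∉ l) (r : Rt D) : co (wp sW l • r) k = co r k := by
  induction l with
  | nil => simp
  | cons i l ih =>
    rw [wp_cons, mul_smul, sW_smul, co_rf, ← ih fun e => h (List.mem_cons_of_mem _ e)]
    simp [Pi.single_eq_of_ne (show k ≠ i from fun e => h (by simp [e]))]

theorem map_eq_iff_pow (ψ : F →+* F) {q : ℕ} (hψ : ∀ t, ψ t = t ^ q) (a : GL D.Idx F) :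
    (fieldGL D ψ).f a = a ↔ ∀ i j, (a : Matrix D.Idx D.Idx F) i j ^ q =
      (a : Matrix D.Idx D.Idx F) i j := by
  rw [Units.ext_iff, ← Matrix.ext_iff]
  exact forall₂_congr fun i j => (hψ _).congr_left

theorem exists_not_fixed [Fintype F] {q n : ℕ} (hq : IsPrimePow q) (hn : 1 < n)
    (hK : Fintype.card F = q ^ n) : ∃ t : F, t ^ q ≠ t := by
  by_contra h
  push Not at h
  have h1 := card_fixed hq.pos hK
  rw [Nat.card_congr (Equiv.subtypeUnivEquiv h), Nat.card_eq_fintype_card, hK] at h1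
  exact (Nat.pow_lt_pow_right hq.one_lt hn).ne' (h1.trans (pow_one q).symm)

theorem eq_univ_three (ψ : F →+* F) (h3 : ∀ t, ψ (ψ (ψ t)) = t) {B : Set F}
    (h1 : ∀ a ∈ B, ∀ b ∈ B, a + b ∈ B) (h2 : ∀ c, ψ c = c → ∀ a ∈ B, c * a ∈ B) (h0 : 1 ∈ B)
    {τ : F} (hτ : ψ τ ≠ τ) (h4 : τ ∈ B) (h5 : ψ τ * ψ (ψ τ) ∈ B) (t : F) : t ∈ B := by
  have n1 : τ - ψ τ ≠ 0 := sub_ne_zero.mpr hτ.symm
  have n2 : ψ τ - ψ (ψ τ) ≠ 0 := by simpa using (map_ne_zero ψ).mpr n1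
  have n3 : ψ (ψ τ) - τ ≠ 0 := by simpa [h3] using (map_ne_zero ψ).mpr n2
  have k3 := h3 τ
  have k4 := h3 t
  generalize hb : ψ τ = b at *
  generalize hc : ψ b = c at *
  generalize hu : ψ t = u at *
  generalize hv : ψ u = v at *
  have e : t = (t * (b * b - c * c) * τ + u * (c * c - τ * τ) * b + v * (τ * τ - b * b) * c) /
        ((τ - b) * (b - c) * (c - τ)) * 1 +
      ((t * τ * (c - b) + u * b * (τ - c) + v * c * (b - τ)) / ((τ - b) * (b - c) * (c - τ)) * τ +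
      (t * (c - b) + u * (τ - c) + v * (b - τ)) / ((τ - b) * (b - c) * (c - τ)) * (b * c)) := by
    field_simp; ring
  rw [e]
  refine h1 _ (h2 _ ?_ _ h0) _ (h1 _ (h2 _ ?_ _ h4) _ (h2 _ ?_ _ h5)) <;>
    simp only [map_div₀, map_add, map_mul, map_sub, hb, hc, hu, hv, k3, k4] <;> congr 1 <;> ring

end

attribute [local instance] good2D4

variable {K : Type*} [Field K] {q : ℕ}

namespace CD4
variable (C : CD4 K q)

/-- the twisting endomorphism and the field endomorphism -/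
noncomputable def sf : SF (glSys chevD4 K) symD4a where
  T := C.T
  ψ := C.ψ
  Ψ := (fieldGL chevD4 C.ψ).f
  Ψ_x := (fieldGL chevD4 C.ψ).f_x
  φ_ψ r t := by simp [C.hT]
  φ_fix _ := C.φ_fix

/-- orbit elements -/
noncomputable def oe (r : Rt chevD4) (t : K) : GL chevD4.Idx K :=
  (glSys chevD4 K).x r t * ((glSys chevD4 K).x (symD4a.p r) (C.T.φ r t) *
    (glSys chevD4 K).x (symD4a.p (symD4a.p r)) (C.T.φ (symD4a.p r) (C.T.φ r t)))

theorem orb_chk : ∀ r : Rt chevD4, symD4a.p r ≠ r → symD4a.p (symD4a.p (symD4a.p r)) = r ∧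
    (symD4a.p r ≠ r ∧ symD4a.p r ≠ ng r ∧ chevD4.commTerms r (symD4a.p r) = []) ∧
    (symD4a.p (symD4a.p r) ≠ r ∧ symD4a.p (symD4a.p r) ≠ ng r ∧
      chevD4.commTerms r (symD4a.p (symD4a.p r)) = []) ∧
    sgn (bit gED4a (symD4a.p (symD4a.p r))) 1 * (sgn (bit gED4a (symD4a.p r)) 1 *
      sgn (bit gED4a r) 1) = 1 := by decide +kernel

theorem hσ : ∀ r : Rt chevD4, co (symD4a.p r) (nD4 1) = co r (nD4 1) := by decide +kernel

theorem oe_mem {r : Rt chevD4} (hr : symD4a.p r ≠ r) (t : K) : C.oe r t ∈ C.T.Fx := by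
  obtain ⟨h1, h2, h3, h4⟩ := orb_chk r hr
  refine Tw.three_mem rfl rfl h1 ((glSys chevD4 K).commute_nil h2)
    ((glSys chevD4 K).commute_nil h3) ?_
  have := congrArg (Int.cast : ℤ → K) h4
  simp only [C.hT, map_mul, map_intCast, C.ψψ]
  push_cast at this
  linear_combination t * this

theorem oe_XS (r : Rt chevD4) (t : K) : C.oe r t ∈ (glSys chevD4 K).XS (Ob symD4a r) :=
  mul_mem (x_mem _ (by simp [Ob]) _) (mul_mem (x_mem _ (by simp [Ob]) _) (x_mem _ (by simp [Ob]) _))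

theorem oe_M {r : Rt chevD4} (hr : symD4a.p r ≠ r) {t : K} (ht : C.ψ t = t) : C.oe r t ∈ C.sf.M :=
  SF.mem_M.mpr ⟨C.oe_mem hr t, by
    have h1 : C.sf.ψ (C.T.φ r t) = C.T.φ r t := (SF.rat_φ (A := C.sf)).mpr ht
    have h2 := (SF.rat_φ (A := C.sf) (r := symD4a.p r)).mpr h1
    rw [oe, map_mul, map_mul, C.sf.Ψ_x, C.sf.Ψ_x, C.sf.Ψ_x, h1]
    exact congrArg₂ _ (congrArg _ ht) (congrArg _ (congrArg _ h2))⟩

theorem cq_oe {r : Rt chevD4} (hr : symD4a.p r ≠ r) (h1 : co r (nD4 1) = 1) (t : K) :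
    (glSys chevD4 K).cq r (C.oe r t) = t := by
  have m : ∀ {s : Rt chevD4} (t : K), co s (nD4 1) = 1 →
      (glSys chevD4 K).x s t ∈ (glSys chevD4 K).XS (Rk (nD4 1)) := fun t h =>
    x_mem _ (mem_Rk.mpr (by rw [h]; exact one_pos)) t
  have h2 := (hσ r).trans h1
  have h3 := (hσ _).trans h2
  rw [oe, cq_mul h1 (m _ h1) (mul_mem (m _ h2) (m _ h3)), cq_mul h1 (m _ h2) (m _ h3), cq_x, cq_x,
    cq_x, if_pos rfl, if_neg hr, if_neg (orb_chk r hr).2.2.1.1, add_zero, add_zero]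

theorem top : C.sf.Top (nD4 1) (rD4 23) where
  hσ := hσ
  hθ := by decide +kernel
  lev2 := by decide +kernel
  prθ := by decide +kernel
  oe r hr t ht := by
    by_cases e : symD4a.p r = r
    · exact ⟨_, SF.x_mem_M e ht, x_mem _ (by simp [Ob]) _,
        (cq_x _ r r t).trans (if_pos rfl)⟩
    · exact ⟨_, C.oe_M e ht, C.oe_XS r t, C.cq_oe e hr t⟩

/-- the folded generators -/
def blk (a : Fin 2) : List (Ix chevD4) := ![[nD4 0, nD4 2, nD4 3], [nD4 1]] a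

theorem blk_NW (l : List (Fin 2)) : wp sW (l.flatMap blk) ∈ C.sf.NW := by
  refine SF.wp_flat_mem (fun a => ?_) l
  fin_cases a
  · exact SF.three_NW (fun i => (C.φ_sim i 1).trans (map_one _)) (π_D4 0) (π_D4 2) (π_D4 3)
      so02_D4 so03_D4
  · exact SF.one_NW (π_D4 1)

theorem opp : C.sf.Opp (nD4 1) (rD4 23) where
  hk := π_D4 1
  hθ := by decide +kernel
  pos := by decide +kernel
  top := by decide +kernel
  lev := by decide +kernel
  lev2 := by decide +kernel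
  sl := by decide +kernel
  ct := ⟨1, by decide +kernel⟩
  ne := by decide +kernel
  w1 := ⟨_, C.blk_NW [0], by decide +kernel⟩

theorem b_M : (glSys chevD4 K).x (sim (nD4 0)) 1 * ((glSys chevD4 K).x (sim (nD4 2)) 1 *
    (glSys chevD4 K).x (sim (nD4 3)) 1) ∈ (glSys chevD4 K).U ⊓ C.sf.M := by
  have := (C.o0.1 _).mpr ⟨1, rfl⟩
  simp only [map_one] at this
  exact ⟨Xp_le_U _ this.2, SF.mem_M.mpr ⟨this.1, by simp only [map_mul, C.sf.Ψ_x, map_one]⟩⟩

theorem cen : C.sf.Cen (rD4 23) where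
  hθ := by decide +kernel
  inj := gl_inj
  reg := ⟨2, fun j => wp sW ((![[], [1]] j : List (Fin 2)).flatMap blk), ![2, 1],
    fun _ => C.blk_NW _, by decide +kernel⟩
  n0 := ⟨_, C.blk_NW [0, 1, 0, 1, 0, 1], by decide +kernel⟩
  hx i := by
    have h2 := C.b_M
    fin_cases i
    · exact ⟨_, h2, notMem_Ui_left (i := nD4 0) one_ne_zero
        (mul_mem (sim_mem_Ui (by decide) 1) (sim_mem_Ui (by decide) 1))⟩
    · exact ⟨_, ⟨x_mem _ (pos_sim _) _, SF.x_mem_M (r := sim (nD4 1)) (by decide +kernel)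
        (map_one _)⟩, fun h => one_ne_zero (eq_zero_of_mem_Ui h)⟩
    · exact ⟨_, h2, mul_assoc (G := GL chevD4.Idx K) _ _ _ ▸ notMem_Ui (i := nD4 2) one_ne_zero
        (sim_mem_Ui (by decide) 1) (sim_mem_Ui (by decide) 1)⟩
    · exact ⟨_, h2, mul_assoc (G := GL chevD4.Idx K) _ _ _ ▸ notMem_Ui_right (i := nD4 3)
        one_ne_zero (mul_mem (sim_mem_Ui (by decide) 1) (sim_mem_Ui (by decide) 1))⟩

omit C in
theorem cq_cj {y : GL chevD4.Idx K} (hy : y ∈ (glSys chevD4 K).XS (Rk (nD4 1))) (a b c : K)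
    {z : GL chevD4.Idx K} (hz : z = (glSys chevD4 K).x (rD4 18) a * ((glSys chevD4 K).x (rD4 13) b *
      (glSys chevD4 K).x (rD4 12) c)) :
    z⁻¹ * y * z ∈ (glSys chevD4 K).XS (Rk (nD4 1)) ∧
    (glSys chevD4 K).cq (rD4 19) (z⁻¹ * y * z) =
      (glSys chevD4 K).cq (rD4 19) y + a * (glSys chevD4 K).cq (rD4 14) y ∧
    (glSys chevD4 K).cq (rD4 17) (z⁻¹ * y * z) = (glSys chevD4 K).cq (rD4 17) y -
      b * (glSys chevD4 K).cq (rD4 15) y - c * (glSys chevD4 K).cq (rD4 16) y +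
      b * c * (glSys chevD4 K).cq (rD4 14) y := by
  set S := glSys chevD4 K
  have h1 := cj_mem (γ := rD4 18) (by decide +kernel) a hy
  have h2 := cj_mem (γ := rD4 13) (by decide +kernel) b h1
  have h3 := cj_mem (γ := rD4 12) (by decide +kernel) c h2
  have e : z⁻¹ * y * z = (S.x (rD4 12) c)⁻¹ * ((S.x (rD4 13) b)⁻¹ * ((S.x (rD4 18) a)⁻¹ * y *
    S.x (rD4 18) a) * S.x (rD4 13) b) * S.x (rD4 12) c := by rw [hz]; group
  rw [e]
  refine ⟨h3, ?_, ?_⟩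
  · rw [cq_cj0 (by decide +kernel) (by decide +kernel) c (by decide +kernel) h2,
      cq_cj0 (by decide +kernel) (by decide +kernel) b (by decide +kernel) h1,
      cq_cj1 (r0 := rD4 14) (C := -1) (by decide +kernel) (by decide +kernel) a
        (by decide +kernel) (by decide +kernel) hy]
    push_cast; ring
  · rw [cq_cj1 (r0 := rD4 16) (C := 1) (by decide +kernel) (by decide +kernel) c
        (by decide +kernel) (by decide +kernel) h2,
      cq_cj1 (m := rD4 17) (r0 := rD4 15) (C := 1) (by decide +kernel) (by decide +kernel) b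
        (by decide +kernel) (by decide +kernel) h1,
      cq_cj1 (m := rD4 16) (r0 := rD4 14) (C := 1) (by decide +kernel) (by decide +kernel) b
        (by decide +kernel) (by decide +kernel) h1,
      cq_cj0 (m := rD4 17) (by decide +kernel) (by decide +kernel) a (by decide +kernel) hy,
      cq_cj0 (m := rD4 16) (by decide +kernel) (by decide +kernel) a (by decide +kernel) hy,
      cq_cj0 (m := rD4 15) (by decide +kernel) (by decide +kernel) a (by decide +kernel) hy,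
      cq_cj0 (m := rD4 14) (by decide +kernel) (by decide +kernel) a (by decide +kernel) hy]
    push_cast; ring

variable {H : Subgroup (GL chevD4.Idx K)} (hM : C.sf.M ≤ H) (hH : H ≤ C.T.Fx)
include hM hH

omit hM in
theorem mem_Am {z : GL chevD4.Idx K} (hz : z ∈ H) (hQ : z ∈ (glSys chevD4 K).XS (Rk (nD4 1)))
    (h : C.ψ ((glSys chevD4 K).cq (rD4 19) z) = (glSys chevD4 K).cq (rD4 19) z) :
    (glSys chevD4 K).cq (rD4 17) z ∈ C.sf.Am H (nD4 1) (rD4 17) := by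
  refine ⟨z, hz, hQ, rfl, fun s hs hn => ?_⟩
  have : symD4a.p s = s ∨ s ∈ Ob symD4a (rD4 19) := by revert s; decide +kernel
  rcases this with e | e
  · exact C.top.rat_fix (hH hz) hQ hs e
  · exact (C.top.rat_Ob (hH hz) hQ (by decide +kernel) e).mpr h

theorem Am_quad {τ : K} (h : τ ∈ C.sf.Am H (nD4 1) (rD4 17)) :
    C.ψ τ * C.ψ (C.ψ τ) ∈ C.sf.Am H (nD4 1) (rD4 17) := by
  set S := glSys chevD4 K
  have l17 : co (rD4 17) (nD4 1) = 1 := by decide +kernel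
  have l19 : co (rD4 19) (nD4 1) = 1 := by decide +kernel
  have n17 : symD4a.p (rD4 17) ≠ rD4 17 := by decide +kernel
  have h1 := C.top.mem_of_Am hM l17 hH (C.oe_mem n17 τ) (C.oe_XS _ τ) (by rwa [C.cq_oe n17 l17])
  obtain ⟨n, a1, -, a2⟩ := C.blk_NW [1, 0]
  obtain ⟨c1, -, b2, b3⟩ := SF.exists_conj_rat a1 a2 (rD4 17)
  obtain ⟨c2, d1, d2, d3⟩ := SF.exists_conj_rat a1 a2 (symD4a.p (rD4 17))
  obtain ⟨c3, e1, e2, e3⟩ := SF.exists_conj_rat a1 a2 (symD4a.p (symD4a.p (rD4 17)))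
  have h2 := mul_mem (mul_mem (hM a1) h1) (inv_mem (hM a1))
  have h3 : S.x (rD4 14) 1 ∈ C.sf.M := SF.x_mem_M (by decide +kernel) (map_one _)
  obtain ⟨k1, k2, k3⟩ := cq_cj (S.x_mem (T := Rk (nD4 1)) (r := rD4 14)
    (mem_Rk.mpr (by decide +kernel)) 1) (c1 * τ) (c2 * C.T.φ (rD4 17) τ)
    (c3 * C.T.φ (symD4a.p (rD4 17)) (C.T.φ (rD4 17) τ)) (z := n * C.oe (rD4 17) τ * n⁻¹) (by
      rw [← show wp sW (List.flatMap blk [1, 0]) • rD4 17 = rD4 18 by decide +kernel,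
        ← show wp sW (List.flatMap blk [1, 0]) • symD4a.p (rD4 17) = rD4 13 by decide +kernel,
        ← show wp sW (List.flatMap blk [1, 0]) • symD4a.p (symD4a.p (rD4 17)) = rD4 12 by
          decide +kernel, ← b3, ← d3, ← e3, oe]
      group)
  have k0 := mul_mem (mul_mem (inv_mem h2) (hM h3)) h2
  simp only [S, cq_x, show rD4 14 ≠ rD4 19 by decide, show rD4 14 ≠ rD4 17 by decide,
    show rD4 14 ≠ rD4 15 by decide, show rD4 14 ≠ rD4 16 by decide, if_false, if_true] at k2 k3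
  have h4 := C.top.Am_smul_W hM l17 (C.blk_NW [0]) (co_wp (by decide)) h
  rw [show wp sW (List.flatMap blk [0]) • rD4 17 = rD4 19 by decide +kernel] at h4
  obtain ⟨z, z1, z2, z3, z4⟩ := C.top.Am_smul hM l19 b2 h4
  have h5 := C.mem_Am hH (mul_mem (inv_mem z1) k0) (mul_mem (inv_mem z2) k1) (by
    rw [cq_mul l19 (inv_mem z2) k1, cq_inv l19 z2, z3, k2]; simp)
  have h6 := SF.Am_add l17 h5 (C.top.Am_rat hM l17 (z4 _ l17 (by decide +kernel)))
  rw [cq_mul l17 (inv_mem z2) k1, cq_inv l17 z2, k3] at h6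
  refine C.top.Am_smul_iff hM l17 (mul_ne_zero d1 e1) (by rw [map_mul, d2, e2]) ?_
  convert h6 using 1
  rw [C.hT, C.hT, show sgn (bit gED4a (rD4 17)) 1 = -1 by decide +kernel,
    show sgn (bit gED4a (symD4a.p (rD4 17))) 1 = 1 by decide +kernel]
  simp only [map_mul, map_intCast]
  push_cast; ring

theorem exists_Am {y : GL chevD4.Idx K} (hy : y ∈ H) (hQ : y ∈ (glSys chevD4 K).XS (Rk (nD4 1)))
    (hn : y ∉ C.sf.M) : ∃ τ ∈ C.sf.Am H (nD4 1) (rD4 17), C.ψ τ ≠ τ := by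
  have l17 : co (rD4 17) (nD4 1) = 1 := by decide +kernel
  have l19 : co (rD4 19) (nD4 1) = 1 := by decide +kernel
  obtain ⟨m, m1, m2, m3⟩ := C.top.exists_nonrat (hH hy) hQ hn
  have : ∃ l ∈ [[], [(0 : Fin 2)]], nD4 1 ∉ l.flatMap blk ∧
    wp sW (l.flatMap blk) • m ∈ Ob symD4a (rD4 19) := by clear m3; revert m; decide +kernel
  obtain ⟨l, -, l1, l2⟩ := this
  obtain ⟨z, z1, z2, z3⟩ := C.top.nonrat_smul hM m1 hH (C.blk_NW l) (co_wp l1) l19 l2 hy hQ m3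
  obtain ⟨k1, k2, k3⟩ := cq_cj z2 1 1 1 rfl
  have hb := hM C.b_M.2
  have r14 := C.top.rat_fix (hH z1) z2 (m := rD4 14) (by decide +kernel) (by decide +kernel)
  change C.ψ _ = _ at r14
  refine ⟨_, C.mem_Am hH (mul_mem (mul_mem (mul_mem (inv_mem hb) z1) hb) (inv_mem z1))
    (mul_mem k1 (inv_mem z2)) ?_, ?_⟩
  · refine (cq_mul l19 k1 (inv_mem z2)).symm ▸ ?_
    rw [cq_inv l19 z2, k2]
    simpa using r14
  · refine (cq_mul l17 k1 (inv_mem z2)).symm ▸ ?_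
    have h1 := C.top.cq_p (hH z1) z2 l19
    have h2 := C.top.cq_p (hH z1) z2 (m := rD4 16) (by decide +kernel)
    rw [show symD4a.p (rD4 19) = rD4 16 by decide +kernel] at h1
    rw [show symD4a.p (rD4 16) = rD4 15 by decide +kernel] at h2
    rw [cq_inv l17 z2, k3, h2, h1]
    change C.ψ _ ≠ _ at z3
    intro e
    apply z3
    simp only [sf, C.hT, show sgn (bit gED4a (rD4 19)) 1 = -1 by decide +kernel,
      show sgn (bit gED4a (rD4 16)) 1 = 1 by decide +kernel, map_add, map_sub, map_mul, map_neg,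
      map_one, map_intCast, C.ψψ, r14] at e
    push_cast at e
    linear_combination -e

theorem M_or_all : H = C.sf.M ∨ twistedD4 K q ≤ H := by
  by_cases hQ : ∀ y ∈ H, y ∈ (glSys chevD4 K).XS (Rk (nD4 1)) → y ∈ C.sf.M
  · exact Or.inl (C.opp.eq_M hM hQ C.cen hH)
  right
  push Not at hQ
  obtain ⟨y, hy, hQ, hn⟩ := hQ
  obtain ⟨τ, h1, h2⟩ := C.exists_Am hM hH hy hQ hn
  have l17 : co (rD4 17) (nD4 1) = 1 := by decide +kernel
  have h3 := eq_univ_three C.ψ C.ψψ (fun _ a _ b => SF.Am_add l17 a b)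
    (fun _ hc _ a => C.top.Am_smul hM l17 hc a) (C.top.Am_rat hM l17 (map_one _)) h2 h1
    (C.Am_quad hM hH h1)
  have h4 := SF.full_conj hM (C.blk_NW [1, 0]) (m := rD4 17)
    fun y hy => C.top.mem_of_Am hM l17 hH hy.1 hy.2 (h3 _)
  have h : IsTw C.T orbD4 H := ⟨hH, fun a y hy => ?_, fun a => ?_⟩
  · exact C.gen.trans (iSup_le fun a => sup_le (h.pos a) (h.neg a))
  · fin_cases a
    · refine h4 ⟨hy.1, XS_mono _ (fun r hr => ?_) hy.2⟩
      have := (J0_D4 r).mpr hr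
      clear hr; revert r; decide +kernel
    · obtain ⟨t, ht, rfl⟩ := (C.o1.1 y).mp hy
      exact hM (SF.x_mem_M (by decide +kernel) ht)
  · fin_cases a
    · exact ⟨_, hM (SF.mem_M.mpr ⟨(C.o0.2.1 1).1, by simp only [map_mul, C.sf.Ψ_x, map_one]⟩),
        (C.o0.2.1 1).2,
        ne_one_neg one_ne_zero (mul_mem (ng_mem_neg (by decide) _) (ng_mem_neg (by decide) _))⟩
    · exact ⟨_, hM (SF.x_mem_M (by decide +kernel) (map_one _)), (C.o1.2.1 1 (map_one _)).2,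
        by simpa using ne_one_neg (S := glSys chevD4 K) one_ne_zero (Subgroup.one_mem _)⟩

omit hM hH in
theorem M_ne {t : K} (ht : C.ψ t ≠ t) : C.sf.M ≠ C.T.Fx := fun e => by
  have := (SF.mem_M.mp (e.ge ((C.o0.1 _).mpr ⟨t, rfl⟩).1)).2
  rw [map_mul, map_mul, C.sf.Ψ_x, C.sf.Ψ_x, C.sf.Ψ_x] at this
  exact ht (eq_of_Ui (mul_mem (sim_mem_Ui (by decide) _) (sim_mem_Ui (by decide) _))
    (mul_mem (sim_mem_Ui (by decide) _) (sim_mem_Ui (by decide) _)) this)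

end CD4

theorem max_D4 [Fintype K] (hq : IsPrimePow q) (hK : Fintype.card K = q ^ 3)
    (M : Subgroup (GL chevD4.Idx K)) (hM : ∀ g : GL chevD4.Idx K, g ∈ M ↔ g ∈ twistedD4 K q ∧
      ∀ i j, (g : Matrix chevD4.Idx chevD4.Idx K) i j ^ q = (g : Matrix chevD4.Idx chevD4.Idx K) i j) :
    M ≠ twistedD4 K q ∧ ∀ H : Subgroup (GL chevD4.Idx K), M ≤ H → H ≤ twistedD4 K q →
      H = M ∨ H = twistedD4 K q := by
  obtain ⟨C⟩ := exists_CD4 hq hK
  obtain rfl : M = C.sf.M := Subgroup.ext fun g => by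
    rw [hM, C.eq_Fx, SF.mem_M, ← map_eq_iff_pow C.ψ C.hψ]; rfl
  obtain ⟨t, ht⟩ := exists_not_fixed hq (by norm_num) hK
  exact ⟨C.eq_Fx ▸ C.M_ne (C.hψ t ▸ ht), fun H h1 h2 =>
    (C.M_or_all h1 (C.eq_Fx ▸ h2)).imp id (le_antisymm h2)⟩

end Cfsg.Agent.Chev
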