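import Mathlib
import Cfsg.Agent.Chev.MxD4
import Cfsg.Agent.Chev.TwE6

/-! The subfield points of ²E₆(q) form a maximal subgroup. -/

set_option autoImplicit false
set_option linter.unusedSectionVars false
set_option maxHeartbeats 400000
set_option maxRecDepth 100000

namespace Cfsg.Agent.Chev
open Cfsg.Lie Cfsg.Agent.BN StSys

theorem eq_univ_two {F : Type*} [Field F] (ψ : F →+* F) (h3 : ∀ t, ψ (ψ t) = t) {B : Set F}
    (h1 : ∀ a ∈ B, ∀ b ∈ B, a + b ∈ B) (h2 : ∀ c, ψ c = c → ∀ a ∈ B, c * a ∈ B) (h0 : 1 ∈ B)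
    {τ : F} (hτ : ψ τ ≠ τ) (h4 : τ ∈ B) (t : F) : t ∈ B := by
  have n1 : τ - ψ τ ≠ 0 := sub_ne_zero.mpr hτ.symm
  have n2 : ψ τ - τ ≠ 0 := sub_ne_zero.mpr hτ
  have e : t = (τ * ψ t - ψ τ * t) / (τ - ψ τ) * 1 + (t - ψ t) / (τ - ψ τ) * τ := by
    field_simp; ring
  rw [e]
  refine h1 _ (h2 _ ?_ _ h0) _ (h2 _ ?_ _ h4) <;>
    simp only [map_div₀, map_mul, map_sub, h3] <;> field_simp <;> ring

attribute [local instance] good2E6

/-- the roots -/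
abbrev rtE6 (n : Fin 72) : Rt chevE6 := n

variable {K : Type*} [Field K] {q : ℕ}

namespace CE6
variable (C : CE6 K q)

/-- the twisting endomorphism and the field endomorphism -/
noncomputable def sf : SF (glSys chevE6 K) symE6 where
  T := C.T
  ψ := C.ψ
  Ψ := (fieldGL chevE6 C.ψ).f
  Ψ_x := (fieldGL chevE6 C.ψ).f_x
  φ_ψ r t := by simp [C.hT]
  φ_fix _ := C.φ_fix

theorem orb_chk : ∀ r : Rt chevE6, co r (nE6 1) = 1 → symE6.p r ≠ r → symE6.p (symE6.p r) = r ∧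
    (symE6.p r ≠ r ∧ symE6.p r ≠ ng r ∧ chevE6.commTerms r (symE6.p r) = []) ∧
    sgn (bit gEE6 (symE6.p r)) 1 * sgn (bit gEE6 r) 1 = 1 := by decide +kernel

theorem hσ : ∀ r : Rt chevE6, co (symE6.p r) (nE6 1) = co r (nE6 1) := by decide +kernel

theorem top : C.sf.Top (nE6 1) (rtE6 71) where
  hσ := hσ
  hθ := by decide +kernel
  lev2 := by decide +kernel
  prθ := by decide +kernel
  oe r hr t ht := by
    by_cases e : symE6.p r = r
    · exact ⟨_, SF.x_mem_M e ht, x_mem _ (by simp [Ob]) _, (cq_x _ r r t).trans (if_pos rfl)⟩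
    obtain ⟨h1, h2, h3⟩ := orb_chk r hr e
    have m : ∀ {s : Rt chevE6} (t : K), co s (nE6 1) = 1 →
        (glSys chevE6 K).x s t ∈ (glSys chevE6 K).XS (Rk (nE6 1)) := fun t h =>
      x_mem _ (mem_Rk.mpr (by rw [h]; exact one_pos)) t
    refine ⟨(glSys chevE6 K).x r t * (glSys chevE6 K).x (symE6.p r) (C.T.φ r t),
      SF.mem_M.mpr ⟨Tw.two_mem rfl h1 ((glSys chevE6 K).commute_nil h2) ?_, ?_⟩,
      mul_mem (x_mem _ (by simp [Ob]) _) (x_mem _ (by simp [Ob]) _), ?_⟩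
    · have := congrArg (Int.cast : ℤ → K) h3
      simp only [sf, C.hT, map_mul, map_intCast, C.ψψ]
      push_cast at this
      linear_combination t * this
    · have h1 : C.sf.ψ (C.T.φ r t) = C.T.φ r t := (SF.rat_φ (A := C.sf)).mpr ht
      rw [map_mul, C.sf.Ψ_x, C.sf.Ψ_x, h1, ht]
    · rw [cq_mul hr (m _ hr) (m _ ((hσ r).trans hr)), cq_x, cq_x, if_pos rfl, if_neg e, add_zero]

/-- the folded generators -/
def blk (a : Fin 4) : List (Ix chevE6) := ![[nE6 1], [nE6 3], [nE6 2, nE6 4], [nE6 0, nE6 5]] a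

theorem blk_NW (l : List (Fin 4)) : wp sW (l.flatMap blk) ∈ C.sf.NW := by
  refine SF.wp_flat_mem (fun a => ?_) l
  fin_cases a
  · exact SF.one_NW (π_E6 1)
  · exact SF.one_NW (π_E6 3)
  · exact SF.two_NW (fun i => (C.φ_sim i 1).trans (map_one _)) (π_E6 2) (π_E6 4) so2_E6
  · exact SF.two_NW (fun i => (C.φ_sim i 1).trans (map_one _)) (π_E6 0) (π_E6 5) so3_E6

theorem opp : C.sf.Opp (nE6 1) (rtE6 71) where
  hk := π_E6 1
  hθ := by decide +kernel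
  pos := by decide +kernel
  top := by decide +kernel
  lev := by decide +kernel
  lev2 := by decide +kernel
  sl := by decide +kernel
  ct := ⟨1, by decide +kernel⟩
  ne := by decide +kernel
  w1 := ⟨_, C.blk_NW [1, 2, 1, 3, 2, 1], by decide +kernel⟩

theorem two_M {r s : Rt chevE6} (h : (glSys chevE6 K).x r 1 * (glSys chevE6 K).x s (C.ψ 1) ∈
    C.T.Fx) : (glSys chevE6 K).x r 1 * (glSys chevE6 K).x s (C.ψ 1) ∈ C.sf.M :=
  SF.mem_M.mpr ⟨h, by simp only [map_mul, C.sf.Ψ_x, map_one]⟩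

theorem cen : C.sf.Cen (rtE6 71) where
  hθ := by decide +kernel
  inj := gl_inj
  reg := ⟨4, fun j => wp sW ((![[], [0], [1, 0], [2, 1, 0]] j : List (Fin 4)).flatMap blk),
    ![3, 2, 2, 1], fun _ => C.blk_NW _, by decide +kernel⟩
  n0 := ⟨_, C.blk_NW [0, 1, 0, 2, 1, 0, 2, 1, 2, 3, 2, 1, 0, 2, 1, 2, 3, 2, 1, 0, 2, 1, 2, 3],
    by decide +kernel⟩
  hx i := by
    have h2 : ∀ i, symE6.π i = i → ∃ u ∈ (glSys chevE6 K).U ⊓ C.sf.M,
        u ∉ (glSys chevE6 K).Ui i := fun i hi => ⟨_, ⟨x_mem _ (pos_sim i) 1,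
      SF.x_mem_M (by rw [symE6.p_sim, hi]) (map_one _)⟩, fun h =>
        one_ne_zero (eq_zero_of_mem_Ui h)⟩
    have h3 : ∀ i j, j ≠ i → (glSys chevE6 K).x (sim i) 1 * (glSys chevE6 K).x (sim j) (C.ψ 1) ∉
        (glSys chevE6 K).Ui i := fun i j h => by
      simpa using notMem_Ui one_ne_zero (Subgroup.one_mem _) (sim_mem_Ui (S := glSys chevE6 K) h 1)
    have h4 : ∀ i j, i ≠ j → (glSys chevE6 K).x (sim i) 1 * (glSys chevE6 K).x (sim j) (C.ψ 1) ∉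
        (glSys chevE6 K).Ui j := fun i j h => by
      simpa using notMem_Ui one_ne_zero (sim_mem_Ui (S := glSys chevE6 K) h 1) (Subgroup.one_mem _)
    have h5 := (C.o2.1 _).mpr ⟨1, rfl⟩
    have h6 := (C.o3.1 _).mpr ⟨1, rfl⟩
    fin_cases i
    · exact ⟨_, ⟨Xp_le_U _ h6.2, C.two_M h6.1⟩, h3 _ _ (by decide)⟩
    · exact h2 _ (π_E6 1)
    · exact ⟨_, ⟨Xp_le_U _ h5.2, C.two_M h5.1⟩, h3 _ _ (by decide)⟩
    · exact h2 _ (π_E6 3)
    · exact ⟨_, ⟨Xp_le_U _ h5.2, C.two_M h5.1⟩, h4 _ _ (by decide)⟩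
    · exact ⟨_, ⟨Xp_le_U _ h6.2, C.two_M h6.1⟩, h4 _ _ (by decide)⟩

theorem lev_chk : ∀ m : Rt chevE6, co m (nE6 1) = 1 → symE6.p m ≠ m →
    ∃ l ∈ [[], [(3 : Fin 4)], [3, 2], [3, 2, 1], [3, 2, 1, 2], [3, 2, 1, 2, 3]],
      nE6 1 ∉ l.flatMap blk ∧ wp sW (l.flatMap blk) • m ∈ Ob symE6 (rtE6 48) := by
  decide +kernel

theorem ct_chk : ∀ r : Rt chevE6, 0 < co r (nE6 1) → ∀ e ∈ chevE6.commTerms (rtE6 60) r,
    (e.1 = 66 ∧ r = rtE6 48) ∨ e.1 ∈ [68, 63, 65, 69, 70] := by decide +kernel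

theorem out_chk : ∀ s : Rt chevE6, s ∉ Ob symE6 (rtE6 66) → symE6.p s ≠ s →
    (s : ℕ) ∉ [66, 68, 63, 65, 69, 70] := by decide +kernel

variable {H : Subgroup (GL chevE6.Idx K)} (hM : C.sf.M ≤ H) (hH : H ≤ C.T.Fx)
include hM hH

theorem exists_Am {y : GL chevE6.Idx K} (hy : y ∈ H) (hQ : y ∈ (glSys chevE6 K).XS (Rk (nE6 1)))
    (hn : y ∉ C.sf.M) : ∃ τ ∈ C.sf.Am H (nE6 1) (rtE6 66), C.ψ τ ≠ τ := by
  have l66 : co (rtE6 66) (nE6 1) = 1 := by decide +kernel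
  have l48 : co (rtE6 48) (nE6 1) = 1 := by decide +kernel
  have l60 : co (rtE6 60) (nE6 1) = 0 := by decide +kernel
  obtain ⟨m, m1, m2, m3⟩ := C.top.exists_nonrat (hH hy) hQ hn
  obtain ⟨l, -, l1, l2⟩ := lev_chk m m1 m2
  obtain ⟨z, z1, z2, z3⟩ := C.top.nonrat_smul hM m1 hH (C.blk_NW l) (co_wp l1) l48 l2 hy hQ m3
  have hb := hM (SF.x_mem_M (A := C.sf) (r := rtE6 60) (by decide +kernel) (map_one _))
  have k1 := cj_mem l60 1 z2
  have k0 := mul_mem (mul_mem (mul_mem (inv_mem hb) z1) hb) (inv_mem z1)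
  refine ⟨_, ⟨_, k0, mul_mem k1 (inv_mem z2), rfl, fun s hs hn => ?_⟩, ?_⟩
  · by_cases e : symE6.p s = s
    · exact C.top.rat_fix (hH k0) (mul_mem k1 (inv_mem z2)) hs e
    rw [cq_mul hs k1 (inv_mem z2), cq_inv hs z2, cq_cj0 hs l60 1 (fun r hr e' he e2 =>
      out_chk s hn e (by
        rcases ct_chk r hr e' he with h | h
        · rw [← e2, h.1]; simp
        · rw [← e2]; exact List.mem_cons_of_mem _ h)) z2, add_neg_cancel, map_zero]
  · rw [cq_mul l66 k1 (inv_mem z2), cq_inv l66 z2, cq_cj1 (r0 := rtE6 48) (C := -1) l66 l60 1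
      (by decide +kernel) (fun r hr hn e' he e2 => by
        rcases ct_chk r hr e' he with h | h
        · exact hn h.2
        · rw [e2] at h; revert h; decide) z2]
    have e : ∀ a b : K, a - ((-1 : ℤ) : K) * 1 * b + -a = b := fun a b => by push_cast; ring
    rw [e]; exact z3

theorem M_or_all : H = C.sf.M ∨ twistedE6 K q ≤ H := by
  by_cases hQ : ∀ y ∈ H, y ∈ (glSys chevE6 K).XS (Rk (nE6 1)) → y ∈ C.sf.M
  · exact Or.inl (C.opp.eq_M hM hQ C.cen hH)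
  right
  push Not at hQ
  obtain ⟨y, hy, hQ, hn⟩ := hQ
  obtain ⟨τ, h1, h2⟩ := C.exists_Am hM hH hy hQ hn
  have l66 : co (rtE6 66) (nE6 1) = 1 := by decide +kernel
  have h3 := eq_univ_two C.ψ C.ψψ (fun _ a _ b => SF.Am_add l66 a b)
    (fun _ hc _ a => C.top.Am_smul hM l66 hc a) (C.top.Am_rat hM l66 (map_one _)) h2 h1
  have h4 := fun l => SF.full_conj hM (C.blk_NW l) (m := rtE6 66)
    fun y hy => C.top.mem_of_Am hM l66 hH hy.1 hy.2 (h3 _)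
  have h : IsTw C.T orbE6 H := ⟨hH, fun a y hy => ?_, fun a => ?_⟩
  · exact C.gen.trans (iSup_le fun a => sup_le (h.pos a) (h.neg a))
  · fin_cases a
    · obtain ⟨t, ht, rfl⟩ := (C.o0.1 y).mp hy
      exact hM (SF.x_mem_M (by decide +kernel) ht)
    · obtain ⟨t, ht, rfl⟩ := (C.o1.1 y).mp hy
      exact hM (SF.x_mem_M (by decide +kernel) ht)
    · refine h4 [1, 0, 2, 3, 2, 1, 2, 3] ⟨hy.1, XS_mono _ (fun r hr => ?_) hy.2⟩
      have := (J2_E6 r).mpr hr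
      rw [show wp sW (List.flatMap blk [1, 0, 2, 3, 2, 1, 2, 3]) • rtE6 66 = rtE6 42 by
        decide +kernel]
      clear hr; revert r; decide +kernel
    · refine h4 [2, 1, 0, 2, 1, 2, 3, 2] ⟨hy.1, XS_mono _ (fun r hr => ?_) hy.2⟩
      have := (J3_E6 r).mpr hr
      rw [show wp sW (List.flatMap blk [2, 1, 0, 2, 1, 2, 3, 2]) • rtE6 66 = rtE6 56 by
        decide +kernel]
      clear hr; revert r; decide +kernel
  · fin_cases a
    · exact ⟨_, hM (SF.x_mem_M (by decide +kernel) (map_one _)), (C.o0.2.1 1 (map_one _)).2,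
        by simpa using ne_one_neg (S := glSys chevE6 K) one_ne_zero (Subgroup.one_mem _)⟩
    · exact ⟨_, hM (SF.x_mem_M (by decide +kernel) (map_one _)), (C.o1.2.1 1 (map_one _)).2,
        by simpa using ne_one_neg (S := glSys chevE6 K) one_ne_zero (Subgroup.one_mem _)⟩
    · exact ⟨_, hM (C.two_M (C.o2.2.1 1).1), (C.o2.2.1 1).2,
        ne_one_neg one_ne_zero (ng_mem_neg (by decide) _)⟩
    · exact ⟨_, hM (C.two_M (C.o3.2.1 1).1), (C.o3.2.1 1).2,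
        ne_one_neg one_ne_zero (ng_mem_neg (by decide) _)⟩

omit hM hH in
theorem M_ne {t : K} (ht : C.ψ t ≠ t) : C.sf.M ≠ C.T.Fx := fun e => by
  have := (SF.mem_M.mp (e.ge ((C.o2.1 _).mpr ⟨t, rfl⟩).1)).2
  rw [map_mul, C.sf.Ψ_x, C.sf.Ψ_x] at this
  exact ht (eq_of_Ui (sim_mem_Ui (by decide) _) (sim_mem_Ui (by decide) _) this)

end CE6

theorem max_E6 [Fintype K] (hq : IsPrimePow q) (hK : Fintype.card K = q ^ 2)
    (M : Subgroup (GL chevE6.Idx K)) (hM : ∀ g : GL chevE6.Idx K, g ∈ M ↔ g ∈ twistedE6 K q ∧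
      ∀ i j, (g : Matrix chevE6.Idx chevE6.Idx K) i j ^ q = (g : Matrix chevE6.Idx chevE6.Idx K) i j) :
    M ≠ twistedE6 K q ∧ ∀ H : Subgroup (GL chevE6.Idx K), M ≤ H → H ≤ twistedE6 K q →
      H = M ∨ H = twistedE6 K q := by
  obtain ⟨C⟩ := exists_CE6 hq hK
  obtain rfl : M = C.sf.M := Subgroup.ext fun g => by
    rw [hM, C.eq_Fx, SF.mem_M, ← map_eq_iff_pow C.ψ C.hψ]; rfl
  obtain ⟨t, ht⟩ := exists_not_fixed hq (by norm_num) hK
  exact ⟨C.eq_Fx ▸ C.M_ne (C.hψ t ▸ ht), fun H h1 h2 =>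
    (C.M_or_all h1 (C.eq_Fx ▸ h2)).imp id (le_antisymm h2)⟩

end Cfsg.Agent.Chev
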