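import Mathlib
import Cfsg.Agent.Chev.Mx3
import Cfsg.Agent.Chev.SL2
import Cfsg.Agent.Chev.Sub
import Cfsg.Agent.Classical.DicksonSL

/-! Pairs of opposite root elements in a finite subgroup. -/

set_option autoImplicit false
set_option linter.unusedSectionVars false
set_option maxHeartbeats 400000

namespace Cfsg.Agent.Chev
open Cfsg.Lie Cfsg.Agent.BN StSys
open scoped MatrixGroups

variable {D : ChevalleyDatum} [g : Good2 D] {F : Type*} [Field F] {G : Type*} [Group G]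

theorem dihedral_cases {a b : G} (ha : a * a = 1) (hb : b * b = 1) (h : IsOfFinOrder (a * b)) :
    (∃ k : ℕ, (a * b) ^ k * a * ((a * b) ^ k)⁻¹ = b) ∨
      ∃ k : ℕ, (a * b) ^ k ≠ 1 ∧ Commute ((a * b) ^ k) a ∧ Commute ((a * b) ^ k) b := by
  have ia : a⁻¹ = a := inv_eq_of_mul_eq_one_right ha
  have ib : b⁻¹ = b := inv_eq_of_mul_eq_one_right hb
  have key : ∀ k : ℕ, a * ((a * b) ^ k)⁻¹ = (a * b) ^ k * a := fun k => by
    have : a * (a * b)⁻¹ * a⁻¹ = a * b := by rw [mul_inv_rev, ia, ib]; simp [mul_assoc, ha]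
    rw [← inv_pow, ← mul_inv_eq_iff_eq_mul, ← conj_pow, this]
  have h0 := h.orderOf_pos
  have h1 := pow_orderOf_eq_one (a * b)
  obtain ⟨k, e | e⟩ := Nat.even_or_odd' (orderOf (a * b))
  · right
    have h2 : ((a * b) ^ k)⁻¹ = (a * b) ^ k := by
      rw [inv_eq_iff_mul_eq_one, ← pow_add, ← two_mul, ← e, h1]
    have h3 : Commute ((a * b) ^ k) a := by rw [Commute, SemiconjBy, ← key, h2]
    refine ⟨k, pow_ne_one_of_lt_orderOf (by omega) (by omega), h3, ?_⟩
    have := h3.mul_right ((Commute.refl (a * b)).pow_left k)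
    rwa [← mul_assoc, ha, one_mul] at this
  · left
    refine ⟨k, ?_⟩
    rw [mul_assoc, key, ← mul_assoc, ← pow_add, ← two_mul]
    rw [e, pow_succ] at h1
    rw [eq_inv_of_mul_eq_one_left h1, mul_inv_rev, ia, ib, mul_assoc, ha, mul_one]

theorem finite_frob (p : ℕ) [Fact p.Prime] [CharP F p] {m : ℕ} (hm : 0 < m) :
    Finite ((iterateFrobenius F p m).eqLocusField (RingHom.id F)) := by
  have h : (Polynomial.X ^ p ^ m - Polynomial.X : Polynomial F) ≠ 0 :=
    FiniteField.X_pow_card_pow_sub_X_ne_zero F hm.ne' (Fact.out : p.Prime).one_lt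
  refine Set.Finite.subset (Polynomial.finite_setOf_isRoot h) fun x hx => ?_
  have : x ^ p ^ m = x := hx
  simp [this]

theorem exists_frob_fix (p : ℕ) [Fact p.Prime] [CharP F p] {l : F} {n : ℕ} (hn : 0 < n)
    (h : l ^ n = 1) : ∃ m, 0 < m ∧ l ^ p ^ m = l := by
  have fin : (Set.range fun i : ℕ => l ^ p ^ i).Finite := by
    have h0 : (Polynomial.X ^ n - Polynomial.C 1 : Polynomial F) ≠ 0 :=
      Polynomial.X_pow_sub_C_ne_zero hn 1
    refine Set.Finite.subset (Polynomial.finite_setOf_isRoot h0) ?_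
    rintro _ ⟨i, rfl⟩
    have : (l ^ p ^ i) ^ n = 1 := by rw [← pow_mul, mul_comm, pow_mul, h, one_pow]
    simp [this]
  have key : ∀ i j, i < j → l ^ p ^ i = l ^ p ^ j → ∃ m, 0 < m ∧ l ^ p ^ m = l := fun i j hij e =>
    ⟨j - i, by omega, (iterateFrobenius F p i).injective (by
      rw [iterateFrobenius_def, iterateFrobenius_def, ← pow_mul, ← pow_add,
        Nat.sub_add_cancel hij.le, e])⟩
  obtain ⟨i, j, hij, e⟩ : ∃ i j, i ≠ j ∧ l ^ p ^ i = l ^ p ^ j := by
    by_contra hc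
    push Not at hc
    exact Set.infinite_range_of_injective (fun i j e => by_contra fun h => hc i j h e) fin
  rcases lt_or_gt_of_ne hij with h | h
  · exact key i j h e
  · exact key j i h e.symm

theorem neg_one_mem_sl (p : ℕ) [Fact p.Prime] [CharP F p] (hp : p ≠ 2) (E : Subfield F) [Finite E]
    {μ : F} (hμ : μ ∈ E) (h0 : μ ≠ 0) {K : Subgroup SL(2, F)} (h1 : slU 1 ∈ K) (h2 : slL μ ∈ K) :
    -1 ∈ K := by
  haveI : CharP E p := (E.subtype.charP_iff_charP p).2 inferInstance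
  let ι : SL(2, E) →* SL(2, F) := Matrix.SpecialLinearGroup.map E.subtype
  have e1 : ι (slU 1) = slU 1 := by ext i j; fin_cases i <;> fin_cases j <;> simp [ι]
  have e2 : ι (slL ⟨μ, hμ⟩) = slL μ := by ext i j; fin_cases i <;> fin_cases j <;> simp [ι]
  have e3 : ι (-1) = -1 := by ext i j; fin_cases i <;> fin_cases j <;> simp [ι]
  have t2 : (2 : E) ≠ 0 := Classical.SL2Basic.two_ne_zero_of_char hp
  obtain ⟨f, hf, hK⟩ := Classical.DicksonSL.exists_SL2_zmod hp (K.comap ι) fun hc => by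
    obtain ⟨P⟩ : Nonempty (Sylow p (K.comap ι)) := inferInstance
    have a1 : (⟨slU 1, show ι _ ∈ K from e1 ▸ h1⟩ : K.comap ι) ∈ P :=
      Classical.DicksonSL.mem_sylow_of_card_eq_one hc P (k := 1) (Subtype.ext (by
        have := Classical.SL2Basic.upper_pow (1 : E) p
        rw [CharP.cast_eq_zero, zero_mul, Classical.SL2Basic.upper_zero] at this
        rw [pow_one]; exact this))
    have a2 : (⟨slL ⟨μ, hμ⟩, show ι _ ∈ K from e2 ▸ h2⟩ : K.comap ι) ∈ P :=
      Classical.DicksonSL.mem_sylow_of_card_eq_one hc P (k := 1) (Subtype.ext (by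
        have := Classical.SL2Basic.lower_pow (⟨μ, hμ⟩ : E) p
        rw [CharP.cast_eq_zero, zero_mul, Classical.SL2Basic.lower_zero] at this
        rw [pow_one]; exact this))
    obtain ⟨k, hk⟩ := P.isPGroup' ⟨_, mul_mem a1 a2⟩
    have a3 : ((slU 1 * slL ⟨μ, hμ⟩ : SL(2, E)).1) ^ p ^ k = 1 := by
      have := congrArg (fun x : P => ((x : K.comap ι) : SL(2, E)).1) hk
      simpa using this
    have a4 : IsNilpotent ((slU 1 * slL ⟨μ, hμ⟩ : SL(2, E)).1 - 1) :=
      ⟨p ^ k, by rw [sub_pow_char_pow_of_commute _ _ (Commute.one_right _), a3]; simp⟩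
    have a5 := (Matrix.isNilpotent_trace_of_isNilpotent a4).eq_zero
    simp [Matrix.trace_fin_two] at a5
    exact h0 (congrArg Subtype.val (show (⟨μ, hμ⟩ : E) = 0 by linear_combination a5))
  have : f (-1) = -1 := (Classical.SL2Basic.eq_of_mul_self_eq_one t2
    (by rw [← map_mul]; simp)).resolve_left fun e => Classical.SL2Basic.neg_one_ne_one
      (Classical.SL2Basic.two_ne_zero_of_char hp) (hf (e.trans f.map_one.symm))
  exact e3 ▸ hK ⟨-1, this⟩

namespace StSys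
variable {S : StSys D F G}

theorem not_commute_ng (r : Rt D) {t u : F} (ht : t ≠ 0) (hu : u ≠ 0) :
    ¬ Commute (S.x r t) (S.x (ng r) u) := fun h => by
  have c : ∀ v, Commute (S.x r t) (S.x r v) := fun v => S.x_comm_self r t v
  have h1 := ((c u⁻¹).inv_right.mul_right h).mul_right (c u⁻¹).inv_right
  rw [x_ng_eq r hu, mul_assoc (S.x r u⁻¹), inv_mul_cancel_left, mul_inv_cancel_right] at h1
  have h2 := S.n_conj_self r (t := -u⁻¹) (by simpa using hu) t
  rw [← h1.eq, mul_inv_cancel_right] at h2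
  exact ng_ne r (S.eq_of_x_eq ht h2).symm

variable (h3 : S.R3)
include h3

theorem R3.sl2_nf (r : Rt D) {a : G} (ha : a ∈ S.XS {r, ng r}) :
    (∃ e l, l ≠ 0 ∧ a = S.x r e * S.h r l) ∨
      ∃ e l e', l ≠ 0 ∧ a = S.x r e * S.n r l * S.x r e' := by
  obtain ⟨φ, h1, h2, h4, h5⟩ := h3.exists_sl2 r
  rw [← h5] at ha
  obtain ⟨b, rfl⟩ := ha
  have hd := sl_det b
  by_cases h : b.1 1 0 = 0
  · have h0 : b.1 0 0 ≠ 0 := fun e => by simp [e, h] at hd
    refine Or.inl ⟨b.1 0 0 * b.1 0 1, b.1 0 0, h0, ?_⟩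
    rw [← h1, ← h4 _ h0, ← map_mul]
    congr 1
    ext i j; fin_cases i <;> fin_cases j <;> simp [h] <;> field_simp
    rw [h] at hd; linear_combination hd
  · refine Or.inr ⟨b.1 0 0 / b.1 1 0, -(b.1 1 0)⁻¹, b.1 1 1 / b.1 1 0, by simpa using h, ?_⟩
    rw [n, ← h1, ← h1, ← h1, ← h2, ← map_mul, ← map_mul, ← map_mul, ← map_mul]
    congr 1
    ext i j; fin_cases i <;> fin_cases j <;> simp <;> field_simp <;>
      first | ring1 | linear_combination -hd

theorem R3.of_conj (r : Rt D) {a : G} (ha : a ∈ S.XS {r, ng r}) {t t' : F} (ht : t ≠ 0)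
    (h : a * S.x r t * a⁻¹ = S.x r t') : ∃ e l, l ≠ 0 ∧ a = S.x r e * S.h r l ∧ t' = l * l * t := by
  rcases h3.sl2_nf r ha with ⟨e, l, h0, rfl⟩ | ⟨e, l, e', h0, rfl⟩
  · refine ⟨e, l, h0, rfl, S.x_inj (r := r) ?_⟩
    rw [← h, show S.x r e * S.h r l * S.x r t * (S.x r e * S.h r l)⁻¹ =
      S.x r e * (S.h r l * S.x r t * (S.h r l)⁻¹) * (S.x r e)⁻¹ by group, S.h_conj r h0, pr_self,
      S.x_comm_self, mul_inv_cancel_right, zpow_two]
  · have h1 : S.n r l * S.x r t * (S.n r l)⁻¹ = S.x r t' := by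
      calc _ = (S.x r e)⁻¹ * (S.x r e * S.n r l * (S.x r t * S.x r e') *
            (S.x r e * S.n r l * S.x r e')⁻¹) * S.x r e := by group
        _ = (S.x r e)⁻¹ * (S.x r t' * S.x r e) := by rw [S.x_comm_self r t, ← h]; group
        _ = _ := by rw [S.x_comm_self r t', inv_mul_cancel_left]
    rw [S.n_conj_self r h0] at h1
    exact absurd (S.eq_of_x_eq (by simp [h0, ht]) h1) (ng_ne r)

theorem R3.exists_swap [CharP F 2] (r : Rt D) {b μ : F} (hb : b ≠ 0) (hμ : μ ≠ 0)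
    (h : IsOfFinOrder (S.x r b * S.x (ng r) μ)) :
    ∃ k : ℕ, (S.x r b * S.x (ng r) μ) ^ k * S.x r b * ((S.x r b * S.x (ng r) μ) ^ k)⁻¹ =
      S.x (ng r) μ := by
  have sq : ∀ s t, S.x s t * S.x s t = 1 := fun s t => by
    rw [← S.add, CharTwo.add_self_eq_zero, S.x_zero]
  refine (dihedral_cases (sq _ _) (sq _ _) h).resolve_right fun ⟨k, h1, h2, h4⟩ => ?_
  obtain ⟨e, l, h0, e1, e2⟩ := h3.of_conj r (a := (S.x r b * S.x (ng r) μ) ^ k)
    (pow_mem (mul_mem (S.x_mem (by simp) _) (S.x_mem (by simp) _)) k) hb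
    (by rw [h2.eq, mul_inv_cancel_right])
  have : l = 1 := by
    have h5 : (l - 1) ^ 2 = 0 := by
      rw [sub_pow_char, one_pow, sub_eq_zero, pow_two]
      exact mul_right_cancel₀ hb (by rw [← e2, one_mul])
    exact sub_eq_zero.mp (pow_eq_zero_iff two_ne_zero |>.mp h5)
  rw [this, h_one, mul_one] at e1
  rw [e1] at h1 h4
  exact not_commute_ng r (fun e0 => h1 (by rw [e0, S.x_zero])) hμ h4

theorem R3.exists_fin (p : ℕ) [Fact p.Prime] [CharP F p] [IsAlgClosed F] (r : Rt D) {μ : F}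
    (h : IsOfFinOrder (S.x r 1 * S.x (ng r) μ)) : ∃ E : Subfield F, Finite E ∧ μ ∈ E := by
  obtain ⟨l, hl⟩ : ∃ l : F, l * l - (2 + μ) * l + 1 = 0 := by
    obtain ⟨l, hl⟩ := IsAlgClosed.exists_root (Polynomial.C 1 * Polynomial.X ^ 2 +
      Polynomial.C (-(2 + μ)) * Polynomial.X + Polynomial.C 1 : Polynomial F)
      (by rw [Polynomial.degree_quadratic one_ne_zero]; decide)
    refine ⟨l, ?_⟩
    simp only [Polynomial.IsRoot, Polynomial.eval_add, Polynomial.eval_mul, Polynomial.eval_C,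
      Polynomial.eval_pow, Polynomial.eval_X] at hl
    linear_combination hl
  have h0 : l ≠ 0 := fun e => by simp [e] at hl
  have h1 : 2 + 1 * μ = l + l⁻¹ := by field_simp; linear_combination -hl
  obtain ⟨n, hn, h2⟩ : ∃ n, 0 < n ∧ l ^ n = 1 := by
    by_cases e : l * l = 1
    · exact ⟨2, two_pos, by rw [pow_two, e]⟩
    obtain ⟨a, -, ha⟩ := h3.exists_conj_h r one_ne_zero h0 e h1
    obtain ⟨n, hn, h2⟩ := isOfFinOrder_iff_pow_eq_one.mp h
    rw [ha, conj_pow, conj_eq_one_iff] at h2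
    have key : ∀ n : ℕ, S.h r l ^ n * S.x r 1 * (S.h r l ^ n)⁻¹ = S.x r (l ^ (2 * n)) := by
      intro n
      induction n with
      | zero => simp
      | succ n ih =>
        rw [pow_succ', show S.h r l * S.h r l ^ n * S.x r 1 * (S.h r l * S.h r l ^ n)⁻¹ =
          S.h r l * (S.h r l ^ n * S.x r 1 * (S.h r l ^ n)⁻¹) * (S.h r l)⁻¹ by group, ih,
          S.h_conj r h0, pr_self, zpow_two]
        congr 1; ring
    have := key n
    rw [h2, one_mul, inv_one, mul_one] at this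
    exact ⟨2 * n, by omega, (S.x_inj this).symm⟩
  obtain ⟨m, hm, h4⟩ := exists_frob_fix p hn h2
  refine ⟨_, finite_frob p hm, ?_⟩
  have h5 : l ∈ (iterateFrobenius F p m).eqLocusField (RingHom.id F) := h4
  rw [show μ = l + l⁻¹ - 2 by rw [← h1]; ring]
  exact sub_mem (add_mem h5 (inv_mem h5)) (ofNat_mem _ 2)

theorem R3.h_neg_mem (p : ℕ) [Fact p.Prime] [CharP F p] (hp : p ≠ 2) (r : Rt D) (E : Subfield F)
    [Finite E] {μ : F} (hμ : μ ∈ E) (h0 : μ ≠ 0) {K : Subgroup G} (h1 : S.x r 1 ∈ K)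
    (h2 : S.x (ng r) μ ∈ K) : S.h r (-1) ∈ K := by
  obtain ⟨φ, a1, a2, a3, -⟩ := h3.exists_sl2 r
  have := neg_one_mem_sl p hp E hμ h0 (K := K.comap φ) (show φ _ ∈ K from a1 1 ▸ h1)
    (show φ _ ∈ K from a2 μ ▸ h2)
  rw [← a3 (-1) (by simp), show slH (-1 : F) (by simp) = -1 by
    ext i j; fin_cases i <;> fin_cases j <;> simp]
  exact this

end StSys
end Cfsg.Agent.Chev
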