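import Mathlib
import Cfsg.Agent.Chev.MxU1

/-! Long root elements and the parabolic subgroup of the highest root. -/

set_option autoImplicit false
set_option linter.unusedSectionVars false
set_option maxHeartbeats 400000

namespace Cfsg.Agent.Chev
open Cfsg.Lie Cfsg.Agent.BN StSys

variable {D : ChevalleyDatum} [g : Good2 D] {F : Type*} [Field F] {G : Type*} [Group G]

/-- long roots -/
def LgR (r : Rt D) : Prop := ∀ s, s ≠ r → pr r s ≤ 1

instance instDecLgR (r : Rt D) : Decidable (LgR r) :=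
  inferInstanceAs (Decidable (∀ s, s ≠ r → pr r s ≤ 1))

theorem LgR.smul {r : Rt D} (h : LgR r) (w : W D) : LgR (w • r) := fun s hs => by
  rw [pr_smul_left]; exact h _ fun e => hs (by rw [← e, smul_inv_smul])

theorem lg_smul_iff {r : Rt D} (w : W D) : LgR (w • r) ↔ LgR r :=
  ⟨fun h => by simpa using h.smul w⁻¹, fun h => h.smul w⟩

theorem LgR.neg_le {r s : Rt D} (h : LgR r) (hs : s ≠ ng r) : -1 ≤ pr r s := by
  have := h (ng s) fun e => hs (ng_eq_iff.mp e)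
  rw [pr_ng_right] at this; omega

theorem exists_dom (r : Rt D) : ∃ w : W D, ∀ i, 0 ≤ ca i (w • r) :=
  ind_dom (Q := fun r => ∃ w : W D, ∀ i, 0 ≤ ca i (w • r)) (fun r h => ⟨1, by simpa using h⟩)
    (fun i r ⟨w, h⟩ => ⟨w * sW i, by simpa [mul_smul] using h⟩) r

theorem pr_lin (r : Rt D) {v a b : Rt D} {i j : ℤ} (h : co v = i • co a + j • co b) :
    pr r v = i * pr r a + j * pr r b := by
  rw [pr_eq r v, h, map_add, map_smul, map_smul, ← pr_eq, ← pr_eq]; rfl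

/-- the commutator of two root elements is a single root element with coefficient `± 1` -/
def One (r s : Rt D) : Prop :=
  (D.commTerms r s).map (fun e => (e.2.1 * e.2.1, e.2.2)) = [(1, 1, 1)]

instance instDecOne (r s : Rt D) : Decidable (One r s) := inferInstanceAs (Decidable (_ = _))

theorem One.exists {r s : Rt D} (h : One r s) : ∃ (v : Rt D) (C : ℤ), C * C = 1 ∧
    D.commTerms r s = [((v : ℕ), C, 1, 1)] ∧ co v = co r + co s := by
  obtain ⟨e, he, h1⟩ := List.map_eq_singleton_iff.mp h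
  obtain ⟨-, -, v, h2, h3⟩ := mem_commTerms (he ▸ List.mem_singleton_self e)
  obtain ⟨a, C, i, j⟩ := e
  simp only [Prod.mk.injEq] at h1
  obtain ⟨h4, rfl, rfl⟩ := h1
  exact ⟨v, C, h4, by rw [he, ← h2], by simpa using h3⟩

theorem cast_ne_zero_of_sq {C : ℤ} (h : C * C = 1) : (C : F) ≠ 0 := fun e => by
  have := congrArg (Int.cast : ℤ → F) h
  simp [e] at this

/-- the properties of the highest root -/
structure UD (k : Ix D) (θ : Rt D) : Prop where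
  pos : Pos θ
  top : ∀ s, Pos s → RLe s θ
  lev : co θ k = 2
  lev2 : ∀ r, 2 ≤ co r k → r = θ
  prθ : ∀ r, pr θ r = co r k
  caθ : ∀ i, 0 ≤ ca i θ ∧ (ca i θ = 0 → i ≠ k)
  dom : ∀ r, (∀ i, 0 ≤ ca i r) → r = θ ∨ (co r k = 1 ∧ ¬ LgR r)
  m1 : ∀ β, co β k = -1 → LgR β → pr β θ = -1 ∧ One θ β
  reg : ∃ (n : ℕ) (α : Fin n → Rt D) (a : Fin n → ℤ), (∀ j, LgR (α j) ∧ Pos (α j) ∧ 0 < a j) ∧
    ∀ i, 0 < ∑ j, a j * ca i (α j)

theorem pos_of_mem_Rk {k : Ix D} {r : Rt D} (h : r ∈ Rk k) : Pos r := pos_of_co_pos (mem_Rk.mp h)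

namespace StSys
variable {S : StSys D F G} {k : Ix D}

theorem Q_le_U : S.XS (Rk k) ≤ S.U := S.XS_mono fun _ => pos_of_mem_Rk

theorem U_conj_Q {u z : G} (hu : u ∈ S.U) (hz : z ∈ S.XS (Rk k)) : u * z * u⁻¹ ∈ S.XS (Rk k) :=
  S.conj_mem_of_cl (cl_Rk (R := {r | Pos r}) fun r hr => (pos_iff r).mp hr k) hu hz

theorem cq_U_conj {r : Rt D} (hr : co r k = 1) {u : G} (hu : u ∈ S.U) (t : F) :
    S.cq r (u * S.x r t * u⁻¹) = t := by
  have h0 : r ∈ Rk k := mem_Rk.mpr (by omega)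
  have h1 := (show S.Lead (S.x r t) r t by simp [Lead]).conj_U (pos_of_mem_Rk h0) hu
  have h2 := mul_mem (inv_mem (S.x_mem h0 t)) (U_conj_Q hu (S.x_mem h0 t))
  have h3 : (S.x r t)⁻¹ * (u * S.x r t * u⁻¹) ∈ S.XS (Ab r ∩ Rk k) := by
    rw [← S.XS_inf uni_pos (upC_Ab r).uni ((uni_Rk k).owt_of fun _ => pos_of_mem_Rk)
      (upC_Ab r).pos fun _ => pos_of_mem_Rk]
    exact ⟨h1, h2⟩
  rw [← mul_inv_cancel_left (S.x r t) (u * S.x r t * u⁻¹), cq_mul hr (S.x_mem h0 t) h2, cq_x,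
    if_pos rfl, cq_eq_zero hr Set.inter_subset_right (fun h => notMem_Ab r h.1) h3, add_zero]

theorem cq_Q_conj {r : Rt D} (hr : co r k = 1) {u z : G} (hu : u ∈ S.XS (Rk k))
    (hz : z ∈ S.XS (Rk k)) : S.cq r (u * z * u⁻¹) = S.cq r z := by
  rw [cq_mul hr (mul_mem hu hz) (inv_mem hu), cq_mul hr hu hz, cq_inv hr hu]; ring

variable (S k) in
/-- the parabolic subgroup -/
def PP : Subgroup G := S.XS {r | 0 ≤ co r k} ⊔ S.H

theorem U_le_PP : S.U ≤ S.PP k :=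
  (S.XS_mono fun r hr => (pos_iff r).mp hr k).trans le_sup_left

theorem PP_conj_Q {p z : G} (hp : p ∈ S.PP k) (hz : z ∈ S.XS (Rk k)) : p * z * p⁻¹ ∈ S.XS (Rk k) :=
  (Subgroup.mem_normalizer_iff.mp ((sup_le (S.le_normalizer_of_cl (cl_Rk fun _ h => h))
    (S.H_le_normalizer _) : S.PP k ≤ _) hp) z).mp hz

theorem one_of_PP {a : G} (h1 : a ∈ S.PP k) (h2 : a ∈ S.XS {r | co r k < 0}) : a = 1 := by
  have e : {r : Rt D | co r k < 0} = Hc (-Pi.single k 1) := Set.ext fun r => by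
    rw [mem_Hc, ph_neg, ph_single]; simp
  rw [e] at h2
  refine S.eq_one_of_θ (uni_Hc _) h2 (eq_one_of_up_dn (S.θ_mem_UpG_one (uni_Hc _) h2) ?_)
  rw [neg_neg]
  exact (sup_le (S.XS_le.mpr fun r hr t => show S.θ _ ∈ DnG F _ from
    S.θ_x r t ▸ XG_mem_DnG (by rwa [ph_single]) t) fun a ha => θ_H_mem_DnG _ ha :
      S.PP k ≤ (DnG F (Pi.single k 1)).comap S.θ) h1

theorem nW_conj (w : W D) (s : Rt D) : ∃ c : F, (c = 1 ∨ c = -1) ∧
    ∀ u, S.nW w * S.x s u * (S.nW w)⁻¹ = S.x (w • s) (c * u) := by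
  have key : ∀ l : List (Ix D), ∃ c : F, (c = 1 ∨ c = -1) ∧
      ∀ u, wp S.ns l * S.x s u * (wp S.ns l)⁻¹ = S.x (wp sW l • s) (c * u) := fun l => by
    induction l with
    | nil => exact ⟨1, Or.inl rfl, by simp⟩
    | cons i l ih =>
      obtain ⟨c, hc, h⟩ := ih
      refine ⟨eta i (wp sW l • s) * c, ?_, fun u => ?_⟩
      · rcases eta_cases i (wp sW l • s) with e | e <;> rcases hc with rfl | rfl <;> simp [e]
      · rw [wp_cons, wp_cons, mul_smul, show S.ns i * wp S.ns l * S.x s u * (S.ns i * wp S.ns l)⁻¹ =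
          S.ns i * (wp S.ns l * S.x s u * (wp S.ns l)⁻¹) * (S.ns i)⁻¹ by group, h, ns,
          S.n_sim_conj i one_ne_zero, one_zpow, mul_one, mul_assoc, sW_smul]
  obtain ⟨c, hc, h⟩ := key (invGen.exists_red w).choose
  refine ⟨c, hc, fun u => ?_⟩
  rw [nW, h, (S.mono_wp _).unique (S.mono_nW w)]

end StSys

namespace UD
variable {k : Ix D} {θ : Rt D} (h : UD k θ) {S : StSys D F G}
include h

theorem lg : LgR θ := fun s hs => by
  rw [h.prθ]; by_contra e; exact hs (h.lev2 s (by omega))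

theorem exists_w {r : Rt D} (hr : LgR r) : ∃ w : W D, w • θ = r := by
  obtain ⟨w, hw⟩ := exists_dom r
  rcases h.dom _ hw with e | e
  · exact ⟨w⁻¹, by rw [← e, inv_smul_smul]⟩
  · exact absurd (hr.smul w) e.2

theorem eq_ng {β : Rt D} (hβ : co β k < -1) : β = ng θ :=
  ng_eq_iff.mp (h.lev2 (ng β) (by simp only [co_ng, Pi.neg_apply]; omega))

theorem comm_θ {β : Rt D} (hβ : 0 ≤ co β k) (t u : F) : Commute (S.x θ t) (S.x β u) :=
  S.commute_of (fun e => by simp [e, h.lev] at hβ) (fun v i j hi hj e => by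
    have h1 := congrFun e k
    simp only [Pi.add_apply, Pi.smul_apply, smul_eq_mul, h.lev] at h1
    have h2 := h.lev2 v (by nlinarith)
    rw [h2, h.lev] at h1
    obtain rfl : i = 1 := by nlinarith
    rw [h2, one_smul, left_eq_add, smul_eq_zero] at e
    exact co_ne_zero β (e.resolve_left hj.ne')) t u

theorem U_comm {u : G} (hu : u ∈ S.U) (t : F) : Commute u (S.x θ t) := S.top_comm h.pos h.top hu t

theorem PP_conj_θ {p : G} (hp : p ∈ S.PP k) (c : F) : ∃ c', p * S.x θ c * p⁻¹ = S.x θ c' :=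
  S.mem_XS_singleton.mp ((Subgroup.mem_normalizer_iff.mp ((sup_le (le_normalizer_of fun a ha y hy =>
    by
      obtain ⟨t, rfl⟩ := S.mem_XS_singleton.mp hy
      have : a ∈ Subgroup.centralizer {S.x θ t} := S.XS_le.mpr (fun r hr u =>
        Subgroup.mem_centralizer_singleton_iff.mpr (h.comm_θ hr t u).symm) ha
      rwa [Subgroup.mem_centralizer_singleton_iff.mp this, mul_inv_cancel_right])
    (S.H_le_normalizer _) : S.PP k ≤ _) hp) _).mp (S.x_mem (Set.mem_singleton θ) c))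

theorem mem_PP {a : G} (ha : a ∈ S.grp) {c c' : F} (hc : c ≠ 0)
    (e : a * S.x θ c * a⁻¹ = S.x θ c') : a ∈ S.PP k := by
  obtain ⟨w, hw⟩ := exists_cell ha
  have h1 : w • θ ∈ ({θ} : Set (Rt D)) := (show S.Lead (S.x θ c) θ c by simp [Lead]).smul_mem
    h.pos hc hw ⟨fun r hr => hr ▸ h.pos, fun s hs v hv => RLe.antisymm
      (h.top v (hv.pos (hs ▸ h.pos))) (hs ▸ hv)⟩ (e ▸ S.x_mem (Set.mem_singleton θ) _)
  have h2 := mem_P.mpr ⟨w, mem_WK_of_fix (fun i => (h.caθ i).1) h1, hw⟩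
  rw [P_eq] at h2
  refine (sup_le le_sup_right ((S.XS_mono fun r hr => ?_).trans le_sup_left) : _ ≤ S.PP k) h2
  rcases hr with hr | hr
  · exact (pos_iff r).mp hr k
  · exact (hr k fun e => (h.caθ k).2 e rfl).ge

theorem comm_Q {a b : G} (ha : a ∈ S.XS (Rk k)) (hb : b ∈ S.XS (Rk k)) :
    ∃ c, a⁻¹ * b * a = b * S.x θ c := by
  obtain ⟨c, hc⟩ := top_of_cq h.lev2 (mul_mem (inv_mem hb) (mul_mem (mul_mem (inv_mem ha) hb) ha))
    fun m hm => by
      rw [cq_mul hm (inv_mem hb) (mul_mem (mul_mem (inv_mem ha) hb) ha), cq_inv hm hb,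
        cq_mul hm (mul_mem (inv_mem ha) hb) ha, cq_mul hm (inv_mem ha) hb, cq_inv hm ha]; ring
  exact ⟨c, by rw [← hc, mul_inv_cancel_left]⟩

theorem split_Q {L : Subfield F} {z : G} (hz : z ∈ S.XS (Rk k))
    (hL : ∀ r, co r k = 1 → S.cq r z ∈ L) :
    ∃ z' ∈ S.GS L, z' ∈ S.XS (Rk k) ∧ ∃ c, z = z' * S.x θ c := by
  obtain ⟨l, h1, h2⟩ := exists_list {r : Rt D | co r k = 1}
  have h3 : ∀ r ∈ l, r ∈ Rk k := fun r hr => mem_Rk.mpr (by rw [(h2 r).mp hr]; exact one_pos)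
  have h4 := S.prd_mem' (fun r => S.cq r z) h3
  obtain ⟨c, hc⟩ := top_of_cq h.lev2 (mul_mem (inv_mem h4) hz) fun m hm => by
    rw [cq_mul hm (inv_mem h4) hz, cq_inv hm h4, cq_prd hm h1 h3, if_pos ((h2 m).mpr hm),
      neg_add_cancel]
  exact ⟨_, prd_mem_GS fun r hr => hL r ((h2 r).mp hr), h4, c, by rw [← hc, mul_inv_cancel_left]⟩

theorem cent_eq_one (inj : ∀ y ∈ S.grp, S.θ y = 1 → y = 1) {L : Subfield F} {d : G}
    (hd : d ∈ S.grp) (hc : ∀ m ∈ S.GS L, Commute d (m * S.x θ 1 * m⁻¹)) : d = 1 := by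
  have key : ∀ d ∈ S.grp, (∀ m ∈ S.GS L, Commute d (m * S.x θ 1 * m⁻¹)) → d ∈ S.B := by
    intro d hd hc
    obtain ⟨n, α, a, h1, h4⟩ := h.reg
    obtain ⟨v, hv⟩ := exists_cell hd
    rw [← StSys.mem_cell_one, ← eq_one_of_rle (fun j => (h1 j).2.2) h4 (w := v) fun j => ?_]
    · exact hv
    obtain ⟨w, hw⟩ := h.exists_w (h1 j).1
    obtain ⟨c, b1, b2, -⟩ := (S.mono_nW w).exists_conj θ
    have := hc _ (nW_mem_GS w)
    rw [b2, mul_one, hw] at this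
    have hl : S.Lead (S.x (α j) c) (α j) c := by simp [Lead]
    exact hl.rle (h1 j).2.1 b1 (S.x_mem (T := UpL [α j]) ⟨_, by simp, RLe.rfl⟩ _) hv
      (by rw [this.eq, mul_inv_cancel_right])
  refine inj d hd (θ_eq_one_of_core' (K := S.GS L) (nW_mem_GS (w0 Set.univ)) (S.nW_mem _)
    (S.mono_nW _) (fun r hr => by simpa [pos_w0_univ] using hr)
    (fun i => ⟨_, ⟨S.x_mem (pos_sim i) 1, x_mem_GS _ (one_mem _)⟩, fun e =>
      one_ne_zero (eq_zero_of_mem_Ui e)⟩) fun a ha =>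
    key _ (mul_mem (mul_mem (GS_le_grp ha) hd) (inv_mem (GS_le_grp ha))) fun m hm => ?_)
  have := commute_conj_iff (m := a⁻¹) (d := d) (x := m * S.x θ 1 * m⁻¹)
  rw [inv_inv] at this
  exact this.mpr (by simpa [mul_assoc] using hc _ (mul_mem (inv_mem ha) hm))

end UD

namespace StSys
variable (S : StSys D F G)

/-- long root elements -/
def LR (y : G) : Prop := ∃ a ∈ S.grp, ∃ β c, LgR β ∧ y = a * S.x β c * a⁻¹

/-- long root elements opposite to `θ` -/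
def Opp (θ : Rt D) (y : G) : Prop := ∃ u ∈ S.U, ∃ μ, μ ≠ 0 ∧ y = u * S.x (ng θ) μ * u⁻¹

variable {S}
theorem LR.conj {y m : G} (h : S.LR y) (hm : m ∈ S.grp) : S.LR (m⁻¹ * y * m) := by
  obtain ⟨a, ha, β, c, h1, rfl⟩ := h
  exact ⟨m⁻¹ * a, mul_mem (inv_mem hm) ha, β, c, h1, by group⟩

end StSys

namespace UD
variable {k : Ix D} {θ : Rt D} (h : UD k θ) {S : StSys D F G}
include h

theorem exists_top {a : G} (ha : a ∈ S.grp) {β : Rt D} (hβ : LgR β) (c : F) :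
    ∃ a' ∈ S.grp, ∃ c', (c ≠ 0 → c' ≠ 0) ∧ a * S.x β c * a⁻¹ = a' * S.x θ c' * a'⁻¹ := by
  obtain ⟨w, rfl⟩ := h.exists_w hβ
  obtain ⟨d, h1, h2, -⟩ := (S.mono_nW w).exists_conj θ
  refine ⟨a * S.nW w, mul_mem ha (S.N_le_grp (S.nW_mem w)), d⁻¹ * c, fun e => by simp [h1, e], ?_⟩
  rw [← mul_inv_cancel_left₀ h1 c, ← h2, inv_mul_cancel_left₀ h1]; group

theorem exists_form {y : G} (hy : S.LR y) :
    ∃ u ∈ S.U, ∃ β c, LgR β ∧ y = u * S.x β c * u⁻¹ := by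
  obtain ⟨a, ha, β, c, h1, rfl⟩ := hy
  obtain ⟨a, ha, s, -, e⟩ := h.exists_top ha h1 c
  rw [e]
  obtain ⟨w, hw⟩ := exists_cell ha
  obtain ⟨u, hu, n, hn, hm, v, hv, rfl⟩ := exists_normal' hw
  obtain ⟨c, -, hc, -⟩ := hm.exists_conj θ
  refine ⟨u, hu, w • θ, c * s, h.lg.smul w, ?_⟩
  rw [← hc]
  calc _ = u * n * (v * S.x θ s) * v⁻¹ * n⁻¹ * u⁻¹ := by group
    _ = _ := by rw [(h.U_comm (Uw_le_U _ hv) s).eq]; group

theorem opp_conj {y : G} (hy : S.Opp θ y) {c : F} (hc : c ≠ 0) : S.Opp θ (y * S.x θ c * y⁻¹) := by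
  obtain ⟨u, hu, μ, h0, rfl⟩ := hy
  have h1 := S.n_conj_self θ (t := -μ⁻¹) (by simpa using h0) c
  refine ⟨u * S.x θ μ⁻¹, mul_mem hu (S.x_mem h.pos _), -((-μ⁻¹)⁻¹ * (-μ⁻¹)⁻¹ * c), ?_, ?_⟩
  · simp [h0, hc]
  · rw [← h1, x_ng_eq θ h0]
    calc _ = u * S.x θ μ⁻¹ * S.n θ (-μ⁻¹) * (S.x θ μ⁻¹ * (u⁻¹ * S.x θ c * u) * (S.x θ μ⁻¹)⁻¹) *
          (S.n θ (-μ⁻¹))⁻¹ * (u * S.x θ μ⁻¹)⁻¹ := by group
      _ = _ := by
        rw [mul_assoc u⁻¹, ← (h.U_comm hu c).eq, inv_mul_cancel_left, S.x_comm_self,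
          mul_inv_cancel_right]; group

theorem opp_not_comm {y : G} (hy : S.Opp θ y) {c : F} (hc : c ≠ 0) : ¬ Commute (S.x θ c) y := by
  obtain ⟨u, hu, μ, h0, rfl⟩ := hy
  rw [← commute_conj_iff, mul_assoc u⁻¹, ← (h.U_comm hu c).eq, inv_mul_cancel_left]
  exact not_commute_ng θ hc h0

theorem opp_Q {y : G} (hy : S.Opp θ y) :
    ∃ u ∈ S.XS (Rk k), ∃ μ, μ ≠ 0 ∧ y = u * S.x (ng θ) μ * u⁻¹ := by
  obtain ⟨u, hu, μ, h0, rfl⟩ := hy
  obtain ⟨v, hv, z, hz, rfl⟩ := S.exists_mul uni_pos (T := Rk k) (T' := {r | Pos r ∧ co r k = 0})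
    (fun _ => pos_of_mem_Rk) (fun _ h => h.1) (fun r hr => by
      rcases ((pos_iff r).mp hr k).lt_or_eq with e | e
      · exact Or.inl (mem_Rk.mpr e)
      · exact Or.inr ⟨hr, e.symm⟩) hu
  have : z ∈ Subgroup.centralizer {S.x (ng θ) μ} := S.XS_le.mpr (fun r hr t =>
    Subgroup.mem_centralizer_singleton_iff.mpr (S.commute_of
      (fun e => by have := hr.2; rw [← ng_inj e, h.lev] at this; omega) (fun v i j hi hj e => by
        have h1 := congrFun e k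
        simp only [Pi.add_apply, Pi.smul_apply, smul_eq_mul, co_ng, Pi.neg_apply, h.lev, hr.2] at h1
        have h2 := h.eq_ng (β := v) (by omega)
        rw [h2, co_ng, Pi.neg_apply, h.lev] at h1
        obtain rfl : j = 1 := by omega
        rw [h2, one_smul, right_eq_add, smul_eq_zero] at e
        exact co_ne_zero r (e.resolve_left hi.ne')) t μ)) hz
  refine ⟨v, hv, μ, h0, ?_⟩
  rw [mul_assoc v, Subgroup.mem_centralizer_singleton_iff.mp this]; group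

end UD
end Cfsg.Agent.Chev
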