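import Mathlib
import Cfsg.Agent.Chev.MxU2

/-! Finite overgroups of a Chevalley group over a subfield: rationality of long root elements. -/

set_option autoImplicit false
set_option linter.unusedSectionVars false
set_option maxHeartbeats 400000

namespace Cfsg.Agent.Chev
open Cfsg.Lie Cfsg.Agent.BN StSys

variable {D : ChevalleyDatum} [g : Good2 D] {F : Type*} [Field F] {G : Type*} [Group G]

/-- a decidable normalizing condition -/
def ClT (R T : List (Rt D)) : Prop :=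
  ∀ r ∈ R, ∀ s ∈ T, s ≠ ng r ∧ ∀ e ∈ D.commTerms r s, ∃ v ∈ T, e.1 = (v : Rt D)

instance instDecClT (R T : List (Rt D)) : Decidable (ClT R T) :=
  inferInstanceAs (Decidable (∀ r ∈ R, ∀ s ∈ T, s ≠ ng r ∧ ∀ e ∈ D.commTerms r s, ∃ v ∈ T, e.1 = (v : Rt D)))

theorem ClT.conj {R T : List (Rt D)} (h : ClT R T) {S : StSys D F G} {a y : G}
    (ha : a ∈ S.XS {r | r ∈ R}) (hy : y ∈ S.XS {r | r ∈ T}) : a * y * a⁻¹ ∈ S.XS {r | r ∈ T} := by
  induction ha using S.XS_ind generalizing y with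
  | h1 => simpa using hy
  | hs r hr t a _ ih =>
    have := S.conj_mem_XS (a := S.x r t) (K := S.XS {r | r ∈ T}) (fun s hs u => by
      have := mul_mem (S.x_mem hs u) (S.comm_mem' (K := S.XS {r | r ∈ T}) (h r hr s hs).1
        (fun e he v hv _ _ _ t => by
          obtain ⟨v', h1, h2⟩ := (h r hr s hs).2 e he
          exact S.x_mem (show v ∈ T from (Fin.ext (hv.symm.trans h2) : v = v') ▸ h1) t) (-t) u)
      simpa [S.x_neg, mul_assoc] using this) (ih hy)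
    simpa [mul_assoc] using this

/-- the data available when there are lines of long root subgroups -/
structure LN (k : Ix D) (θ : Rt D) : Prop where
  z0 : ∀ β, co β k = 0 → LgR β → ∃ r, co r k = 1 ∧ pr β r = -1 ∧ One β r ∧ LgR r
  lg1 : LgR (sim k)
  ct1 : ClT [θ, ng θ] [sim k, ng (rf k θ)]
  ct2 : ClT [sim k, ng (rf k θ)] [θ, sim k]
  c11 : ng (rf k θ) ≠ sim k ∧ ng (rf k θ) ≠ ng (sim k) ∧
    D.commTerms (sim k : Rt D) (ng (rf k θ)) = []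
  c1θ : ng θ ≠ ng (rf k θ) ∧ ng θ ≠ ng (ng (rf k θ)) ∧ D.commTerms (ng (rf k θ)) (ng θ) = []
  one : ∃ C ∈ [(1 : ℤ), -1], θ ≠ ng (rf k θ) ∧ θ ≠ ng (ng (rf k θ)) ∧
    D.commTerms (ng (rf k θ)) θ = [(((sim k : Rt D) : ℕ), C, 1, 1)]
  r2 : ∃ r, co r k = 1 ∧ (r ≠ sim k ∧ r ≠ ng (sim k) ∧ D.commTerms (sim k : Rt D) r = []) ∧
    r ≠ ng (rf k θ) ∧ r ≠ ng (ng (rf k θ)) ∧ D.commTerms (ng (rf k θ)) r = []
  pair : ∃ C ∈ [(1 : ℤ), -1], rf k θ ≠ sim k ∧ rf k θ ≠ ng (sim k) ∧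
    D.commTerms (sim k : Rt D) (rf k θ) = [((θ : ℕ), C, 1, 1)]

/-- a subgroup whose intersection with the unipotent radical is defined over the subfield `L` -/
structure RC (S : StSys D F G) (k : Ix D) (θ : Rt D) (M : Subgroup G) where
  m : Mor S S (Sym.one D)
  ψ : F →+* F
  hφ : ∀ r t, m.φ r t = ψ t
  L : Subfield F
  hL : ∀ t, t ∈ L ↔ ψ t = t
  le : M ≤ S.grp
  gs : S.GS L ≤ M
  hθ : ∀ t, S.x θ t ∈ M → t ∈ L
  hcq : ∀ z ∈ M, z ∈ S.XS (Rk k) → ∀ r, co r k = 1 → S.cq r z ∈ L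

namespace RC
variable {S : StSys D F G} {k : Ix D} {θ : Rt D} {M : Subgroup G} (R : RC S k θ M) (h : UD k θ)

theorem fix {a : G} (ha : a ∈ S.GS R.L) : R.m.f a = a := R.m.fix_of_GS R.hφ R.hL ha

theorem fix_of_conj {l y : G} (hl : l ∈ S.GS R.L) (e : R.m.f (l⁻¹ * y * l) = l⁻¹ * y * l) :
    R.m.f y = y := by
  rw [map_mul, map_mul, map_inv, R.fix hl] at e
  simpa using e

theorem conj_mem {l y : G} (hl : l ∈ S.GS R.L) (hy : y ∈ M) : l⁻¹ * y * l ∈ M :=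
  mul_mem (mul_mem (inv_mem (R.gs hl)) hy) (R.gs hl)

include R in
theorem x_one (r : Rt D) : S.x r 1 ∈ M := R.gs (x_mem_GS r (one_mem _))

include h

theorem mem_GS {z : G} (hz : z ∈ M) (hQ : z ∈ S.XS (Rk k)) : z ∈ S.GS R.L := by
  obtain ⟨z', h1, -, c, rfl⟩ := h.split_Q hQ (R.hcq z hz hQ)
  exact mul_mem h1 (x_mem_GS _ (R.hθ c (by simpa using mul_mem (inv_mem (R.gs h1)) hz)))

theorem exists_conj {a : G} (ha : a ∈ S.grp) {c : F} (hc : c ≠ 0)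
    (e : R.m.f (a * S.x θ c * a⁻¹) = a * S.x θ c * a⁻¹) :
    ∃ l ∈ S.GS R.L, ∃ p ∈ S.PP k, a = l * p := by
  obtain ⟨w, hw⟩ := exists_cell ha
  obtain ⟨b, hb, v, hv, rfl⟩ := exists_normal (S.nW_mem w) (S.mono_nW w) hw
  obtain ⟨u, hu, z, hz, rfl⟩ := mem_B.mp hb
  obtain ⟨u1, h1, u2, h2, rfl⟩ := S.exists_mul uni_pos (T := {r | Pos r ∧ co (w⁻¹ • r) k < 0})
    (T' := {r | Pos r ∧ 0 ≤ co (w⁻¹ • r) k}) (fun _ h => h.1) (fun _ h => h.1)
    (fun r hr => (lt_or_ge (co (w⁻¹ • r) k) 0).imp (fun e => ⟨hr, e⟩) fun e => ⟨hr, e⟩) hu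
  have hp : (S.nW w)⁻¹ * u2 * S.nW w * ((S.nW w)⁻¹ * z * S.nW w) * v ∈ S.PP k :=
    mul_mem (mul_mem (Subgroup.mem_sup_left ((S.mono_nW w).conj_mem' (fun _ h => h.2) h2))
      (Subgroup.mem_sup_right (conj_mem_H' (S.nW_mem w) hz))) (U_le_PP (Uw_le_U _ hv))
  have e1 : u1 * u2 * z * S.nW w * v =
    u1 * S.nW w * ((S.nW w)⁻¹ * u2 * S.nW w * ((S.nW w)⁻¹ * z * S.nW w) * v) := by group
  rw [e1] at e ⊢
  generalize (S.nW w)⁻¹ * u2 * S.nW w * ((S.nW w)⁻¹ * z * S.nW w) * v = p at *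
  obtain ⟨c', hc'⟩ := h.PP_conj_θ hp c
  have h0 : c' ≠ 0 := fun e0 => hc (S.x_inj (r := θ) (by
    rw [e0, S.x_zero, conj_eq_one_iff] at hc'; rw [hc', S.x_zero]))
  rw [show u1 * S.nW w * p * S.x θ c * (u1 * S.nW w * p)⁻¹ =
    u1 * S.nW w * (p * S.x θ c * p⁻¹) * (u1 * S.nW w)⁻¹ by group, hc'] at e
  simp only [map_mul, map_inv, R.m.f_nW R.hφ, R.m.f_x' R.hφ] at e
  have h4 : (S.nW w)⁻¹ * ((R.m.f u1)⁻¹ * u1) * S.nW w ∈ S.XS {r | co r k < 0} :=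
    (S.mono_nW w).conj_mem' (fun _ h => h.2) (mul_mem (inv_mem (R.m.mem_XS (fun _ h => h) h1)) h1)
  have h5 := one_of_PP (h.mem_PP (S.XS_le_grp _ h4) h0 (c' := R.ψ c') (by
    calc _ = (R.m.f u1 * S.nW w)⁻¹ * (u1 * S.nW w * S.x θ c' * (u1 * S.nW w)⁻¹) *
          (R.m.f u1 * S.nW w) := by group
      _ = _ := by rw [← e]; group)) h4
  have h6 : R.m.f u1 = u1 := by
    rwa [mul_assoc, inv_mul_eq_one, right_eq_mul, inv_mul_eq_one] at h5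
  exact ⟨_, mul_mem (R.m.XS_fix R.hφ R.hL uni_pos (S.XS_mono (fun _ h => h.1) h1) h6)
    (nW_mem_GS w), p, hp, rfl⟩

theorem rat_neg {β : Rt D} (hβ : co β k = -1) (hl : LgR β) {u : G} (hu : u ∈ S.U) {c : F} {y : G}
    (e : y = u * S.x β c * u⁻¹) (hy : y ∈ M) : R.m.f y = y := by
  by_cases hc : c = 0
  · simp [e, hc]
  obtain ⟨h1, h2⟩ := h.m1 β hβ hl
  obtain ⟨γ, C, hC, h3, h4⟩ := h2.exists
  have h5 := S.comm_of (r := θ) (s := β) ⟨fun e => by simp [e, h.lev] at hβ,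
    fun e => by simp [e, h.lev] at hβ, h3⟩ 1 c
  rw [List.map_singleton, wd_one] at h5
  have h6 : (S.x θ 1 * y)⁻¹ * (y * S.x θ 1) = u * S.x γ (C * (-1) ^ 1 * c ^ 1) * u⁻¹ := by
    have e2 : S.x θ 1 = u * S.x θ 1 * u⁻¹ := by rw [(h.U_comm hu 1).eq, mul_inv_cancel_right]
    rw [e2, e]
    calc _ = u * ((S.x θ 1 * S.x β c)⁻¹ * (S.x β c * S.x θ 1)) * u⁻¹ := by group
      _ = _ := by rw [h5, inv_mul_cancel_left]
  have h7 : γ = rW θ • β := co_inj (by rw [co_rW, h.prθ, hβ, h4, add_comm]; simp)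
  obtain ⟨w, hw⟩ := h.exists_w (h7 ▸ hl.smul _ : LgR γ)
  obtain ⟨d, d1, d2, -⟩ := (S.mono_nW w).exists_conj θ
  obtain ⟨d', d3, d4, -⟩ := (S.mono_nW w).exists_conj (w⁻¹ • β)
  rw [smul_inv_smul] at d4
  have h8 := R.fix (R.mem_GS h (mul_mem (inv_mem (mul_mem (R.x_one θ) hy))
    (mul_mem hy (R.x_one θ))) (h6 ▸ U_conj_Q hu (S.x_mem (mem_Rk.mpr (by
      rw [h4, Pi.add_apply, h.lev, hβ]; norm_num)) _)))
  rw [h6, ← hw, ← mul_inv_cancel_left₀ d1 (C * (-1) ^ 1 * c ^ 1), ← d2,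
    show ∀ x, u * (S.nW w * x * (S.nW w)⁻¹) * u⁻¹ = u * S.nW w * x * (u * S.nW w)⁻¹ from
      fun x => by group] at h8
  obtain ⟨l, l1, p, p1, e3⟩ := R.exists_conj h (mul_mem (S.U_le_grp hu) (S.N_le_grp (S.nW_mem w)))
    (by simp [d1, hc, cast_ne_zero_of_sq hC]) h8
  refine R.fix_of_conj l1 (R.fix (R.mem_GS h (R.conj_mem l1 hy) ?_))
  have : l⁻¹ * y * l = p * S.x (w⁻¹ • β) (d'⁻¹ * c) * p⁻¹ := by
    rw [e, ← mul_inv_cancel_left₀ d3 c, ← d4, inv_mul_cancel_left₀ d3, eq_mul_inv_of_mul_eq e3]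
    group
  rw [this]
  refine PP_conj_Q p1 (S.x_mem (mem_Rk.mpr ?_) _)
  rw [← h.prθ, ← pr_smul_left, hw, h7, pr_smul_left, rW_inv, ← h7,
    pr_lin β (i := 1) (j := 1) (a := θ) (b := β) (by simpa using h4), h1, pr_self]
  norm_num

theorem cases_form {y : G} (hy : y ∈ M) (hl : S.LR y) : R.m.f y = y ∨ S.Opp θ y ∨
    ∃ u ∈ S.U, ∃ β c, LgR β ∧ co β k = 0 ∧ y = u * S.x β c * u⁻¹ := by
  obtain ⟨u, hu, β, c, h1, e⟩ := h.exists_form hl
  rcases lt_trichotomy (co β k) 0 with h2 | h2 | h2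
  · rcases (show co β k ≤ -1 by omega).lt_or_eq with h3 | h3
    · by_cases hc : c = 0
      · left; simp [e, hc]
      · exact Or.inr (Or.inl ⟨u, hu, c, hc, h.eq_ng h3 ▸ e⟩)
    · exact Or.inl (R.rat_neg h h3 h1 hu e hy)
  · exact Or.inr (Or.inr ⟨u, hu, β, c, h1, h2, e⟩)
  · exact Or.inl (R.fix (R.mem_GS h hy (e ▸ U_conj_Q hu (S.x_mem (mem_Rk.mpr h2) c))))

/-- elements of level zero are rational -/
def Z0 : Prop := ∀ β, co β k = 0 → LgR β → ∀ u ∈ S.U, ∀ c, u * S.x β c * u⁻¹ ∈ M →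
  R.m.f (u * S.x β c * u⁻¹) = u * S.x β c * u⁻¹

theorem z0_of_LN (hl : LN k θ) : R.Z0 := fun β h1 h2 u hu c hy => by
  by_cases hc : c = 0
  · simp [hc]
  obtain ⟨r, r1, r2, r3, r4⟩ := hl.z0 β h1 h2
  obtain ⟨m, C, hC, h3, h4⟩ := r3.exists
  have hr : r ∈ Rk k := mem_Rk.mpr (by omega)
  have hm : co m k = 1 := by rw [h4, Pi.add_apply, h1, r1, zero_add]
  have key : ¬ Commute (u * S.x β c * u⁻¹) (S.x r 1) := fun e => by
    have e1 : (S.x β c)⁻¹ * (u⁻¹ * S.x r 1 * u⁻¹⁻¹) * S.x β c = u⁻¹ * S.x r 1 * u⁻¹⁻¹ := by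
      calc _ = (S.x β c)⁻¹ * u⁻¹ * (S.x r 1 * (u * S.x β c * u⁻¹)) * u := by group
        _ = _ := by rw [← e.eq]; group
    have := cq_cj1 hm h1 c ⟨r1, h3⟩ (fun r' a1 a2 e he e2 => by
      obtain ⟨b1, b2, v, b3, b4⟩ := mem_commTerms he
      obtain rfl : v = m := Fin.ext (b3.symm.trans e2)
      have b5 := congrFun b4 k
      simp only [Pi.add_apply, Pi.smul_apply, smul_eq_mul, hm, h1] at b5
      have b6 : (e.2.2.2 : ℤ) = 1 := by nlinarith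
      have b7 := pr_lin β b4
      rw [pr_lin β (i := 1) (j := 1) (a := β) (b := r) (by simpa using h4), pr_self, r2, b6] at b7
      have b8 := h2.neg_le (s := r') fun e => by simp [e, h1] at a1
      have b9 : (e.2.2.1 : ℤ) = 1 := by omega
      rw [b6, b9, h4, one_smul, one_smul, add_right_inj] at b4
      exact a2 (co_inj b4).symm) (U_conj_Q (inv_mem hu) (S.x_mem hr 1))
    rw [e1, cq_U_conj r1 (inv_mem hu)] at this
    exact mul_ne_zero (cast_ne_zero_of_sq hC) hc (by linear_combination this)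
  have hQ : u * S.x β c * u⁻¹ ∈ S.PP k := mul_mem (mul_mem (U_le_PP hu)
    (Subgroup.mem_sup_left (S.x_mem (show 0 ≤ co β k from h1.ge) c))) (inv_mem (U_le_PP hu))
  have hL : S.LR (u * S.x β c * u⁻¹) := ⟨u, S.U_le_grp hu, β, c, h2, rfl⟩
  generalize u * S.x β c * u⁻¹ = y at *
  obtain ⟨w, rfl⟩ := h.exists_w r4
  obtain ⟨d, d1, d2, -⟩ := (S.mono_nW w).exists_conj θ
  have d3 := d2 d⁻¹
  rw [mul_inv_cancel₀ d1] at d3
  rcases R.cases_form h (R.conj_mem (nW_mem_GS w) hy) (hL.conj (S.N_le_grp (S.nW_mem w)))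
    with e | e | ⟨u', hu', β', c', -, b1, e⟩
  · exact R.fix_of_conj (nW_mem_GS w) e
  · refine absurd ?_ (h.opp_not_comm (h.opp_conj (h.opp_conj e (inv_ne_zero d1)) (inv_ne_zero d1))
      (inv_ne_zero d1))
    obtain ⟨e', he'⟩ := h.comm_Q (inv_mem (PP_conj_Q hQ (S.x_mem hr 1))) (S.x_mem hr 1)
    have h5 : Commute (S.x (w • θ) 1) (S.x (w • θ) 1 * S.x θ e') :=
      (Commute.refl _).mul_right (h.U_comm (Q_le_U (S.x_mem hr 1)) e')
    rw [← he', ← d3] at h5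
    have := (commute_conj_iff (m := S.nW w) (x := S.x θ d⁻¹)).mpr h5.symm
    convert this.symm using 1
    group
  · refine absurd ?_ key
    rw [← d3, ← commute_conj_iff, e]
    exact ((h.U_comm hu' _).mul_left (h.comm_θ b1.ge _ _).symm).mul_left (h.U_comm hu' _).inv_left

variable (hz : R.Z0)
include hz

theorem rat_or_opp {y : G} (hy : y ∈ M) (hl : S.LR y) : R.m.f y = y ∨ S.Opp θ y := by
  rcases R.cases_form h hy hl with e | e | ⟨u, hu, β, c, h1, h2, rfl⟩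
  · exact Or.inl e
  · exact Or.inr e
  · exact Or.inl (hz β h2 h1 u hu c hy)

theorem rat_of_comm {a : G} (ha : a ∈ S.grp) {β : Rt D} (hβ : LgR β) {c : F} (hc : c ≠ 0)
    (hf : R.m.f (a * S.x β c * a⁻¹) = a * S.x β c * a⁻¹) {y : G} (hy : y ∈ M) (hl : S.LR y)
    (e : Commute (a * S.x β c * a⁻¹) (y * (a * S.x β c * a⁻¹) * y⁻¹)) : R.m.f y = y := by
  obtain ⟨a, ha, c, hc', e1⟩ := h.exists_top ha hβ c
  rw [e1] at hf e
  obtain ⟨l, l1, p, p1, rfl⟩ := R.exists_conj h ha (hc' hc) hf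
  obtain ⟨c', e2⟩ := h.PP_conj_θ p1 c
  have h0 : c' ≠ 0 := fun e0 => hc' hc (S.x_inj (r := θ) (by
    rw [e0, S.x_zero, conj_eq_one_iff] at e2; rw [e2, S.x_zero]))
  rw [show l * p * S.x θ c * (l * p)⁻¹ = l * (p * S.x θ c * p⁻¹) * l⁻¹ by group, e2] at e
  refine R.fix_of_conj l1 ((R.rat_or_opp h hz (R.conj_mem l1 hy)
    (hl.conj (GS_le_grp l1))).resolve_right fun ho => h.opp_not_comm (h.opp_conj ho h0) h0 ?_)
  have := (commute_conj_iff (m := l) (x := S.x θ c')).mpr e.symm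
  convert this.symm using 1
  group

theorem finish {u : G} (hu : u ∈ S.grp) {μ : F} (hy : u * S.x (ng θ) μ * u⁻¹ ∈ M) {ρ : Rt D}
    (hρ : LgR ρ) {c : F} (hc : c ≠ 0) (hf : R.m.f (u * S.x ρ c * u⁻¹) = u * S.x ρ c * u⁻¹)
    (e : Commute (S.x ρ c) (S.x (ng θ) μ * S.x ρ c * (S.x (ng θ) μ)⁻¹)) :
    R.m.f (u * S.x (ng θ) μ * u⁻¹) = u * S.x (ng θ) μ * u⁻¹ := by
  refine R.rat_of_comm h hz hu hρ hc hf hy ⟨u, hu, ng θ, μ, by simpa using h.lg.smul (rW θ), rfl⟩ ?_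
  have := e.map (MulAut.conj u)
  simp only [MulAut.conj_apply] at this
  convert this using 1
  group

theorem all_fix (inj : ∀ y ∈ S.grp, S.θ y = 1 → y = 1)
    (hC : ∀ y ∈ M, S.Opp θ y → R.m.f y = y) {y : G} (hy : y ∈ M) : R.m.f y = y := by
  rw [← inv_mul_eq_one]
  refine h.cent_eq_one inj (L := R.L) (mul_mem (inv_mem (R.m.mem_grp (R.le hy))) (R.le hy))
    fun m hm => ?_
  have h1 : m * S.x θ 1 * m⁻¹ ∈ S.GS R.L :=
    mul_mem (mul_mem hm (x_mem_GS _ (Subfield.one_mem _))) (inv_mem hm)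
  have h2 : y * (m * S.x θ 1 * m⁻¹) * y⁻¹ ∈ M := mul_mem (mul_mem hy (R.gs h1)) (inv_mem hy)
  have h4 := (R.rat_or_opp h hz h2 ⟨y * m, mul_mem (R.le hy) (GS_le_grp hm), θ, 1, h.lg,
    by group⟩).elim id (hC _ h2)
  rw [map_mul, map_mul, map_inv, R.fix h1] at h4
  generalize m * S.x θ 1 * m⁻¹ = x at *
  calc (R.m.f y)⁻¹ * y * x = (R.m.f y)⁻¹ * (y * x * y⁻¹) * y := by group
    _ = _ := by rw [← h4]; group

end RC
end Cfsg.Agent.Chev
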