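import Mathlib
import Cfsg.Agent.Chev.MxU3

/-! Rationality of the long root elements opposite to the highest root. -/

set_option autoImplicit false
set_option linter.unusedSectionVars false
set_option maxHeartbeats 400000

namespace Cfsg.Agent.Chev
open Cfsg.Lie Cfsg.Agent.BN StSys

variable {D : ChevalleyDatum} [g : Good2 D] {F : Type*} [Field F] {G : Type*} [Group G]

theorem set_pair (a b : Rt D) : {r | r ∈ [a, b]} = ({a, b} : Set (Rt D)) := by ext; simp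

theorem mem_l1 {a b : Rt D} : a ∈ {r | r ∈ [a, b]} := List.mem_cons_self
theorem mem_l2 {a b : Rt D} : b ∈ {r | r ∈ [a, b]} := List.mem_cons_of_mem _ List.mem_cons_self

theorem commute_pair {S : StSys D F G} {a b r : Rt D} (h1 : ∀ t u, Commute (S.x a t) (S.x r u))
    (h2 : ∀ t u, Commute (S.x b t) (S.x r u)) {y : G} (hy : y ∈ S.XS {s | s ∈ [a, b]}) (t : F) :
    Commute y (S.x r t) := by
  induction hy using S.XS_ind with
  | h1 => exact Commute.one_left _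
  | hs s hs u y _ ih => exact Commute.mul_left ((List.mem_pair.mp hs).elim (· ▸ h1 u t) (· ▸ h2 u t)) ih

theorem LN.comm_sim {k : Ix D} {θ : Rt D} (hl : LN k θ) (S : StSys D F G) (c μ : F) :
    Commute (S.x (sim k) c) (S.x (ng θ) μ * S.x (sim k) c * (S.x (ng θ) μ)⁻¹) :=
  (commute_pair (S.x_comm_self _) (fun t u => (S.commute_nil hl.c11 u t).symm)
    (hl.ct1.conj (S.x_mem mem_l2 μ) (S.x_mem mem_l1 c)) c).symm

namespace RC
variable {S : StSys D F G} {k : Ix D} {θ : Rt D} {M : Subgroup G} (R : RC S k θ M) (h : UD k θ)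
  (hz : R.Z0) (h3 : S.R3)
include h

theorem conj_θ {u : G} (hu : u ∈ S.XS (Rk k)) (t : F) : u * S.x θ t * u⁻¹ = S.x θ t := by
  rw [(h.U_comm (Q_le_U hu) t).eq, mul_inv_cancel_right]

include hz h3

theorem opp_odd (p : ℕ) [Fact p.Prime] [CharP F p] (hp : p ≠ 2)
    (hE : ∀ μ, IsOfFinOrder (S.x θ 1 * S.x (ng θ) μ) → ∃ E : Subfield F, Finite E ∧ μ ∈ E)
    (hf : ∀ y ∈ M, IsOfFinOrder y) {ρ : Rt D} (h1 : LgR ρ) (h2 : 0 ≤ co ρ k)
    (h4 : ∀ μ, Commute (S.x ρ 1) (S.x (ng θ) μ * S.x ρ 1 * (S.x (ng θ) μ)⁻¹)) {y : G} (hy : y ∈ M)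
    (ho : S.Opp θ y) : R.m.f y = y := by
  obtain ⟨u, hu, μ, h0, rfl⟩ := h.opp_Q ho
  have a1 : MulAut.conj u (S.x θ 1) ∈ M := by
    rw [MulAut.conj_apply, conj_θ h hu]; exact R.x_one θ
  obtain ⟨E, _, hE⟩ := hE μ (((MulAut.conj u).injective.isOfFinOrder_iff
    (f := (MulAut.conj u).toMonoidHom)).mp (hf _ (by rw [map_mul]; exact mul_mem a1 hy)))
  have a2 : u * S.h θ (-1) * u⁻¹ ∈ M := h3.h_neg_mem p hp θ E hE h0
    (K := M.comap (MulAut.conj u).toMonoidHom) a1 hy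
  have a3 : S.h θ (-1) ∈ S.GS R.L := h_mem_GS θ (neg_mem (one_mem _))
  have a4 : ∀ r, co r k = 1 → S.cq r u ∈ R.L := fun r hr => by
    obtain ⟨b1, b2⟩ := cq_mono hr (w := 1) (by simp) (S.mono_h θ (t := -1) (by simp)) (c := -1)
      (fun t => by rw [S.h_conj θ (by simp), h.prθ, hr, zpow_one, one_smul]) (inv_mem hu)
    have b3 := R.hcq _ (mul_mem a2 (inv_mem (R.gs a3))) (by
      simpa only [mul_assoc] using mul_mem hu b1) r hr
    rw [show u * S.h θ (-1) * u⁻¹ * (S.h θ (-1))⁻¹ = u * (S.h θ (-1) * u⁻¹ * (S.h θ (-1))⁻¹) by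
      group, cq_mul hr hu b1, ← one_smul (W D) r, b2, one_smul, cq_inv hr hu] at b3
    have b4 : (2 : F) ≠ 0 := Classical.SL2Basic.two_ne_zero_of_char hp
    convert mul_mem (inv_mem (ofNat_mem R.L 2)) b3 using 1
    field_simp; ring
  obtain ⟨z, z1, -, c, rfl⟩ := h.split_Q hu a4
  refine R.finish h hz (S.XS_le_grp _ hu) hy h1 one_ne_zero (R.fix ?_) (h4 μ)
  rw [mul_assoc z, (h.comm_θ h2 c 1).eq, mul_inv_rev, ← mul_assoc, ← mul_assoc,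
    mul_inv_cancel_right]
  exact mul_mem (mul_mem z1 (x_mem_GS _ (one_mem _))) (inv_mem z1)

theorem opp_two [CharP F 2] (hl : LN k θ) (hf : ∀ y ∈ M, IsOfFinOrder y) {y : G} (hy : y ∈ M)
    (ho : S.Opp θ y) : R.m.f y = y := by
  obtain ⟨u, hu, μ, h0, rfl⟩ := h.opp_Q ho
  have hk : co (sim k : Rt D) k = 1 := by simp
  have lv : ∀ {r : Rt D}, co r k = 1 → r ∈ Rk k := fun hr => mem_Rk.mpr (by omega)
  have hθ : θ ∈ Rk k := mem_Rk.mpr (by rw [h.lev]; exact two_pos)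
  let K := M.comap (MulAut.conj u).toMonoidHom
  have mK : ∀ {a}, a ∈ K ↔ u * a * u⁻¹ ∈ M := Iff.rfl
  have fK : ∀ a ∈ K, IsOfFinOrder a := fun a ha => ((MulAut.conj u).injective.isOfFinOrder_iff
    (f := (MulAut.conj u).toMonoidHom)).mp (hf _ ha)
  have aK : ∀ r, co r k = 1 → ∃ b, u⁻¹ * S.x r 1 * u = S.x r 1 * S.x θ b ∧
      S.x r 1 * S.x θ b ∈ K := fun r hr => by
    obtain ⟨b, hb⟩ := h.comm_Q hu (S.x_mem (lv hr) 1)
    exact ⟨b, hb, mK.mpr (by simpa [← hb, mul_assoc] using R.x_one r)⟩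
  obtain ⟨b, e1, x1⟩ := aK _ hk
  suffices hb : b ∈ R.L by
    refine R.finish h hz (S.XS_le_grp _ hu) hy hl.lg1 one_ne_zero (R.fix ?_) (hl.comm_sim S 1 μ)
    have : u * S.x (sim k) 1 * u⁻¹ = S.x (sim k) 1 * (S.x θ b)⁻¹ := by
      rw [eq_mul_inv_iff_mul_eq, ← conj_θ h hu b]
      calc _ = u * (S.x (sim k) 1 * S.x θ b) * u⁻¹ := by group
        _ = _ := by rw [← e1]; group
    exact this ▸ mul_mem (x_mem_GS _ (one_mem _)) (inv_mem (x_mem_GS _ hb))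
  by_cases b0 : b = 0
  · exact b0 ▸ zero_mem _
  have y1 : S.x (ng θ) μ ∈ K := hy
  have t1 : S.x θ 1 ∈ K := mK.mpr (by rw [conj_θ h hu]; exact R.x_one θ)
  obtain ⟨C, hC, c1⟩ := hl.one
  have c2 : (C : F) = 1 := by
    rcases List.mem_pair.mp hC with rfl | rfl <;> simp [CharTwo.neg_eq]
  have c3 := S.comm_of c1 b⁻¹ b
  rw [List.map_singleton, wd_one, c2, CharTwo.neg_eq, pow_one, pow_one, one_mul,
    inv_mul_cancel₀ b0, mul_assoc, (h.comm_θ (β := sim k) (by omega) _ _).eq, ← inv_mul_eq_iff_eq_mul,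
    ← mul_assoc] at c3
  have c4 := S.commute_nil hl.c1θ b⁻¹ μ
  have r0 : S.x (ng (rf k θ)) b⁻¹ ∈ S.XS {r | r ∈ [sim k, ng (rf k θ)]} := S.x_mem mem_l2 _
  generalize S.x (ng (rf k θ)) b⁻¹ = ρ at c3 c4 r0
  have c5 : S.x (sim k) 1 * S.x θ b * S.x (ng θ) μ = ρ⁻¹ * (S.x θ b * S.x (ng θ) μ) * ρ⁻¹⁻¹ := by
    rw [← c3, mul_assoc _ ρ, c4.eq]; group
  have c6 := mul_mem x1 y1
  obtain ⟨k2, s2⟩ := h3.exists_swap θ b0 h0 (((MulAut.conj ρ⁻¹).injective.isOfFinOrder_iff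
    (f := (MulAut.conj ρ⁻¹).toMonoidHom)).mp (c5 ▸ fK _ c6 :))
  obtain ⟨k1, s1⟩ := h3.exists_swap θ one_ne_zero h0 (fK _ (mul_mem t1 y1))
  have m1 := pow_mem (mul_mem t1 y1) k1
  have m2 := pow_mem c6 k2
  rw [c5, conj_pow] at m2
  have n : ∀ t (j : ℕ), (S.x θ t * S.x (ng θ) μ) ^ j ∈ S.XS {θ, ng θ} := fun t j =>
    pow_mem (mul_mem (S.x_mem (by simp) _) (S.x_mem (by simp) _)) j
  have n1 := n 1 k1
  have n2 := n b k2
  generalize (S.x θ 1 * S.x (ng θ) μ) ^ k1 = g1 at *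
  generalize (S.x θ b * S.x (ng θ) μ) ^ k2 = g2 at *
  obtain ⟨e, l, l0, e2, e3⟩ := h3.of_conj θ (mul_mem (inv_mem n2) n1) one_ne_zero (t' := b) (by
    calc _ = g2⁻¹ * (g1 * S.x θ 1 * g1⁻¹) * g2 := by group
      _ = _ := by rw [s1, ← s2]; group)
  have r1 := mul_mem (inv_mem r0) (hl.ct1.conj (set_pair θ (ng θ) ▸ inv_mem n2) r0)
  obtain ⟨r, d1, d2, d3⟩ := hl.r2
  obtain ⟨b', -, x2⟩ := aK r d1
  have m3 := mul_mem (inv_mem m2) m1
  have m4 := mK.mp (mul_mem (mul_mem m3 x2) (inv_mem m3))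
  have e4 : (ρ⁻¹ * g2 * ρ⁻¹⁻¹)⁻¹ * g1 = ρ⁻¹ * (g2⁻¹ * ρ * g2⁻¹⁻¹) * (g2⁻¹ * g1) := by group
  rw [e4, e2] at m4
  generalize ρ⁻¹ * (g2⁻¹ * ρ * g2⁻¹⁻¹) = σ at r1 m4
  have f1 := commute_pair (S.commute_nil d2) (S.commute_nil d3) r1 l
  have f2 := hl.ct2.conj r1 (S.x_mem mem_l1 (l ^ pr θ θ * b'))
  have f3 : {r | r ∈ [θ, sim k]} ⊆ Rk k := fun a ha =>
    (List.mem_pair.mp ha).elim (· ▸ hθ) (· ▸ lv hk)
  have f4 : σ * (S.x θ e * S.h θ l) * (S.x r 1 * S.x θ b') * (σ * (S.x θ e * S.h θ l))⁻¹ =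
      S.x r l * (σ * S.x θ (l ^ pr θ θ * b') * σ⁻¹) := by
    calc _ = σ * (S.x θ e * ((S.h θ l * S.x r 1 * (S.h θ l)⁻¹) *
          (S.h θ l * S.x θ b' * (S.h θ l)⁻¹)) * (S.x θ e)⁻¹) * σ⁻¹ := by group
      _ = _ := by
        rw [S.h_conj θ l0, S.h_conj θ l0, h.prθ r, d1, zpow_one, mul_one,
          ((h.comm_θ (by omega) e l).mul_right (S.x_comm_self θ e _)).eq, mul_inv_cancel_right,
          ← mul_assoc, ← mul_assoc, ← mul_assoc, f1.eq]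
  have f5 := mul_mem (S.x_mem (lv d1) l) (S.XS_mono f3 f2)
  rw [f4] at m4
  have f6 := R.hcq _ m4 (U_conj_Q (Q_le_U hu) f5) r d1
  rw [cq_Q_conj d1 hu f5, cq_mul d1 (S.x_mem (lv d1) l) (S.XS_mono f3 f2), cq_x, if_pos rfl,
    cq_eq_zero d1 f3 (fun e => by
      rcases List.mem_pair.mp e with e | e
      · rw [e, h.lev] at d1; omega
      · exact d2.1 e) f2, add_zero] at f6
  rw [e3, mul_one]
  exact mul_mem f6 f6

end RC
end Cfsg.Agent.Chev
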