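import Mathlib
import Cfsg.Agent.Chev.MxU4

/-! The field of definition of a finite overgroup. -/

set_option autoImplicit false
set_option linter.unusedSectionVars false
set_option maxHeartbeats 400000

namespace Cfsg.Agent.Chev
open Cfsg.Lie Cfsg.Agent.BN StSys

variable {D : ChevalleyDatum} [g : Good2 D] {F : Type*} [Field F] {G : Type*} [Group G]

theorem surj_of_inj {B : Set F} (hf : B.Finite) {f : F → F} (h1 : ∀ a ∈ B, f a ∈ B)
    (h2 : Function.Injective f) {b : F} (hb : b ∈ B) : ∃ a ∈ B, f a = b :=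
  (hf.injOn_iff_bijOn_of_mapsTo h1).mp h2.injOn |>.surjOn hb

theorem exists_subfield (B : AddSubgroup F) (hf : (B : Set F).Finite) (h1 : 1 ∈ B)
    (hm : ∀ a ∈ B, ∀ b ∈ B, a * b ∈ B) : ∃ L : Subfield F, ∀ t, t ∈ L ↔ t ∈ B :=
  ⟨{ B with
    one_mem' := h1
    mul_mem' := fun ha hb => hm _ ha _ hb
    inv_mem' := fun a ha => by
      by_cases h0 : a = 0
      · rw [h0, inv_zero]; exact zero_mem B
      obtain ⟨b, hb, e⟩ := surj_of_inj hf (hm a ha) (mul_right_injective₀ h0) h1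
      exact inv_eq_of_mul_eq_one_right e ▸ hb }, fun _ => Iff.rfl⟩

theorem mem_of_pow_char (p : ℕ) [Fact p.Prime] [CharP F p] {L : Subfield F} [Finite L] {t : F}
    (h : t ^ p ∈ L) : t ∈ L := by
  obtain ⟨a, ha, e⟩ := surj_of_inj (Set.toFinite (L : Set F)) (f := frobenius F p)
    (fun a ha => pow_mem ha p) (frobenius F p).injective h
  exact (frobenius F p).injective e ▸ ha

theorem mem_iff_pow_card (L : Subfield F) [Finite L] (t : F) : t ∈ L ↔ t ^ Nat.card L = t := by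
  classical
  haveI := Fintype.ofFinite L
  rw [Nat.card_eq_fintype_card]
  have h1 : ∀ t ∈ L, t ^ Fintype.card L = t := fun t ht =>
    congrArg Subtype.val (FiniteField.pow_card (⟨t, ht⟩ : L))
  refine ⟨h1 t, fun h => ?_⟩
  have h0 := FiniteField.X_pow_card_sub_X_ne_zero F (Fintype.one_lt_card (α := L))
  have h2 : ∀ t, t ∈ (Polynomial.X ^ Fintype.card L - Polynomial.X : Polynomial F).roots.toFinset ↔
      t ^ Fintype.card L = t := fun t => by simp [h0, sub_eq_zero]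
  have h3 := Finset.eq_of_subset_of_card_le (s := (L : Set F).toFinset)
    (fun t ht => (h2 t).mpr (h1 t (by simpa using ht))) (by
      refine (Multiset.toFinset_card_le _).trans ((Polynomial.card_roots' _).trans ?_)
      rw [FiniteField.X_pow_card_sub_X_natDegree_eq F Fintype.one_lt_card, Set.toFinset_card]
      rfl)
  have := (h2 t).mpr h
  rw [← h3] at this
  simpa using this

namespace StSys
variable (S : StSys D F G) (M : Subgroup G)

/-- the parameters of the root elements in a subgroup -/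
def As (r : Rt D) : AddSubgroup F where
  carrier := {t | S.x r t ∈ M}
  zero_mem' := by simp [S.x_zero]
  add_mem' := fun ha hb => by simpa [S.add] using mul_mem ha hb
  neg_mem' := fun ha => by simpa [S.x_neg] using ha

variable {S M}
theorem mem_As {r : Rt D} {t : F} : t ∈ S.As M r ↔ S.x r t ∈ M := Iff.rfl

theorem As_finite [Finite M] (r : Rt D) : (S.As M r : Set F).Finite :=
  Set.Finite.of_injOn (f := S.x r) (t := M) (fun _ h => h) (fun _ _ _ _ e => S.x_inj e) M.carrier.toFinite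

theorem mem_sign {B : AddSubgroup F} {c t : F} (hc : c = 1 ∨ c = -1) : c * t ∈ B ↔ t ∈ B := by
  rcases hc with rfl | rfl <;> simp

theorem mem_sign' {B : AddSubgroup F} {C : ℤ} {t : F} (hc : C ∈ [(1 : ℤ), -1]) :
    C * t ∈ B ↔ t ∈ B := by
  rcases List.mem_pair.mp hc with rfl | rfl <;> simp

variable (hM : S.GS ⊥ ≤ M)
include hM

theorem one_mem_As (r : Rt D) : S.x r 1 ∈ M := hM (x_mem_GS r (one_mem _))

theorem conj_nW (w : W D) {y : G} : S.nW w * y * (S.nW w)⁻¹ ∈ M ↔ y ∈ M := by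
  rw [M.mul_mem_cancel_right (inv_mem (hM (nW_mem_GS w))), M.mul_mem_cancel_left (hM (nW_mem_GS w))]

theorem As_smul (w : W D) (r : Rt D) : S.As M (w • r) = S.As M r := by
  obtain ⟨c, hc, h⟩ := nW_conj (S := S) w r
  ext t
  rw [← mem_sign hc, mem_As, ← h, conj_nW hM, mem_As]

omit hM in
theorem comm_mem_of {r s : Rt D} {l : List (ℕ × ℤ × ℕ × ℕ)}
    (h : s ≠ r ∧ s ≠ ng r ∧ D.commTerms r s = l) {t u : F} (h1 : S.x r t ∈ M) (h2 : S.x s u ∈ M) :
    wd S.x (l.map fun c => (c.1, (c.2.1 : F) * (-t) ^ c.2.2.1 * u ^ c.2.2.2)) ∈ M := by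
  have := mul_mem (inv_mem (mul_mem h1 h2)) (mul_mem h2 h1)
  rwa [S.comm_of h, inv_mul_cancel_left] at this

end StSys

/-- the pairing on the first level -/
def PC (k : Ix D) (θ : Rt D) (c : ℤ) : Prop := ∀ r, co r k = 1 → ∃ r', co r' k = 1 ∧ r' ≠ r ∧
  ∃ C ∈ [(1 : ℤ), -1], D.commTerms r r' = [((θ : ℕ), C, 1, 1)] ∨
    D.commTerms r r' = [((θ : ℕ), C * c, 1, 1)] ∧ ¬ LgR r

instance instDecPC (k : Ix D) (θ : Rt D) (c : ℤ) : Decidable (PC k θ c) := by
  unfold PC; infer_instance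

namespace UD
variable {k : Ix D} {θ : Rt D} (h : UD k θ) {S : StSys D F G} {M : Subgroup G}
include h

theorem θ_mem : θ ∈ Rk k := mem_Rk.mpr (by rw [h.lev]; exact two_pos)

theorem mem_of_cq {K : Subgroup G} (hθ : ∀ c, S.x θ c ∈ K) {z : G} (hz : z ∈ S.XS (Rk k))
    (hK : ∀ r, co r k = 1 → S.x r (S.cq r z) ∈ K) : z ∈ K := by
  obtain ⟨l, h1, h2⟩ := exists_list {r : Rt D | co r k = 1}
  have h3 : ∀ r ∈ l, r ∈ Rk k := fun r hr => mem_Rk.mpr (by rw [(h2 r).mp hr]; exact one_pos)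
  have h4 := S.prd_mem' (fun r => S.cq r z) h3
  obtain ⟨c, hc⟩ := top_of_cq h.lev2 (mul_mem (inv_mem h4) hz) fun m hm => by
    rw [cq_mul hm (inv_mem h4) hz, cq_inv hm h4, cq_prd hm h1 h3, if_pos ((h2 m).mpr hm),
      neg_add_cancel]
  rw [inv_mul_eq_iff_eq_mul.mp hc]
  refine mul_mem (list_prod_mem fun a ha => ?_) (hθ c)
  obtain ⟨r, hr, rfl⟩ := List.mem_map.mp ha
  exact hK r ((h2 r).mp hr)

theorem pair {r r' : Rt D} {C : ℤ} (hr : co r k = 1) (hr' : co r' k = 1) (hn : r' ≠ r)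
    (hc : D.commTerms r r' = [((θ : ℕ), C, 1, 1)]) {z : G} (hz : z ∈ S.XS (Rk k)) :
    S.x r' 1 * z * (S.x r' 1)⁻¹ = z * S.x θ (-(C * S.cq r z)) := by
  have h0 : r' ∈ Rk k := mem_Rk.mpr (by omega)
  induction hz using S.XS_ind with
  | h1 => simp [S.x_zero]
  | hs s hs t z hz ih =>
    have e : S.x r' 1 * S.x s t * (S.x r' 1)⁻¹ = S.x s t * S.x θ (-(C * S.cq r (S.x s t))) := by
      rw [cq_x]
      split_ifs with e
      · rw [e, S.comm_of ⟨hn, fun e => by simp [e, hr] at hr', hc⟩, List.map_singleton, wd_one,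
          mul_assoc (S.x r t), ← (h.comm_θ (by omega) _ 1).eq, ← mul_assoc, mul_inv_cancel_right]
        simp
      · have h1 := mem_Rk.mp hs
        rw [S.commute_of (fun e => by simp [e, hr'] at h1) (fun v i j hi hj e1 => ?_)]
        · simp [S.x_zero]
        obtain ⟨-, -, v', b1, b2⟩ := mem_commTerms (hc ▸ List.mem_singleton_self _)
        obtain rfl : θ = v' := Fin.ext b1
        have h2 := congrFun e1 k
        simp only [Pi.add_apply, Pi.smul_apply, smul_eq_mul, hr'] at h2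
        have h3 := h.lev2 v (by nlinarith)
        rw [h3, h.lev] at h2
        obtain rfl : i = 1 := by nlinarith
        obtain rfl : j = 1 := by nlinarith
        rw [h3, b2] at e1
        simp only [Nat.cast_one, one_smul, add_comm (co r'), add_left_inj] at e1
        exact e (co_inj e1.symm)
    rw [show S.x r' 1 * (S.x s t * z) * (S.x r' 1)⁻¹ = S.x r' 1 * S.x s t * (S.x r' 1)⁻¹ *
      (S.x r' 1 * z * (S.x r' 1)⁻¹) by group, e, ih, cq_mul hr (S.x_mem hs t) hz, mul_add, neg_add,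
      S.add, mul_assoc, mul_assoc, ← mul_assoc _ z, ← (h.U_comm (Q_le_U hz) _).eq, mul_assoc]

variable (hM : S.GS ⊥ ≤ M) {L : Subfield F} (hL : ∀ t, t ∈ L ↔ t ∈ S.As M θ)
include hM

theorem As_lg {r : Rt D} (hr : LgR r) : S.As M r = S.As M θ := by
  obtain ⟨w, rfl⟩ := h.exists_w hr
  exact As_smul hM w θ

theorem mul_of_LN (hl : LN k θ) (a : F) (ha : a ∈ S.As M θ) (b : F) (hb : b ∈ S.As M θ) :
    a * b ∈ S.As M θ := by
  obtain ⟨C, hC, c1⟩ := hl.pair
  have := comm_mem_of c1 (h.As_lg hM hl.lg1 ▸ neg_mem ha :) (As_smul hM (sW k) θ ▸ hb :)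
  rw [List.map_singleton, wd_one, neg_neg, pow_one, pow_one, mul_assoc] at this
  exact (mem_sign' hC).mp this

include hL

theorem GS_le_M : S.GS L ≤ M := GS_le.mpr fun r t ht => by
  obtain ⟨w, hw⟩ := exists_dom r
  rw [← mem_As, ← As_smul hM w]
  rcases h.dom _ hw with e | ⟨e, -⟩
  · rw [e]; exact (hL t).mp ht
  by_cases h0 : t = 0
  · exact h0 ▸ zero_mem _
  have h1 : ∀ s ∈ L, S.n θ s ∈ M := fun s hs => mul_mem (mul_mem ((hL s).mp hs) (by
    rw [← mem_As, ← rW_smul_self, As_smul hM, ← hL]; exact neg_mem (inv_mem hs))) ((hL s).mp hs)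
  have h2 : S.h θ t ∈ M := mul_mem (h1 t ht) (h1 _ (neg_mem (one_mem _)))
  have := mul_mem (mul_mem h2 (one_mem_As hM (w • r))) (inv_mem h2)
  rwa [S.h_conj θ h0, h.prθ, e, zpow_one, mul_one] at this

theorem cq_mem {c : ℤ} (hP : PC k θ c) {r : Rt D} (hr : co r k = 1) (hc : LgR r ∨ (c : F) ≠ 0)
    {z : G} (hz : z ∈ M) (hQ : z ∈ S.XS (Rk k)) : S.cq r z ∈ L := by
  obtain ⟨r', h1, h2, C, hC, h3⟩ := hP r hr
  have key : ∀ C : ℤ, D.commTerms r r' = [((θ : ℕ), C, 1, 1)] → C * S.cq r z ∈ S.As M θ :=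
    fun C e => by
      have := mul_mem (inv_mem hz) (mul_mem (mul_mem (one_mem_As hM r') hz)
        (inv_mem (one_mem_As hM r')))
      rw [h.pair hr h1 h2 e hQ, inv_mul_cancel_left] at this
      exact neg_mem_iff.mp (mem_As.mpr this)
  rcases h3 with e | ⟨e, h4⟩
  · exact (hL _).mpr ((mem_sign' hC).mp (key _ e))
  have := key _ e
  rw [Int.cast_mul, mul_assoc, mem_sign' hC, ← hL] at this
  simpa [hc.resolve_left h4] using mul_mem (inv_mem (intCast_mem L c)) this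

theorem iso (p : ℕ) [CharP F p] {c : ℤ} (hP : PC k θ c) {s γ : Rt D} (hs : co s k = 1)
    (hn : ¬ LgR s) (hγ : co γ k = 0)
    (hc : ∀ r, co r k = 1 → r ≠ s → LgR r ∨ commP D p γ r = true) {z : G} (hz : z ∈ M)
    (hQ : z ∈ S.XS (Rk k)) :
    (S.x γ 1 * S.x s (S.cq s z))⁻¹ * (S.x s (S.cq s z) * S.x γ 1) ∈ M := by
  obtain ⟨l, h1, h2⟩ := exists_list {r : Rt D | co r k = 1 ∧ LgR r}
  have h3 : ∀ r ∈ l, r ∈ Rk k := fun r hr => mem_Rk.mpr (by rw [((h2 r).mp hr).1]; exact one_pos)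
  have h4 := S.prd_mem' (fun r => S.cq r z) h3
  have h5 := mul_mem (inv_mem (h.GS_le_M hM hL (prd_mem_GS fun r hr =>
    h.cq_mem hM hL hP ((h2 r).mp hr).1 (Or.inl ((h2 r).mp hr).2) hz hQ))) hz
  have h6 := mul_mem (inv_mem h4) hQ
  have h7 := inv_mem (S.x_mem (mem_Rk.mpr (by omega : 0 < co s k)) (S.cq s z))
  have h8 := h.mem_of_cq (K := Subgroup.centralizer {S.x γ 1}) (fun c =>
    Subgroup.mem_centralizer_singleton_iff.mpr (h.comm_θ hγ.ge c 1)) (mul_mem h6 h7) fun r hr => by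
    rw [cq_mul hr h6 h7, cq_mul hr (inv_mem h4) hQ, cq_inv hr h4, cq_prd hr h1 h3, ← S.x_neg, cq_x]
    by_cases e : s = r
    · rw [if_pos e, if_neg fun e1 => hn (e ▸ ((h2 r).mp e1).2), e]; simp [S.x_zero]
    rcases hc r hr (Ne.symm e) with e1 | e1
    · rw [if_neg e, if_pos ((h2 r).mpr ⟨hr, e1⟩)]; simp [S.x_zero]
    · exact Subgroup.mem_centralizer_singleton_iff.mpr (S.commuteP p e1 _ _).symm
  have h9 := Subgroup.mem_centralizer_singleton_iff.mp h8
  have := mul_mem (inv_mem (mul_mem (one_mem_As hM γ) h5)) (mul_mem h5 (one_mem_As hM γ))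
  generalize (S.prd l fun r => S.cq r z)⁻¹ * z = y at this h9
  convert this using 1
  calc _ = (S.x γ 1 * y)⁻¹ * (S.x γ 1 * (y * (S.x s (S.cq s z))⁻¹)) * (S.x γ 1)⁻¹ *
      (S.x s (S.cq s z) * S.x γ 1) := by group
    _ = _ := by rw [← h9]; group

theorem exc_two [CharP F 2] [Finite L] {m ρ : Rt D} (hm : co m k = 1) (h1 : pr ρ m = 0)
    (h2 : pr ρ θ = 1) (h3 : co ρ k = 1) {c : ℤ} (hP : PC k θ c) {a b : F}
    (hz : S.x m a * S.x θ b ∈ M) : b ∈ L := by
  obtain ⟨c1, -, e1⟩ := nW_conj (S := S) (rW ρ) m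
  obtain ⟨c2, e2, e3⟩ := nW_conj (S := S) (rW ρ) θ
  have e4 : rW ρ • m = m := co_inj (by rw [co_rW, h1, zero_smul, sub_zero])
  have e5 : co (rW ρ • θ) k = 1 := by rw [co_rW, h2, one_smul, Pi.sub_apply, h.lev, h3]; rfl
  have a1 := (conj_nW hM (rW ρ)).mpr hz
  rw [← conj_mul, e1, e3, e4] at a1
  have a2 := S.x_mem (mem_Rk.mpr (by omega : 0 < co m k)) (c1 * a)
  have a3 := S.x_mem (mem_Rk.mpr (by omega : 0 < co (rW ρ • θ) k)) (c2 * b)
  have := h.cq_mem hM hL hP e5 (Or.inl (h.lg.smul _)) a1 (mul_mem a2 a3)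
  rw [cq_mul e5 a2 a3, cq_x, cq_x, if_pos rfl, if_neg fun e => by
    rw [← e4, smul_left_cancel_iff] at e; rw [e, h.lev] at hm; omega, zero_add, hL,
    mem_sign e2] at this
  exact (hL b).mpr this

end UD
end Cfsg.Agent.Chev
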