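import Mathlib
import Cfsg.Agent.Chev.MxU5
import Cfsg.Agent.Chev.TwG2

/-! Finite overgroups of a Chevalley group over the prime field. -/

set_option autoImplicit false
set_option linter.unusedSectionVars false
set_option maxHeartbeats 400000
set_option maxRecDepth 100000

namespace Cfsg.Agent.Chev
open Cfsg.Lie Cfsg.Agent.BN StSys

section
variable {D : ChevalleyDatum} [g : Good2 D] {F : Type*} [Field F] {G : Type*} [Group G]

/-- a finite subgroup containing the group over the prime field -/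
structure OV (S : StSys D F G) (M : Subgroup G) : Prop where
  h3 : S.R3
  inj : ∀ y ∈ S.grp, S.θ y = 1 → y = 1
  hE : ∀ r μ, IsOfFinOrder (S.x r 1 * S.x (ng r) μ) → ∃ E : Subfield F, Finite E ∧ μ ∈ E
  fin : Finite M
  le : M ≤ S.grp
  bot : S.GS ⊥ ≤ M

/-- the subgroup lies between the group over a subfield and the rational points -/
def Btw (S : StSys D F G) (M : Subgroup G) : Prop :=
  ∃ L : Subfield F, Finite L ∧ (∃ θ, ∀ t, S.x θ t ∈ M → t ∈ L) ∧ S.GS L ≤ M ∧
    ∀ (m : Mor S S (Sym.one D)) (ψ : F →+* F), (∀ r t, m.φ r t = ψ t) → (∀ t, t ∈ L ↔ ψ t = t) →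
      ∀ y ∈ M, m.f y = y

variable {S : StSys D F G} {M : Subgroup G} {k : Ix D} {θ : Rt D}

theorem OV.ord (O : OV S M) (y : G) (hy : y ∈ M) : IsOfFinOrder y := by
  haveI := O.fin
  exact (M.subtype_injective.isOfFinOrder_iff (x := ⟨y, hy⟩)).mpr (isOfFinOrder_of_finite _)

theorem OV.fin_L (O : OV S M) {L : Subfield F} (hL : ∀ t, t ∈ L ↔ t ∈ S.As M θ) : Finite L := by
  haveI := O.fin
  exact (As_finite (S := S) (M := M) θ).subset fun t ht => (hL t).mp ht

theorem OV.btw (O : OV S M) (h : UD k θ) {L : Subfield F} (hL : ∀ t, t ∈ L ↔ t ∈ S.As M θ)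
    (hq : ∀ z ∈ M, z ∈ S.XS (Rk k) → ∀ r, co r k = 1 → S.cq r z ∈ L)
    (hz : ∀ R : RC S k θ M, R.Z0)
    (ho : ∀ R : RC S k θ M, ∀ y ∈ M, S.Opp θ y → R.m.f y = y) : Btw S M :=
  ⟨L, O.fin_L hL, ⟨θ, fun t ht => (hL t).mpr ht⟩, h.GS_le_M O.bot hL, fun m ψ h1 h2 _ hy =>
    let R : RC S k θ M := ⟨m, ψ, h1, L, h2, O.le, h.GS_le_M O.bot hL, fun t ht => (hL t).mpr ht, hq⟩
    R.all_fix h (hz R) O.inj (ho R) hy⟩

theorem OV.btw_LN (O : OV S M) (p : ℕ) [Fact p.Prime] [CharP F p] (h : UD k θ) (hl : LN k θ) {c : ℤ}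
    (hP : PC k θ c) (he : (c : F) = 0 → ∀ L : Subfield F, (∀ t, t ∈ L ↔ t ∈ S.As M θ) →
      ∀ z ∈ M, z ∈ S.XS (Rk k) → ∀ r, co r k = 1 → ¬ LgR r → S.cq r z ∈ L) : Btw S M := by
  haveI := O.fin
  obtain ⟨L, hL⟩ := exists_subfield _ (As_finite θ) (one_mem_As O.bot θ) (h.mul_of_LN O.bot hl)
  refine O.btw h hL (fun z hz hQ r hr => ?_) (fun R => R.z0_of_LN h hl) fun R y hy ho => ?_
  · by_cases e : LgR r ∨ (c : F) ≠ 0
    · exact h.cq_mem O.bot hL hP hr e hz hQ
    · push Not at e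
      exact he e.2 L hL z hz hQ r hr e.1
  · by_cases e : p = 2
    · subst e
      exact R.opp_two h (R.z0_of_LN h hl) O.h3 hl O.ord hy ho
    · exact R.opp_odd h (R.z0_of_LN h hl) O.h3 p e (O.hE θ) O.ord hl.lg1 (by simp)
        (hl.comm_sim S 1) hy ho

/-- the data for the short roots in characteristic two -/
def EX (k : Ix D) (θ : Rt D) (l : List (Rt D × Rt D × Rt D)) : Prop :=
  ∀ s, co s k = 1 → LgR s ∨ ∃ q ∈ l, (∃ C ∈ [(1 : ℤ), -1], ∃ C' ∈ [(1 : ℤ), -1], s ≠ q.1 ∧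
    s ≠ ng q.1 ∧ D.commTerms q.1 s = [((q.2.1 : ℕ), C, 1, 1), ((θ : ℕ), C', 1, 2)]) ∧
    co q.1 k = 0 ∧ (∀ r, co r k = 1 → r ≠ s → LgR r ∨ commP D 2 q.1 r = true) ∧ co q.2.1 k = 1 ∧
    pr q.2.2 q.2.1 = 0 ∧ pr q.2.2 θ = 1 ∧ co q.2.2 k = 1

instance instDecEX (k : Ix D) (θ : Rt D) (l : List (Rt D × Rt D × Rt D)) : Decidable (EX k θ l) := by
  unfold EX; infer_instance

theorem charP_of_cast (p : ℕ) [Fact p.Prime] (h : ((p : ℤ) : F) = 0) : CharP F p :=
  ringChar.of_eq (CharP.ringChar_of_prime_eq_zero Fact.out (by exact_mod_cast h))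

theorem OV.btw_EX (O : OV S M) (p : ℕ) [Fact p.Prime] [CharP F p] (h : UD k θ) (hl : LN k θ)
    (hP : PC k θ 2) {l : List (Rt D × Rt D × Rt D)} (he : EX k θ l) : Btw S M :=
  O.btw_LN p h hl hP fun e L hL z hz hQ r hr hn => by
    haveI := charP_of_cast 2 e
    haveI := O.fin_L hL
    obtain ⟨q, -, ⟨C, -, C', h1, h2⟩, h3, h4, h5, h6, h7, h8⟩ := (he r hr).resolve_left hn
    have := h.iso O.bot hL 2 hP hr hn h3 h4 hz hQ
    rw [S.comm_of h2, inv_mul_cancel_left, List.map_cons, List.map_singleton, wd_two] at this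
    have := (hL _).mp (h.exc_two O.bot hL h5 h6 h7 h8 hP this)
    rw [mul_assoc, mem_sign' h1, pow_one, neg_one_mul, neg_mem_iff, ← hL] at this
    exact mem_of_pow_char 2 this

end

attribute [local instance] good2G2
variable {F : Type*} [Field F] {G : Type*} [Group G] {S : StSys chevG2 F G} {M : Subgroup G}

theorem OV.btw_G2 (O : OV S M) (p : ℕ) [Fact p.Prime] [CharP F p] (h : UD (nG2 1) (rG2 11))
    (hl : LN (nG2 1) (rG2 11)) (hP : PC (nG2 1) (rG2 11) 3) : Btw S M :=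
  O.btw_LN p h hl hP fun e L hL z hz hQ r hr hn => by
    haveI : Fact (Nat.Prime 3) := ⟨Nat.prime_three⟩
    haveI := charP_of_cast 3 e
    haveI := O.fin_L hL
    have e3 : (3 : F) = 0 := by exact_mod_cast e
    have key : ∀ t, S.x (rG2 8) (2 * t) ∈ M → t ∈ L := fun t ht => by
      have h1 : S.x (rG2 7) (2 * t) ∈ M := by
        rwa [← mem_As, show rG2 8 = sW (nG2 1) • rG2 7 by decide +kernel, As_smul O.bot] at ht
      have h2 := comm_mem_of (l := [(rG2 8, -1, 1, 1), (rG2 9, 1, 2, 1), (rG2 10, 1, 3, 1),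
        (rG2 11, 1, 3, 2)]) (by decide +kernel) h1 (one_mem_As O.bot (rG2 6))
      have q : ∀ n : Fin 12, 8 ≤ n → ∀ t, S.x (rG2 n) t ∈ S.XS (Rk (nG2 1)) := fun n hn t =>
        S.x_mem (mem_Rk.mpr (by clear * - hn; revert n; decide +kernel)) t
      have h3 : co (rG2 10) (nG2 1) = 1 := by decide +kernel
      simp only [List.map_cons, List.map_nil, wd_cons, wd_nil, mul_one] at h2
      have h4 := mul_mem (q 10 (by decide) ((1 : ℤ) * (-(2 * t)) ^ 3 * 1 ^ 1))
        (q 11 (by decide) ((1 : ℤ) * (-(2 * t)) ^ 3 * 1 ^ 2))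
      have h5 := mul_mem (q 9 (by decide) ((1 : ℤ) * (-(2 * t)) ^ 2 * 1 ^ 1)) h4
      have := h.cq_mem O.bot hL hP h3 (Or.inl (by decide +kernel)) h2
        (mul_mem (q 8 (by decide) _) h5)
      rw [cq_mul h3 (q 8 (by decide) _) h5, cq_mul h3 (q 9 (by decide) _) h4,
        cq_mul h3 (q 10 (by decide) _) (q 11 (by decide) _), cq_x, cq_x, cq_x, cq_x,
        if_neg (by decide), if_neg (by decide), if_pos rfl, if_neg (by decide)] at this
      refine mem_of_pow_char 3 ?_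
      convert this using 1
      push_cast
      linear_combination 3 * t ^ 3 * e3
    rcases (show r = rG2 8 ∨ r = rG2 9 by clear * - hr hn; revert r; decide +kernel) with rfl | rfl
    · have := h.iso O.bot hL 3 hP hr hn (γ := rG2 7) (by decide +kernel) (by decide +kernel) hz hQ
      rw [S.comm_of (r := rG2 7) (l := [(rG2 9, -2, 1, 1), (rG2 10, -3, 2, 1), (rG2 11, 3, 1, 2)])
        (by decide +kernel), inv_mul_cancel_left] at this
      simp only [List.map_cons, List.map_nil, wd_cons, wd_nil] at this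
      refine key _ ?_
      generalize S.cq (rG2 8) z = t at this
      rw [← mem_As, show rG2 8 = sW (nG2 0) • rG2 9 by decide +kernel, As_smul O.bot, mem_As]
      simpa [e3, S.x_zero] using this
    · have := h.iso O.bot hL 3 hP hr hn (γ := rG2 4) (by decide +kernel) (by decide +kernel) hz hQ
      rw [S.comm_of (r := rG2 4) (l := [(rG2 8, -2, 1, 1), (rG2 6, 3, 2, 1), (rG2 11, -3, 1, 2)])
        (by decide +kernel), inv_mul_cancel_left] at this
      simp only [List.map_cons, List.map_nil, wd_cons, wd_nil] at this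
      exact key _ (by simpa [e3, S.x_zero] using this)

end Cfsg.Agent.Chev
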