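import Mathlib
import Cfsg.Agent.Chev.MxU6

/-! Finite overgroups in type `B₂`. -/

set_option autoImplicit false
set_option linter.unusedSectionVars false
set_option maxHeartbeats 400000
set_option maxRecDepth 100000

namespace Cfsg.Agent.Chev
open Cfsg.Lie Cfsg.Agent.BN StSys

theorem StSys.cq_cj2 {D : ChevalleyDatum} [Good2 D] {F : Type*} [Field F] {G : Type*} [Group G]
    {S : StSys D F G} {k : Ix D} {m γ r0 v : Rt D} {C : ℤ}
    (h0 : co m k = 1 ∧ co γ k = 0 ∧ co r0 k = 1 ∧ 0 < co v k ∧ v ≠ m ∧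
      D.commTerms γ r0 = [((m : ℕ), 1, 1, 1), ((v : ℕ), C, 1, 2)] ∧
      ∀ r : Rt D, 0 < co r k → r ≠ r0 → ∀ e ∈ D.commTerms γ r, e.1 ≠ m) (s : F) {z : G}
    (hz : z ∈ S.XS (Rk k)) :
    S.cq m ((S.x γ s)⁻¹ * z * S.x γ s) = S.cq m z - s * S.cq r0 z := by
  obtain ⟨hm, hγ, h0, h1, h2, h3, h⟩ := h0
  refine (cq_ind (κ := fun z => (S.x γ s)⁻¹ * z * S.x γ s)
    (Λ := fun z => S.cq m z - s * S.cq r0 z) hm
    (fun _ _ _ _ => by group) (fun _ h1 _ h2 => by rw [cq_mul hm h1 h2, cq_mul h0 h1 h2]; ring)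
    (fun r hr t => ⟨cj_mem hγ s (S.x_mem hr t), ?_⟩) hz).2
  by_cases e : r = r0
  · subst e
    have := S.comm_of (r := γ) (s := r) ⟨fun e => by simp [e, hγ] at h0,
      fun e => by simp [e, hγ] at h0, h3⟩ s t
    have a1 := S.x_mem (mem_Rk.mpr (by omega : 0 < co m k))
    have a2 := S.x_mem (mem_Rk.mpr h1)
    rw [mul_assoc, this, mul_assoc, inv_mul_cancel_left, List.map_cons, List.map_singleton, wd_two,
      cq_mul hm (S.x_mem hr t) (mul_mem (a1 _) (a2 _)), cq_mul hm (a1 _) (a2 _), S.cq_x m m,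
      S.cq_x r r, S.cq_x m v, if_neg h2]
    simp only [if_true]; push_cast; ring
  · rw [cq_cj_x hm hγ s hr t (h r (mem_Rk.mp hr) e), S.cq_x r0, if_neg e]; ring

namespace RC
variable {D : ChevalleyDatum} [g : Good2 D] {F : Type*} [Field F] {G : Type*} [Group G]
  {S : StSys D F G} {k : Ix D} {θ : Rt D} {M : Subgroup G} (R : RC S k θ M) (h : UD k θ)
  {v l : G} (hv : v ∈ S.XS (Rk k)) (hl : l ∈ S.PP k) (hy : v * l * v⁻¹ ∈ M)
include h hv hl hy

theorem cq_levi {s r : Rt D} (hs : co s k = 1) (hr : co r k = 1) :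
    S.cq r (l⁻¹ * S.x s 1 * l) ∈ R.L := by
  have h0 := S.x_mem (mem_Rk.mpr (by omega : 0 < co s k)) (1 : F)
  obtain ⟨c, h1⟩ := h.comm_Q hv h0
  obtain ⟨c', h2⟩ := h.PP_conj_θ (inv_mem hl) c
  have h3 := PP_conj_Q (inv_mem hl) h0
  rw [inv_inv] at h2 h3
  have h4 := mul_mem h3 (S.x_mem h.θ_mem c')
  have h5 : (v * l * v⁻¹)⁻¹ * S.x s 1 * (v * l * v⁻¹) = v * (l⁻¹ * S.x s 1 * l * S.x θ c') * v⁻¹ := by
    calc _ = v * (l⁻¹ * (v⁻¹ * S.x s 1 * v) * l) * v⁻¹ := by group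
      _ = _ := by rw [h1, ← h2]; group
  have := R.hcq _ (mul_mem (mul_mem (inv_mem hy) (R.x_one s)) hy)
    (h5 ▸ U_conj_Q (Q_le_U hv) h4) r hr
  rwa [h5, cq_Q_conj hr hv h4, cq_mul hr h3 (S.x_mem h.θ_mem c'), cq_x,
    if_neg fun e => by rw [← e, h.lev] at hr; omega, add_zero] at this

theorem fix_levi (h1 : l ∈ S.GS R.L) : R.m.f (v * l * v⁻¹) = v * l * v⁻¹ := by
  have := R.mem_GS h (mul_mem hy (inv_mem (R.gs h1)))
    (by simpa only [mul_assoc] using mul_mem hv (PP_conj_Q hl (inv_mem hv)))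
  exact R.fix (by simpa using mul_mem this h1)

end RC

attribute [local instance] good2B2

/-- the nodes of the diagram -/
abbrev nB2 (n : Fin 2) : Ix chevB2 := n
/-- roots by their number -/
abbrev rB2 (n : Fin 8) : Rt chevB2 := n

theorem ud_B2 : UD (nB2 0) (rB2 7) where
  pos := by decide +kernel
  top := by decide +kernel
  lev := by decide +kernel
  lev2 := by decide +kernel
  prθ := by decide +kernel
  caθ := by decide +kernel
  dom := by decide +kernel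
  m1 := by decide +kernel
  reg := ⟨2, ![rB2 4, rB2 7], ![1, 2], by decide +kernel⟩

theorem pc_B2 : PC (nB2 0) (rB2 7) 2 := by decide +kernel

variable {F : Type*} [Field F] {G : Type*} [Group G] {S : StSys chevB2 F G} {M : Subgroup G}

theorem q_B2 (n : Fin 8) (hn : 5 ≤ n) (t : F) : S.x (rB2 n) t ∈ S.XS (Rk (nB2 0)) :=
  S.x_mem (mem_Rk.mpr (by revert n; decide +kernel)) t

theorem lv5 : co (rB2 5) (nB2 0) = 1 := by decide +kernel
theorem lv6 : co (rB2 6) (nB2 0) = 1 := by decide +kernel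

theorem z0_B2 (R : RC S (nB2 0) (rB2 7) M) : R.Z0 := fun β h1 _ u hu c hy => by
  by_cases hc : c = 0
  · simp [hc]
  obtain ⟨v, hv, z, hz, rfl⟩ := S.exists_mul uni_pos (T := Rk (nB2 0)) (T' := {rB2 4})
    (fun _ => pos_of_mem_Rk) (fun r hr => hr ▸ (by decide +kernel : Pos (rB2 4)))
    (fun r hr => (show 0 < co r (nB2 0) ∨ r = rB2 4 by
      have : Pos r := hr
      clear * - this; revert r; decide +kernel).imp_left mem_Rk.mpr) hu
  obtain ⟨s, rfl⟩ := S.mem_XS_singleton.mp hz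
  have p0 : ∀ r, co r (nB2 0) = 0 → ∀ t, S.x r t ∈ S.PP (nB2 0) := fun r hr t =>
    Subgroup.mem_sup_left (S.x_mem (show 0 ≤ co r (nB2 0) from hr.ge) t)
  have l4 : co (rB2 4) (nB2 0) = 0 := by decide +kernel
  have p1 := mul_mem (mul_mem (p0 _ l4 s) (p0 _ h1 c)) (inv_mem (p0 _ l4 s))
  rw [show v * S.x (rB2 4) s * S.x β c * (v * S.x (rB2 4) s)⁻¹ =
    v * (S.x (rB2 4) s * S.x β c * (S.x (rB2 4) s)⁻¹) * v⁻¹ by group] at hy ⊢
  refine R.fix_levi ud_B2 hv p1 hy ?_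
  rcases (show β = rB2 4 ∨ β = rB2 3 by clear * - h1; revert β; decide +kernel) with rfl | rfl
  · have := R.cq_levi ud_B2 hv p1 hy lv5 lv6
    rw [S.x_comm_self, mul_inv_cancel_right] at this ⊢
    rw [cq_cj2 (r0 := rB2 5) (v := rB2 7) (C := -1) (by decide +kernel) c (q_B2 5 (by decide) 1),
      cq_x, cq_x, if_neg (by decide), if_pos rfl] at this
    exact x_mem_GS _ (by simpa using this)
  · have a1 := R.cq_levi ud_B2 hv p1 hy lv6 lv5
    have a2 := R.cq_levi ud_B2 hv p1 hy lv6 lv6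
    have a3 := cj_mem h1 c (q_B2 (S := S) 6 (by decide) 1)
    have a4 : (S.x (rB2 4) s * S.x (rB2 3) c * (S.x (rB2 4) s)⁻¹)⁻¹ * S.x (rB2 6) 1 *
        (S.x (rB2 4) s * S.x (rB2 3) c * (S.x (rB2 4) s)⁻¹) = (S.x (rB2 4) (-s))⁻¹ *
        ((S.x (rB2 3) c)⁻¹ * S.x (rB2 6) 1 * S.x (rB2 3) c) * S.x (rB2 4) (-s) := by
      calc _ = S.x (rB2 4) s * (S.x (rB2 3) c)⁻¹ * (S.x (rB2 4) s)⁻¹ *
          (S.x (rB2 6) 1 * S.x (rB2 4) s) * S.x (rB2 3) c * (S.x (rB2 4) s)⁻¹ := by group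
        _ = _ := by
          rw [← (S.commute_nil (r := rB2 4) (s := rB2 6) (by decide +kernel) s 1).eq, S.x_neg]; group
    have a5 := cq_cj2 (m := rB2 5) (γ := rB2 3) (r0 := rB2 6) (v := rB2 7) (C := 1)
      (by decide +kernel) c (q_B2 (S := S) 6 (by decide) 1)
    rw [cq_x, cq_x, if_neg (by decide), if_pos rfl] at a5
    rw [a4, cq_cj0 lv5 l4 _ (by decide +kernel) a3, a5] at a1
    rw [a4, cq_cj2 (r0 := rB2 5) (v := rB2 7) (C := -1) (by decide +kernel) _ a3, a5,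
      cq_cj0 lv6 h1 _ (by decide +kernel) (q_B2 6 (by decide) 1), cq_x, if_pos rfl] at a2
    have b1 : c ∈ R.L := by simpa using a1
    have b2 : s ∈ R.L := by
      convert mul_mem (sub_mem (one_mem _) a2) (inv_mem b1) using 1
      field_simp; ring
    exact mul_mem (mul_mem (x_mem_GS _ b2) (x_mem_GS _ b1)) (inv_mem (x_mem_GS _ b2))

theorem opp_B2 [CharP F 2] (R : RC S (nB2 0) (rB2 7) M) (y : G) (hy : y ∈ M)
    (ho : S.Opp (rB2 7) y) : R.m.f y = y := by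
  obtain ⟨u, hu, μ, h0, rfl⟩ := ud_B2.opp_Q ho
  let K := M.comap (MulAut.conj u).toMonoidHom
  have mK : ∀ {a}, a ∈ K ↔ u * a * u⁻¹ ∈ M := Iff.rfl
  have xK : ∀ n : Fin 8, 5 ≤ n → ∀ t ∈ R.L, S.x (rB2 n) t ∈ K := fun n hn t ht => by
    have : u ∈ Subgroup.centralizer {S.x (rB2 n) t} := S.XS_le.mpr (fun r hr s =>
      Subgroup.mem_centralizer_singleton_iff.mpr (S.commuteP 2 (by
        have := mem_Rk.mp hr
        clear * - this hn; revert r n; decide +kernel) s t)) hu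
    rw [mK, Subgroup.mem_centralizer_singleton_iff.mp this, mul_inv_cancel_right]
    exact R.gs (x_mem_GS _ ht)
  have e0 : ng (rB2 7) = rB2 0 := by decide +kernel
  have a1 := comm_mem_of (M := K) (r := rB2 0) (l := [(rB2 1, 1, 1, 1), (rB2 3, -1, 1, 2)])
    (by decide +kernel) (e0 ▸ hy :) (xK 5 (by decide) 1 (one_mem _))
  have a2 := S.comm_of (r := rB2 1) (s := rB2 7) (l := [(rB2 5, -1, 1, 1), (rB2 3, 1, 2, 1)])
    (by decide +kernel) μ 1
  simp only [List.map_cons, List.map_nil, wd_cons, wd_nil, CharTwo.neg_eq, mul_one, one_mul, pow_one,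
    one_pow, Int.cast_one, Int.cast_neg] at a1 a2
  have a3 := xK 7 (by decide) 1 (one_mem _)
  have a4 := mul_mem (inv_mem (mul_mem a1 (mul_one (S.x (rB2 7) 1) ▸ a3 :))) (mul_mem
    (mul_one (S.x (rB2 7) 1) ▸ a3 :) a1)
  rw [comm_aux a2 (Commute.one_right _) (S.commute_nil (by decide +kernel) _ _) (Commute.one_right _)
    ((S.commute_nil (by decide +kernel) _ _).mul_left (S.x_comm_self _ _ _))
    (Commute.one_right _)] at a4
  have a5 := mK.mp (mul_mem (mul_mem (inv_mem a4) (xK 6 (by decide) 1 (one_mem _))) a4)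
  have l3 : co (rB2 3) (nB2 0) = 0 := by decide +kernel
  have a6 := cj_mem l3 (μ ^ 2) (q_B2 (S := S) 6 (by decide) 1)
  rw [show ∀ a b c : G, (a * b)⁻¹ * c * (a * b) = b⁻¹ * (a⁻¹ * (c * a)) * b from fun _ _ _ => by
    group, ← (S.commuteP 2 (r := rB2 5) (s := rB2 6) (by decide +kernel) μ 1).eq,
    inv_mul_cancel_left] at a5
  have a7 := R.hcq _ a5 (U_conj_Q (Q_le_U hu) a6) _ lv5
  rw [cq_Q_conj lv5 hu a6, cq_cj2 (r0 := rB2 6) (v := rB2 7) (C := 1) (by decide +kernel) _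
    (q_B2 6 (by decide) 1), cq_x, cq_x, if_neg (by decide), if_pos rfl, zero_sub, mul_one,
    neg_mem_iff, R.hL, map_pow] at a7
  have a8 : μ ∈ R.L := (R.hL μ).mpr ((frobenius F 2).injective a7)
  have a9 := mK.mp ((K.mul_mem_cancel_left (xK 5 (by decide) μ a8)).mp a4)
  have lg : LgR (rB2 3) := by decide +kernel
  refine R.finish ud_B2 (z0_B2 R) (S.XS_le_grp _ hu) hy lg (pow_ne_zero 2 h0)
    (z0_B2 R _ l3 lg u (Q_le_U hu) _ a9) ?_
  rw [(S.commute_nil (r := ng (rB2 7)) (s := rB2 3) (by decide +kernel) _ _).eq,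
    mul_inv_cancel_right]

theorem conj_two [CharP F 2] (hM : S.GS ⊥ ≤ M) (w : W chevB2) {r s : Rt chevB2} {a b : F}
    (h : S.x r a * S.x s b ∈ M) : S.x (w • r) a * S.x (w • s) b ∈ M := by
  obtain ⟨c1, e1, e2⟩ := nW_conj (S := S) w r
  obtain ⟨c2, e3, e4⟩ := nW_conj (S := S) w s
  have := (conj_nW hM w).mpr h
  rw [CharTwo.neg_eq, or_self] at e1 e3
  rwa [← conj_mul, e2, e4, e1, e3, one_mul, one_mul] at this

theorem exists_B2_two [CharP F 2] (O : OV S M) : ∃ L : Subfield F,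
    (∀ t, t ∈ L ↔ t ∈ S.As M (rB2 7)) ∧ ∀ s c, S.x (rB2 6) s * S.x (rB2 7) c ∈ M → s ∈ L := by
  haveI := O.fin
  have c67 := S.commute_nil (r := rB2 6) (s := rB2 7) (by decide +kernel)
  let B : AddSubgroup F :=
    { carrier := {s | ∃ c, S.x (rB2 6) s * S.x (rB2 7) c ∈ M}
      zero_mem' := ⟨0, by simp [S.x_zero]⟩
      add_mem' := fun {a b} ⟨c, h1⟩ ⟨d, h2⟩ => ⟨c + d, by
        rw [S.add, S.add, (c67 b c).mul_mul_mul_comm]; exact mul_mem h1 h2⟩
      neg_mem' := fun h => by rwa [CharTwo.neg_eq] }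
  have hB : (B : Set F).Finite := (M.carrier.toFinite.image (S.cq (rB2 6))).subset
    fun s ⟨c, h⟩ => ⟨_, h, by
      rw [cq_mul lv6 (q_B2 6 (by decide) _) (q_B2 7 (by decide) _), cq_x, cq_x, if_pos rfl,
        if_neg (by decide), add_zero]⟩
  have key : ∀ {s c s' c'}, S.x (rB2 6) s * S.x (rB2 7) c ∈ M → S.x (rB2 6) s' * S.x (rB2 7) c' ∈ M →
      S.x (rB2 6) (c' * s) * S.x (rB2 7) (c' * s ^ 2) ∈ M := fun {s c s' c'} h1 h2 => by
    have h3 := conj_two O.bot (sW (nB2 1)) h1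
    have h4 := conj_two O.bot (sW (nB2 0)) h2
    rw [show sW (nB2 1) • rB2 6 = rB2 5 by decide +kernel,
      show sW (nB2 1) • rB2 7 = rB2 7 by decide +kernel] at h3
    rw [show sW (nB2 0) • rB2 6 = rB2 6 by decide +kernel,
      show sW (nB2 0) • rB2 7 = rB2 4 by decide +kernel,
      ← (S.commute_nil (r := rB2 4) (s := rB2 6) (by decide +kernel) _ _).eq] at h4
    have a2 := S.comm_of (r := rB2 4) (s := rB2 5) (l := [(rB2 6, 1, 1, 1), (rB2 7, -1, 1, 2)])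
      (by decide +kernel) c' s
    simp only [List.map_cons, List.map_nil, wd_cons, wd_nil, CharTwo.neg_eq, mul_one, one_mul,
      pow_one, Int.cast_one, Int.cast_neg] at a2
    have := mul_mem (inv_mem (mul_mem h4 h3)) (mul_mem h3 h4)
    rwa [comm_aux a2 (S.commute_nil (by decide +kernel) _ _) (S.commuteP 2 (by decide +kernel) _ _)
      (c67 _ _) (Commute.mul_left (S.x_comm_self _ _ _) (c67 _ _).symm)
      ((c67 _ _).mul_left (S.x_comm_self _ _ _))] at this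
  have z1 : S.x (rB2 6) 1 * S.x (rB2 7) 0 ∈ M := by simpa [S.x_zero] using one_mem_As O.bot _
  have z2 : ∀ t ∈ S.As M (rB2 7), S.x (rB2 6) 0 * S.x (rB2 7) t ∈ M := fun t ht => by
    simpa [S.x_zero] using mem_As.mp ht
  have p2 : ∀ t ∈ B, ∃ s, S.x (rB2 6) s * S.x (rB2 7) t ∈ M := fun t ht => by
    have h1 : ∀ s ∈ B, S.x (rB2 6) s * S.x (rB2 7) (s ^ 2) ∈ M := fun s ⟨c, h⟩ => by
      simpa using key h (z2 1 (one_mem_As O.bot _))
    obtain ⟨s, hs, rfl⟩ := surj_of_inj hB (f := frobenius F 2)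
      (fun s hs => ⟨_, by simpa [frobenius_def] using key z1 (h1 s hs)⟩) (frobenius F 2).injective ht
    exact ⟨s, h1 s hs⟩
  obtain ⟨L, hL⟩ := exists_subfield B hB ⟨0, z1⟩ fun a ha b ⟨c, h⟩ =>
    (p2 a ha).elim fun s hs => ⟨_, key h hs⟩
  refine ⟨L, fun t => ⟨fun ht => ?_, fun ht => (hL t).mpr ⟨_, by simpa using key z1 (z2 t ht)⟩⟩,
    fun s c h => (hL s).mpr ⟨c, h⟩⟩
  by_cases h0 : t = 0
  · exact h0 ▸ zero_mem _
  obtain ⟨c, h1⟩ := (hL t).mp ht
  obtain ⟨s, h2⟩ := p2 _ ((hL _).mp (inv_mem ht))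
  have := key h1 h2
  rwa [inv_mul_cancel₀ h0, pow_two, inv_mul_cancel_left₀ h0,
    M.mul_mem_cancel_left (one_mem_As O.bot _)] at this

theorem OV.btw_B2 (O : OV S M) (p : ℕ) [Fact p.Prime] [CharP F p] : Btw S M := by
  haveI := O.fin
  by_cases e : p = 2
  · subst e
    obtain ⟨L, hL, h1⟩ := exists_B2_two O
    refine O.btw ud_B2 hL (fun z hz hQ r hr => ?_) z0_B2 opp_B2
    rcases (show r = rB2 5 ∨ r = rB2 6 by clear * - hr; revert r; decide +kernel) with rfl | rfl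
    · have := ud_B2.iso O.bot hL 2 pc_B2 hr (by decide +kernel) (γ := rB2 4) (by decide +kernel)
        (by decide +kernel) hz hQ
      rw [S.comm_of (r := rB2 4) (l := [(rB2 6, 1, 1, 1), (rB2 7, -1, 1, 2)]) (by decide +kernel),
        inv_mul_cancel_left, List.map_cons, List.map_singleton, wd_two] at this
      simpa using h1 _ _ this
    · have := ud_B2.iso O.bot hL 2 pc_B2 hr (by decide +kernel) (γ := rB2 3) (by decide +kernel)
        (by decide +kernel) hz hQ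
      rw [S.comm_of (r := rB2 3) (l := [(rB2 5, 1, 1, 1), (rB2 7, 1, 1, 2)]) (by decide +kernel),
        inv_mul_cancel_left, List.map_cons, List.map_singleton, wd_two] at this
      have := conj_two O.bot (sW (nB2 1)) this
      rw [show sW (nB2 1) • rB2 5 = rB2 6 by decide +kernel,
        show sW (nB2 1) • rB2 7 = rB2 7 by decide +kernel] at this
      simpa using h1 _ _ this
  have t2 : (2 : F) ≠ 0 := Classical.SL2Basic.two_ne_zero_of_char e
  have h6 : ∀ t ∈ S.As M (rB2 7), S.x (rB2 6) t ∈ M := fun t ht => by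
    have := comm_mem_of (r := rB2 4) (l := [(rB2 6, 1, 1, 1), (rB2 7, -1, 1, 2)])
      (by decide +kernel) (ud_B2.As_lg (r := rB2 4) O.bot (by decide +kernel) ▸ neg_mem ht :)
      (one_mem_As O.bot (rB2 5))
    rw [List.map_cons, List.map_singleton, wd_two,
      M.mul_mem_cancel_right (by simpa using mem_As.mp (neg_mem ht))] at this
    simpa using this
  obtain ⟨L, hL⟩ := exists_subfield _ (As_finite (rB2 7)) (one_mem_As O.bot _) fun a ha b hb => by
    have h5 := h6 _ (neg_mem ha)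
    rw [← mem_As, show rB2 6 = sW (nB2 1) • rB2 5 by decide +kernel, As_smul O.bot] at h5
    have := comm_mem_of (l := [(rB2 7, 2, 1, 1)]) (by decide +kernel) h5 (h6 b hb)
    rw [List.map_singleton, wd_one] at this
    obtain ⟨c, hc, e1⟩ := surj_of_inj (As_finite (rB2 7)) (f := fun t => 2 * t)
      (fun t ht => by rw [two_mul]; exact add_mem ht ht) (mul_right_injective₀ t2) this
    exact (mul_left_cancel₀ t2 (e1.trans (by push_cast; ring)) : c = a * b) ▸ hc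
  refine O.btw ud_B2 hL (fun z hz hQ r hr => ud_B2.cq_mem O.bot hL pc_B2 hr
    (Or.inr (by exact_mod_cast t2)) hz hQ) z0_B2 fun R y hy ho => R.opp_odd ud_B2 (z0_B2 R) O.h3 p e
      (O.hE _) O.ord (ρ := rB2 4) (by decide +kernel) (by decide +kernel) (fun μ => ?_) hy ho
  rw [(S.commute_nil (r := ng (rB2 7)) (s := rB2 4) (by decide +kernel) _ _).eq,
    mul_inv_cancel_right]

end Cfsg.Agent.Chev
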