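import Mathlib
import Cfsg.Agent.Chev.MxU7
import Cfsg.Agent.Chev.TwF4

/-! The root data needed for finite overgroups. -/

set_option autoImplicit false
set_option linter.unusedSectionVars false
set_option maxHeartbeats 400000
set_option maxRecDepth 100000

namespace Cfsg.Agent.Chev
open Cfsg.Lie Cfsg.Agent.BN StSys

section
variable {D : ChevalleyDatum} [g : Good2 D] {F : Type*} [Field F] {G : Type*} [Group G]

/-- a table of roots -/
def wit (P : ℕ) (r : Rt D) : Rt D := ⟨byte P r % D.nroots, Nat.mod_lt _ r.pos⟩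

/-- the pairing read off the packed tables -/
def prQ (r s : Rt D) : ℤ := ∑ i : Ix D, g.cert.cv D r i * g.cert.ca D i s

theorem prQ_eq (r s : Rt D) : prQ r s = pr r s := by simp only [prQ, pr, cv_eq, ca_eq']

/-- the data in the simply laced case -/
structure SLD (k : Ix D) (θ : Rt D) (P P' : ℕ) (s : Rt D) (a : List ℤ) : Prop where
  top : Pos θ ∧ co θ k = 2 ∧ (∀ s, RLe s θ) ∧ ∀ r, 2 ≤ co r k → r = θ
  prθ : ∀ r, prQ θ r = co r k
  caθ : ∀ i, 0 ≤ ca i θ ∧ (ca i θ = 0 → i ≠ k)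
  dom : ∀ r : Rt D, (∀ i : Ix D, 0 ≤ g.cert.ca D i r) → r = θ
  m1 : ∀ β, co β k = -1 → prQ β θ = -1 ∧ One θ β
  reg : (∀ j : Ix D, 0 < a.getD j 0) ∧ ∀ i, 0 < ∑ j : Ix D, a.getD j 0 * ca i (sim j)
  z0 : ∀ β, co β k = 0 → co (wit P β) k = 1 ∧ prQ β (wit P β) = -1 ∧ One β (wit P β)
  ct : ClT [θ, ng θ] [sim k, ng (rf k θ)] ∧ ClT [sim k, ng (rf k θ)] [θ, sim k]
  c11 : ng (rf k θ) ≠ sim k ∧ ng (rf k θ) ≠ ng (sim k) ∧
    D.commTerms (sim k : Rt D) (ng (rf k θ)) = []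
  c1θ : ng θ ≠ ng (rf k θ) ∧ ng θ ≠ ng (ng (rf k θ)) ∧ D.commTerms (ng (rf k θ)) (ng θ) = []
  one : θ ≠ ng (rf k θ) ∧ θ ≠ ng (ng (rf k θ)) ∧
    D.commTerms (ng (rf k θ)) θ = [(((sim k : Rt D) : ℕ), -1, 1, 1)]
  r2 : co s k = 1 ∧ (s ≠ sim k ∧ s ≠ ng (sim k) ∧ D.commTerms (sim k : Rt D) s = []) ∧
    s ≠ ng (rf k θ) ∧ s ≠ ng (ng (rf k θ)) ∧ D.commTerms (ng (rf k θ)) s = []
  pair : rf k θ ≠ sim k ∧ rf k θ ≠ ng (sim k) ∧
    D.commTerms (sim k : Rt D) (rf k θ) = [((θ : ℕ), 1, 1, 1)]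
  pc : ∀ r, co r k = 1 → co (wit P' r) k = 1 ∧ wit P' r ≠ r ∧
    ∃ C ∈ [(1 : ℤ), -1], D.commTerms r (wit P' r) = [((θ : ℕ), C, 1, 1)]

theorem SLD.btw {k : Ix D} {θ : Rt D} {P P' : ℕ} {s : Rt D} {a : List ℤ} (h : SLD k θ P P' s a)
    {S : StSys D F G} {M : Subgroup G} (O : OV S M) (p : ℕ) [Fact p.Prime] [CharP F p] :
    Btw S M := by
  have h1 := h.prθ
  have h2 := h.dom
  have h3 := h.m1
  have h4 := h.z0
  simp only [prQ_eq, ← ca_eq'] at h1 h2 h3 h4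
  have lg : ∀ r : Rt D, LgR r := fun r => by
    obtain ⟨w, hw⟩ := exists_dom r
    rw [← lg_smul_iff w, h2 _ hw]
    intro s hs
    rw [h1]; by_contra e; exact hs (h.top.2.2.2 s (by omega))
  exact O.btw_LN p ⟨h.top.1, fun s _ => h.top.2.2.1 s, h.top.2.1, h.top.2.2.2, h1, h.caθ,
    fun r hr => Or.inl (h2 r hr), fun β e _ => h3 β e,
    _, sim, _, fun j => ⟨lg _, pos_sim j, h.reg.1 j⟩, h.reg.2⟩
    ⟨fun β e _ => ⟨_, (h4 β e).1, (h4 β e).2.1, (h4 β e).2.2, lg _⟩, lg _, h.ct.1, h.ct.2,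
      h.c11, h.c1θ, ⟨-1, by simp, h.one⟩, ⟨s, h.r2⟩, 1, by simp, h.pair⟩ (c := 1)
    (fun r hr => ⟨_, (h.pc r hr).1, (h.pc r hr).2.1, (h.pc r hr).2.2.imp fun _ h => ⟨h.1, Or.inl h.2⟩⟩)
    fun e => absurd (by exact_mod_cast e) (one_ne_zero (α := F))

end

section
attribute [local instance] good2G2

theorem ud_G2 : UD (nG2 1) (rG2 11) where
  pos := by decide +kernel
  top := by decide +kernel
  lev := by decide +kernel
  lev2 := by decide +kernel
  prθ := by decide +kernel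
  caθ := by decide +kernel
  dom := by decide +kernel
  m1 := by decide +kernel
  reg := ⟨2, ![rG2 6, rG2 10], ![8, 10], by decide +kernel⟩

theorem ln_G2 : LN (nG2 1) (rG2 11) := by
  constructor <;> decide +kernel

theorem pc_G2 : PC (nG2 1) (rG2 11) 3 := by decide +kernel

end

attribute [local instance] good2F4

theorem ud_F4 : UD (nF4 3) (rF4 47) where
  pos := by decide +kernel
  top := by decide +kernel
  lev := by decide +kernel
  lev2 := by decide +kernel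
  prθ := by decide +kernel
  caθ := by decide +kernel
  dom := by decide +kernel
  m1 := by decide +kernel
  reg := ⟨4, ![rF4 24, rF4 25, rF4 30, rF4 41], ![16, 9, 10, 11], by decide +kernel⟩

theorem ln_F4 : LN (nF4 3) (rF4 47) := by
  constructor <;> decide +kernel

theorem pc_F4 : PC (nF4 3) (rF4 47) 2 := by decide +kernel

theorem ex_F4 : EX (nF4 3) (rF4 47) [(rF4 41, rF4 44, rF4 24), (rF4 30, rF4 40, rF4 24),
    (rF4 25, rF4 39, rF4 24), (rF4 22, rF4 38, rF4 26), (rF4 17, rF4 36, rF4 31),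
    (rF4 6, rF4 29, rF4 42)] := by decide +kernel

end Cfsg.Agent.Chev
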