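import Mathlib
import Cfsg.Agent.Chev.MxU8

/-! The root data needed for finite overgroups in the simply laced types. -/

set_option autoImplicit false
set_option maxHeartbeats 400000
set_option maxRecDepth 100000

namespace Cfsg.Agent.Chev
open Cfsg.Lie Cfsg.Agent.BN StSys

attribute [local instance] good2D4 in
theorem sld_D4 : SLD (D := chevD4) ⟨1, by decide⟩ ⟨23, by decide⟩
    0xe000000000e0e0f1000000000130000000000
    0xe0f101100131415160000000000000000000000000000
    ⟨15, by decide⟩ [6, 10, 6, 6] := by
  constructor <;> decide +kernel

attribute [local instance] good2E6 in
theorem sld_E6 : SLD (D := chevE6) ⟨1, by decide⟩ ⟨71, by decide⟩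
    0x2e2e2e2f32000000000000000000002e2e2e2f2e2e2e2f2f303130312f303132323334000000000000000000003d3d3d3e3f0000000000000000000000
    0x2e2f303132333435363700000000003d3e3f4041424344454600000000000000000000000000000000000000000000000000000000000000000000000000000000000000000000
    ⟨47, by decide⟩ [16, 22, 30, 42, 30, 16] := by
  constructor <;> decide +kernel

attribute [local instance] good2E7 in
theorem sld_E7 : SLD (D := chevE7) ⟨0, by decide⟩ ⟨125, by decide⟩
    0x5d5d5d5d5d5d5d5d5d5d5e5e5e5e5f5d5d5d5d5d5e5e5e5e5f5f5f6060616261626061625f6061625e5f6061626363646566636465666768696a6b6c000000000000000000000000000000000000000000000000000000000000000000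
    0x5d5e5f606162636465666768696a6b6c6d6e6f707172737475767778797a7b7c000000000000000000000000000000000000000000000000000000000000000000000000000000000000000000000000000000000000000000000000000000000000000000000000000000000000000000000000000000000000000000
    ⟨94, by decide⟩ [34, 49, 66, 96, 75, 52, 27] := by
  constructor <;> decide +kernel

attribute [local instance] good2E8 in
theorem sld_E8 : SLD (D := chevE8) ⟨7, by decide⟩ ⟨239, by decide⟩
    0x780000000000007800000000780000007800007800787a0000007800007800787a00007800787a00787a7d00007800787a00787a7d00787a7d8100787a7d81868c00007800787a00787a7d00787a7d8100787a7d818600787a7d818600787a7d8100787a7d00787a007800007a007d7d008181810086868686008c8c8c8c8c0092929292920097979797009b9b9b009e9e00a00000a8a8a8a8a8a800adadadad00b1b1b100b4b400b60000bbbbbb00bebe00c00000c4c400c60000c9000000cece00d00000d3000000d700000000dc000000000000e300000000000000000000000000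
    0x787a7d81868c92979b9ea0a100a8adb1b4b6b700bbbec0c100c4c6c700c9ca00cb0000ced0d100d3d400d50000d7d800d90000da000000dcdd00de0000df000000e000000000e1000000000000e3e400e50000e6000000e700000000e80000000000e90000000000ea00000000eb000000ec0000ed00ee000000000000000000000000000000000000000000000000000000000000000000000000000000000000000000000000000000000000000000000000000000000000000000000000000000000000000000000000000000000000000000000000000000000000000000000000000000000000000000000000
    ⟨122, by decide⟩ [92, 136, 182, 270, 220, 168, 114, 58] := by
  constructor <;> decide +kernel

end Cfsg.Agent.Chev
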