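import Mathlib
import Cfsg.Agent.Chev.AutK
import Cfsg.Agent.Chev.Sub

/-! Centralizers and normalizers of subfield-type subgroups. -/

set_option autoImplicit false
set_option linter.unusedSectionVars false
set_option maxHeartbeats 400000

namespace Cfsg.Agent.Chev
open Cfsg.Lie Cfsg.Agent.BN StSys Matrix

variable {D : ChevalleyDatum} [g : Good2 D] {F : Type*} [Field F] {G : Type*} [Group G]

namespace StSys
variable {S : StSys D F G}

theorem conj_mem_Ui {i : Ix D} {b u : G} (hb : b ∈ S.U) (hu : u ∈ S.Ui i) : b * u * b⁻¹ ∈ S.Ui i :=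
  S.conj_mem_of_cl (fun r hr s hs => ⟨ne_ng_of_ph (c := owt) (add_pos (uni_pos.pos r hr)
    (uni_pos.pos s hs.1)), fun v a b ha hb e => by
      have h1 := uni_pos.cl r hr s hs.1 v a b ha hb e
      refine ⟨h1, (pos_rf_iff' h1).mpr ?_⟩
      rintro rfl
      have h2 := (pos_rf_iff' hs.1).mp hs.2
      refine h2 (co_inj (funext fun j => ?_))
      have h3 := (pos_iff r).mp hr
      have h4 := (pos_iff s).mp hs.1
      have h5 : ∀ j, j ≠ i → co s j = 0 ∧ co r j = 0 := fun j hj => by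
        have h6 := congrFun e j
        simp only [co_sim, Pi.single_eq_of_ne hj, Pi.add_apply, Pi.smul_apply, smul_eq_mul] at h6
        have := mul_nonneg ha.le (h3 j)
        have := mul_nonneg hb.le (h4 j)
        exact ⟨(mul_eq_zero.mp (by omega : b * co s j = 0)).resolve_left hb.ne',
          (mul_eq_zero.mp (by omega : a * co r j = 0)).resolve_left ha.ne'⟩
      have h7 : ∀ r : Rt D, (∀ j, j ≠ i → co r j = 0) → co r i ≠ 0 := fun r h e =>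
        co_ne_zero r (funext fun j => by by_cases hj : j = i; exacts [hj ▸ e, h j hj])
      have h6 := congrFun e i
      simp only [co_sim, Pi.single_eq_same, Pi.add_apply, Pi.smul_apply, smul_eq_mul] at h6
      have := mul_pos ha ((h3 i).lt_of_ne' (h7 r fun j hj => (h5 j hj).2))
      have := mul_pos hb ((h4 i).lt_of_ne' (h7 s fun j hj => (h5 j hj).1))
      omega⟩) hb hu

theorem mem_B_of_wit {y : G} (hy : y ∈ S.grp)
    (h : ∀ i, ∃ u ∈ S.U, u ∉ S.Ui i ∧ y * u * y⁻¹ ∈ S.B) : y ∈ S.B := by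
  obtain ⟨w, hc⟩ := exists_cell hy
  by_cases e : w = 1
  · rwa [e, StSys.mem_cell_one] at hc
  obtain ⟨i, hi⟩ := exists_not_pos e
  obtain ⟨n, h2, h3⟩ := S.exists_N w
  obtain ⟨b, hb, v, hv, rfl⟩ := exists_normal h2 h3 hc
  obtain ⟨u, hu, h4, h5⟩ := h i
  have h6 := Uw_le_U w hv
  obtain ⟨a, ha, z, hz, e⟩ := exists_U_split w (B_conj_U (S.U_le_B h6) hu)
  have h7 : n * z * n⁻¹ = 1 := one_of_mem_B_V (by
    have := S.B.mul_mem (S.B.inv_mem (S.U_le_B (h3.conj_mem (fun r hr => hr.2) ha)))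
      (S.B.mul_mem (S.B.mul_mem (S.B.inv_mem hb) h5) hb)
    rwa [show b⁻¹ * (b * n * v * u * (b * n * v)⁻¹) * b = n * (v * u * v⁻¹) * n⁻¹ by group, e,
      show (n * a * n⁻¹)⁻¹ * (n * (a * z) * n⁻¹) = n * z * n⁻¹ by group] at this) (h3.conj_Uw hz)
  rw [conj_eq_one_iff] at h7
  rw [h7, mul_one] at e
  have h8 : a ∈ S.Ui i := S.XS_mono (fun r hr => And.intro hr.1 ((pos_rf_iff' hr.1).mpr (by
    rintro rfl; exact hi hr.2))) ha
  have := conj_mem_Ui (inv_mem h6) (e ▸ h8 : v * u * v⁻¹ ∈ S.Ui i)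
  exact absurd (by simpa [mul_assoc] using this) h4

theorem mem_H_of_wit {y n : G} (hy : y ∈ S.grp) (hN : n ∈ S.N) (hm : S.Mono n (w0 Set.univ))
    (h1 : ∀ i, ∃ u ∈ S.U, u ∉ S.Ui i ∧ y * u * y⁻¹ ∈ S.U)
    (h2 : ∀ i, ∃ u ∈ S.U, u ∉ S.Ui i ∧ y * (n * u * n⁻¹) * y⁻¹ ∈ S.V) : y ∈ S.H := by
  refine (B_inf_VH (S := S)).le ⟨mem_B_of_wit hy fun i => (h1 i).imp fun u h =>
    ⟨h.1, h.2.1, S.U_le_B h.2.2⟩, ?_⟩
  have hn := S.N_le_grp hN
  have h3 : n⁻¹ * y * n ∈ S.B := mem_B_of_wit (mul_mem (mul_mem (inv_mem hn) hy) hn)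
    fun i => (h2 i).imp fun u h => ⟨h.1, h.2.1, S.U_le_B (by
      have := hm.conj_mem' (T' := {r | Pos r}) (fun r hr => by simpa [pos_w0_univ] using hr) h.2.2
      simpa [mul_assoc, StSys.U] using this)⟩
  obtain ⟨u, hu, z, hz, e⟩ := mem_B.mp h3
  have := mul_mem (Subgroup.mem_sup_left (T := S.H) (hm.conj_mem (T' := {r | ¬ Pos r})
    (fun r hr => by simpa [pos_w0_univ] using hr) hu)) (Subgroup.mem_sup_right (conj_mem_H hN hz))
  rwa [show n * u * n⁻¹ * (n * z * n⁻¹) = n * (u * z) * n⁻¹ by group, ← e,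
    show n * (n⁻¹ * y * n) * n⁻¹ = y by group] at this

theorem Mono.mem_H {y : G} (hy : y ∈ S.grp) (h : S.Mono y 1) : y ∈ S.H := by
  obtain ⟨n, hN, hm⟩ := exists_n0 (S := S)
  have key := fun i => And.intro (S.x_mem (T := {r | Pos r}) (pos_sim i) (1 : F))
    fun h => one_ne_zero (eq_zero_of_mem_Ui (S := S) (i := i) h)
  exact mem_H_of_wit hy hN hm
    (fun i => ⟨_, (key i).1, (key i).2, h.conj_mem (fun r hr => by simpa using hr) (key i).1⟩)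
    fun i => ⟨_, (key i).1, (key i).2, h.conj_mem (T := {r | ¬ Pos r}) (fun r hr => by simpa using hr)
      (hm.conj_mem (fun r hr => by simpa [pos_w0_univ] using hr) (key i).1)⟩

end StSys

theorem mono_dgU (c : Ix D → Fˣ) : (glSys D F).Mono (dgU c) 1 :=
  ⟨fun s => tor c (co s), fun s => by simp [tor_neg], fun s u => dgU_conj c s u⟩

theorem lc_of_mem_Ui {i : Ix D} {u : GL D.Idx F} (hu : u ∈ (glSys D F).Ui i) : lc i u = 0 := by
  induction hu using XS_ind with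
  | h1 => exact ent_one _ _
  | hs r hr t a ha ih =>
    rw [lc_mul i ((glSys D F).x_mem hr.1 t) ((glSys D F).XS_mono (fun _ h => h.1) ha), ih, lc_x,
      if_neg ((pos_rf_iff' hr.1).mp hr.2), add_zero]

variable (D F) in
/-- diagonal matrices as a homomorphism -/
def dgH : (Ix D → Fˣ) →* GL D.Idx F := MonoidHom.mk' dgU dgU_mul

theorem dgH_apply (c : Ix D → Fˣ) : dgH D F c = dgU c := rfl

theorem dgH_inj : Function.Injective (dgH D F) := (injective_iff_map_eq_one _).mpr fun c h =>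
  funext fun i => Units.ext (by
    have := lc_dgU c i ((glSys D F).x (sim i) 1)
    rw [← dgH_apply, h] at this
    simpa [lc_x, -glSys_x] using this.symm)

theorem dgU_conj_mem (c : Ix D → Fˣ) {T : Set (Rt D)} {y : GL D.Idx F} (hy : y ∈ (glSys D F).XS T) :
    dgU c * y * (dgU c)⁻¹ ∈ (glSys D F).XS T :=
  (mono_dgU c).conj_mem (fun r hr => by simpa using hr) hy

theorem exists_pw_of_mem {c : Ix D → Fˣ} (h : dgU c ∈ (glSys D F).grp) :
    ∃ a, c = pw Fˣ (cartanM D) a := by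
  obtain ⟨a, ha⟩ := gl_R3.exists_hT ((mono_dgU c).mem_H h)
  exact ⟨a, dgH_inj (ha.symm.trans (gl_hT a))⟩

variable (D F) in
/-- the inner-diagonal group -/
def GD : Subgroup (GL D.Idx F) := (glSys D F).grp ⊔ (dgH D F).range

theorem mem_GD {y : GL D.Idx F} : y ∈ GD D F ↔ ∃ a ∈ (glSys D F).grp, ∃ c, y = a * dgU c := by
  rw [GD, mem_sup_of_normalizes (le_normalizer_of (by
    rintro _ ⟨c, rfl⟩ y hy; exact dgU_conj_mem c hy))]
  exact ⟨fun ⟨a, ha, _, ⟨c, e⟩, h⟩ => ⟨a, ha, c, h.trans (congrArg _ e.symm)⟩,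
    fun ⟨a, ha, c, h⟩ => ⟨a, ha, _, ⟨c, rfl⟩, h⟩⟩

theorem mem_GD_of_grp {y : GL D.Idx F} (h : y ∈ (glSys D F).grp) : y ∈ GD D F :=
  Subgroup.mem_sup_left h

theorem dgU_mem_GD (c : Ix D → Fˣ) : dgU c ∈ GD D F := Subgroup.mem_sup_right ⟨c, rfl⟩

theorem eq_one_of_cent {L : Subgroup (GL D.Idx F)}
    (hx : ∀ i, ∃ u ∈ (glSys D F).U ⊓ L, lc i u ≠ 0)
    (hn : ∃ n ∈ L, n ∈ (glSys D F).N ∧ (glSys D F).Mono n (w0 Set.univ)) {y : GL D.Idx F}
    (hy : y ∈ GD D F) (h : ∀ z ∈ L, y * z * y⁻¹ = z) : y = 1 := by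
  obtain ⟨a, ha, c, rfl⟩ := mem_GD.mp hy
  obtain ⟨n, h1, h2, h3⟩ := hn
  have key : ∀ i, ∃ u ∈ (glSys D F).U ⊓ L, dgU c * u * (dgU c)⁻¹ ∉ (glSys D F).Ui i := fun i =>
    (hx i).imp fun u hu => ⟨hu.1, fun e => mul_ne_zero (c i).ne_zero hu.2
      (lc_dgU c i u ▸ lc_of_mem_Ui e)⟩
  have h4 : a ∈ (glSys D F).H := mem_H_of_wit ha ((mono_dgU c).conj_mem_N h2)
    (by simpa using ((mono_dgU c).mul h3).mul (mono_dgU c).inv)
    (fun i => by
      obtain ⟨u, hu, h5⟩ := key i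
      refine ⟨_, dgU_conj_mem c hu.1, h5, ?_⟩
      have := h u hu.2
      rw [show a * (dgU c * u * (dgU c)⁻¹) * a⁻¹ = a * dgU c * u * (a * dgU c)⁻¹ by group, this]
      exact hu.1)
    fun i => by
      obtain ⟨u, hu, h5⟩ := key i
      refine ⟨_, dgU_conj_mem c hu.1, h5, ?_⟩
      have := h _ (L.mul_mem (L.mul_mem h1 hu.2) (L.inv_mem h1))
      rw [show a * (dgU c * n * (dgU c)⁻¹ * (dgU c * u * (dgU c)⁻¹) * (dgU c * n * (dgU c)⁻¹)⁻¹) *
        a⁻¹ = a * dgU c * (n * u * n⁻¹) * (a * dgU c)⁻¹ by group, this]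
      exact h3.conj_mem (fun r hr => by simpa [pos_w0_univ] using hr) hu.1
  obtain ⟨b, rfl⟩ := gl_R3.exists_hT h4
  rw [gl_hT, ← dgU_mul] at h ⊢
  rw [← dgH_apply, map_eq_one_iff _ dgH_inj]
  refine funext fun i => Units.ext ?_
  obtain ⟨u, hu, h5⟩ := hx i
  have := lc_dgU (pw Fˣ (cartanM D) b * c) i u
  rw [h u hu.2] at this
  exact (mul_eq_right₀ h5).mp this.symm

theorem map_dgU {F' : Type*} [Field F'] (ψ : F →+* F') (c : Ix D → Fˣ) :
    GeneralLinearGroup.map ψ (dgU c) = dgU fun i => Units.map ψ.toMonoidHom (c i) := by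
  refine Units.ext (Matrix.ext fun i j => ?_)
  change ψ (dg _ i j) = dg _ i j
  simp only [dg, Matrix.diagonal_apply]
  split_ifs
  · rcases i with i | i <;> simp [tor]
  · simp

theorem map_mem_GD (ψ : F →+* F) {y : GL D.Idx F} (hy : y ∈ GD D F) :
    GeneralLinearGroup.map ψ y ∈ GD D F := by
  obtain ⟨a, ha, c, rfl⟩ := mem_GD.mp hy
  rw [map_mul, map_dgU]
  exact mul_mem (mem_GD_of_grp ((fieldGL D ψ).mem_grp ha)) (dgU_mem_GD _)

theorem fix_of_norm {L L' : Subgroup (GL D.Idx F)}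
    (hx : ∀ i, ∃ u ∈ (glSys D F).U ⊓ L, lc i u ≠ 0)
    (hn : ∃ n ∈ L, n ∈ (glSys D F).N ∧ (glSys D F).Mono n (w0 Set.univ)) (ψ : F →+* F)
    (hL : ∀ z ∈ L, GeneralLinearGroup.map ψ z = z) (hL' : ∀ z ∈ L', GeneralLinearGroup.map ψ z = z)
    {y : GL D.Idx F} (hy : y ∈ GD D F) (h : ∀ z ∈ L, y * z * y⁻¹ ∈ L') :
    GeneralLinearGroup.map ψ y = y := by
  rw [eq_comm, ← inv_mul_eq_one]
  refine eq_one_of_cent hx hn (mul_mem (inv_mem hy) (map_mem_GD ψ hy)) fun z hz => ?_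
  have := hL' _ (h z hz)
  rw [map_mul, map_mul, map_inv, hL z hz] at this
  rw [show y⁻¹ * GeneralLinearGroup.map ψ y * z * (y⁻¹ * GeneralLinearGroup.map ψ y)⁻¹ =
    y⁻¹ * (GeneralLinearGroup.map ψ y * z * (GeneralLinearGroup.map ψ y)⁻¹) * y by group, this]
  group

theorem GS_wit (E : Subfield F) {L : Subgroup (GL D.Idx F)} (h : (glSys D F).GS E ≤ L) :
    (∀ i, ∃ u ∈ (glSys D F).U ⊓ L, lc i u ≠ 0) ∧
      ∃ n ∈ L, n ∈ (glSys D F).N ∧ (glSys D F).Mono n (w0 Set.univ) :=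
  ⟨fun i => ⟨_, ⟨(glSys D F).x_mem (pos_sim i) 1, h (x_mem_GS _ E.one_mem)⟩, by
    rw [lc_x, if_pos rfl]; exact one_ne_zero⟩, _, h (nW_mem_GS _), nW_mem _, mono_nW _⟩

theorem conj_mem_GS {ψ : F →+* F} {E : Subfield F} (hE : ∀ t, t ∈ E ↔ ψ t = t) {z y : GL D.Idx F}
    (hz : z ∈ (glSys D F).H) (h : GeneralLinearGroup.map ψ z = z) (hy : y ∈ (glSys D F).GS E) :
    z * y * z⁻¹ ∈ (glSys D F).GS E := by
  refine (GS_le (K := ((glSys D F).GS E).comap (MulAut.conj z).toMonoidHom)).mpr (fun r t ht => ?_) hy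
  obtain ⟨c, -, h1, -⟩ := (mono_of_mem_H hz).exists_conj r
  change z * _ * z⁻¹ ∈ (glSys D F).GS E
  rw [h1, one_smul]
  refine x_mem_GS _ ((hE _).mpr ((glSys D F).x_inj (r := r) ?_))
  have h2 := h1 t
  rw [one_smul] at h2
  rw [← (fieldGL D ψ).f_x' (fun _ _ => rfl), ← h2, map_mul, map_mul, map_inv,
    (fieldGL D ψ).f_x' (fun _ _ => rfl), (hE t).mp ht]
  exact congrArg (fun a => a * _ * a⁻¹) h

theorem exists_GS_mul {ψ : F →+* F} {E : Subfield F} (hE : ∀ t, t ∈ E ↔ ψ t = t) {y : GL D.Idx F}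
    (hy : y ∈ (glSys D F).grp) (h : GeneralLinearGroup.map ψ y = y) :
    ∃ l ∈ (glSys D F).GS E, ∃ z ∈ (glSys D F).H, GeneralLinearGroup.map ψ z = z ∧ y = l * z := by
  obtain ⟨u, hu, z, hz, h1, w, v, hv, rfl⟩ := (fieldGL D ψ).exists_of_fix (fun _ _ => rfl) hE hy h
  exact ⟨_, mul_mem hu.2 (conj_mem_GS hE hz h1 (mul_mem (nW_mem_GS w) hv.2)), z, hz, h1, by group⟩

theorem conj_mem_of_fix {ψ : F →+* F} {E : Subfield F} (hE : ∀ t, t ∈ E ↔ ψ t = t)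
    {K : Subgroup (GL D.Idx F)} (h1 : (glSys D F).GS E ≤ K) (h2 : K ≤ (glSys D F).grp)
    (h3 : ∀ z ∈ K, GeneralLinearGroup.map ψ z = z) {y : GL D.Idx F} (hy : y ∈ (glSys D F).grp)
    (h : GeneralLinearGroup.map ψ y = y) {z : GL D.Idx F} (hz : z ∈ K) : y * z * y⁻¹ ∈ K := by
  obtain ⟨l, hl, a, ha, h4, rfl⟩ := exists_GS_mul hE hy h
  obtain ⟨m, hm, b, hb, -, rfl⟩ := exists_GS_mul hE (h2 hz) (h3 z hz)
  have h5 : b ∈ K := (K.mul_mem_cancel_left (h1 hm)).mp hz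
  rw [show l * a * (m * b) * (l * a)⁻¹ = l * (a * m * a⁻¹) * (a * b * a⁻¹) * l⁻¹ by group,
    gl_H_comm a ha b hb, mul_inv_cancel_right]
  exact K.mul_mem (K.mul_mem (K.mul_mem (h1 hl) (h1 (conj_mem_GS hE ha h4 hm))) h5)
    (K.inv_mem (h1 hl))

end Cfsg.Agent.Chev
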