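import Mathlib
import Cfsg.Prelude.Def_G2
import Cfsg.Agent.Chev.Rep
import Cfsg.Agent.Classical.SLBasic

/-! The Chevalley group of type `G₂` as the automorphism group of the split octonions. -/

set_option autoImplicit false
set_option linter.unusedSectionVars false
set_option maxHeartbeats 400000
set_option maxRecDepth 100000

namespace Cfsg.Agent.Chev.Oct
open Cfsg.Lie Cfsg.Agent.BN Matrix
open scoped MatrixGroups

attribute [local instance] good2G2

variable {F : Type*} [Field F]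

/-- the action of the root elements on the coordinates -/
def act (r : ℕ) (t : F) (x : Fin 8 → F) : Fin 8 → F :=
  match r with
  | 0 => ![x 0, x 1, x 2, x 3 + t * x 2, x 4, x 5 - t * x 6, x 6, x 7]
  | 1 => ![x 0, x 1, x 2, x 3 - t * x 1, x 4 + t * x 6, x 5, x 6, x 7]
  | 2 => ![x 0 + t * x 6, x 1, x 2, x 3 - t * x 0 - t ^ 2 * x 6 + t * x 7, x 4 + t * x 2, x 5 - t * x 1, x 6, x 7 - t * x 6]
  | 3 => ![x 0 - t * x 2, x 1 + t * x 6, x 2, x 3 - t * x 4, x 4, x 5 + t * x 0 - t ^ 2 * x 2 - t * x 7, x 6, x 7 + t * x 2]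
  | 4 => ![x 0 + t * x 1, x 1, x 2 + t * x 6, x 3 - t * x 5, x 4 - t * x 0 - t ^ 2 * x 1 + t * x 7, x 5, x 6, x 7 - t * x 1]
  | 5 => ![x 0, x 1 - t * x 2, x 2, x 3, x 4, x 5 + t * x 4, x 6, x 7]
  | 6 => ![x 0, x 1, x 2 - t * x 1, x 3, x 4 + t * x 5, x 5, x 6, x 7]
  | 7 => ![x 0 - t * x 4, x 1 + t * x 0 - t ^ 2 * x 4 - t * x 7, x 2, x 3, x 4, x 5 - t * x 3, x 6 + t * x 2, x 7 + t * x 4]
  | 8 => ![x 0 + t * x 5, x 1, x 2 - t * x 0 - t ^ 2 * x 5 + t * x 7, x 3, x 4 - t * x 3, x 5, x 6 + t * x 1, x 7 - t * x 5]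
  | 9 => ![x 0 - t * x 3, x 1 - t * x 5, x 2 + t * x 4, x 3, x 4, x 5, x 6 + t * x 0 - t ^ 2 * x 3 - t * x 7, x 7 + t * x 3]
  | 10 => ![x 0, x 1 - t * x 3, x 2, x 3, x 4, x 5, x 6 + t * x 4, x 7]
  | 11 => ![x 0, x 1, x 2 + t * x 3, x 3, x 4, x 5, x 6 - t * x 5, x 7]
  | _ => x

/-- the columns of the root elements -/
def tab : List (List (List (ℕ × ℕ × ℤ))) :=
  [[[], [], [(3, 1, 1)], [], [], [], [(5, 1, -1)], []], [[], [(3, 1, -1)], [], [], [], [], [(4, 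
  1, 1)], []], [[(3, 1, -1)], [(5, 1, -1)], [(4, 1, 1)], [], [], [], [(0, 1, 1), (7, 1, -1), (3, 
  2, -1)], [(3, 1, 1)]], [[(5, 1, 1)], [], [(0, 1, -1), (7, 1, 1), (5, 2, -1)], [], [(3, 1, -1)], 
  [], [(1, 1, 1)], [(5, 1, -1)]], [[(4, 1, -1)], [(0, 1, 1), (7, 1, -1), (4, 2, -1)], [], [], [], 
  [(3, 1, -1)], [(2, 1, 1)], [(4, 1, 1)]], [[], [], [(1, 1, -1)], [], [(5, 1, 1)], [], [], []], 
  [[], [(2, 1, -1)], [], [], [], [(4, 1, 1)], [], []], [[(1, 1, 1)], [], [(6, 1, 1)], [(5, 1, 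
  -1)], [(0, 1, -1), (7, 1, 1), (1, 2, -1)], [], [], [(1, 1, -1)]], [[(2, 1, -1)], [(6, 1, 1)], 
  [], [(4, 1, -1)], [], [(0, 1, 1), (7, 1, -1), (2, 2, -1)], [], [(2, 1, 1)]], [[(6, 1, 1)], [], 
  [], [(0, 1, -1), (7, 1, 1), (6, 2, -1)], [(2, 1, 1)], [(1, 1, -1)], [], [(6, 1, -1)]], [[], [], 
  [], [(1, 1, -1)], [(6, 1, 1)], [], [], []], [[], [], [], [(2, 1, 1)], [], [(6, 1, -1)], [], []]]

/-- a column of a root element -/
def col (r b : ℕ) : List (ℕ × ℕ × ℤ) := (tab.getD r []).getD b []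

theorem chk_tab : ∀ r < chevG2.nroots, chkCommR chevG2 8 col r = true := by decide +kernel

theorem v8 {a0 a1 a2 a3 a4 a5 a6 a7 b0 b1 b2 b3 b4 b5 b6 b7 : F} (h0 : a0 = b0) (h1 : a1 = b1)
    (h2 : a2 = b2) (h3 : a3 = b3) (h4 : a4 = b4) (h5 : a5 = b5) (h6 : a6 = b6) (h7 : a7 = b7) :
    ![a0, a1, a2, a3, a4, a5, a6, a7] = ![b0, b1, b2, b3, b4, b5, b6, b7] := by
  subst_vars; rfl

theorem eta8 (x : Fin 8 → F) : x = ![x 0, x 1, x 2, x 3, x 4, x 5, x 6, x 7] := by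
  ext i; fin_cases i <;> rfl

theorem zm (x y : Fin 8 → F) : zornMul x y = ![x 0 * y 0 + (x 1 * y 4 + x 2 * y 5 + x 3 * y 6),
    x 0 * y 1 + y 7 * x 1 - (x 5 * y 6 - x 6 * y 5), x 0 * y 2 + y 7 * x 2 - (x 6 * y 4 - x 4 * y 6),
    x 0 * y 3 + y 7 * x 3 - (x 4 * y 5 - x 5 * y 4), y 0 * x 4 + x 7 * y 4 + (x 2 * y 3 - x 3 * y 2),
    y 0 * x 5 + x 7 * y 5 + (x 3 * y 1 - x 1 * y 3), y 0 * x 6 + x 7 * y 6 + (x 1 * y 2 - x 2 * y 1),
    x 4 * y 1 + x 5 * y 2 + x 6 * y 3 + x 7 * y 7] := rfl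

theorem all12 {p : ℕ → Prop} (h : p 0 ∧ p 1 ∧ p 2 ∧ p 3 ∧ p 4 ∧ p 5 ∧ p 6 ∧ p 7 ∧ p 8 ∧ p 9 ∧ p 10 ∧
    p 11) (r : Fin 12) : p r := by
  fin_cases r <;> simp only [h]

/-- the action of a root element as a linear map -/
def actL (r : Fin 12) (t : F) : (Fin 8 → F) →ₗ[F] (Fin 8 → F) where
  toFun := act r t
  map_add' x y := by fin_cases r <;> ext i <;> fin_cases i <;> simp [act] <;> ring
  map_smul' c x := by fin_cases r <;> ext i <;> fin_cases i <;> simp [act] <;> ring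

theorem act_add (r : Fin 12) (t u : F) (x : Fin 8 → F) :
    act r t (act r u x) = act r (t + u) x := by
  fin_cases r <;> ext i <;> fin_cases i <;> simp [act] <;> ring

theorem act_zero (r : Fin 12) (x : Fin 8 → F) : act r 0 x = x := by
  fin_cases r <;> ext i <;> fin_cases i <;> simp [act]

theorem act_mul (r : Fin 12) (t : F) (x y : Fin 8 → F) :
    act r t (zornMul x y) = zornMul (act r t x) (act r t y) := by
  refine all12 (p := fun r => act r t (zornMul x y) = zornMul (act r t x) (act r t y)) ?_ r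
  simp only [act, zm, Matrix.cons_val]
  refine ⟨?_, ?_, ?_, ?_, ?_, ?_, ?_, ?_, ?_, ?_, ?_, ?_⟩ <;>
    refine v8 ?_ ?_ ?_ ?_ ?_ ?_ ?_ ?_ <;> ring

theorem actL_mul (r : Fin 12) (t u : F) :
    LinearMap.toMatrix' (actL r t) * LinearMap.toMatrix' (actL r u) =
      LinearMap.toMatrix' (actL r (t + u)) := by
  rw [← LinearMap.toMatrix'_comp]; congr 1
  exact LinearMap.ext (act_add r t u)

theorem actL_zero (r : Fin 12) : LinearMap.toMatrix' (actL r (0 : F)) = 1 := by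
  rw [← LinearMap.toMatrix'_id]; congr 1
  exact LinearMap.ext (act_zero r)

/-- the root elements -/
noncomputable def X (r : Rt chevG2) (t : F) : GL (Fin 8) F :=
  ⟨LinearMap.toMatrix' (actL r t), LinearMap.toMatrix' (actL r (-t)),
    (actL_mul _ _ _).trans (by rw [add_neg_cancel]; exact actL_zero _),
    (actL_mul _ _ _).trans (by rw [neg_add_cancel]; exact actL_zero _)⟩

/-- the natural action -/
abbrev ac (g : GL (Fin 8) F) (v : Fin 8 → F) : Fin 8 → F := (g : Matrix (Fin 8) (Fin 8) F) *ᵥ v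

theorem ac_mul (g h : GL (Fin 8) F) (v : Fin 8 → F) : ac (g * h) v = ac g (ac h v) := by
  simp [ac]

theorem inv_ac (g : GL (Fin 8) F) (v : Fin 8 → F) : ac g⁻¹ (ac g v) = v := by
  rw [← ac_mul]; simp [ac]

theorem ac_inv (g : GL (Fin 8) F) (v : Fin 8 → F) : ac g (ac g⁻¹ v) = v := by
  rw [← ac_mul]; simp [ac]

theorem ac_X (r : Rt chevG2) (t : F) (v : Fin 8 → F) : ac (X r t) v = act r t v :=
  LinearMap.toMatrix'_mulVec (actL r t) v

theorem mem_iff {g : GL (Fin 8) F} :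
    g ∈ G2 F ↔ ∀ x y, ac g (zornMul x y) = zornMul (ac g x) (ac g y) := Iff.rfl

theorem X_mem (r : Rt chevG2) (t : F) : X r t ∈ G2 F := mem_iff.2 fun x y => by
  simp only [ac_X]; exact act_mul r t x y

/-- basis vectors -/
def bv (F : Type*) [Field F] (k : ℕ) : Fin 8 → F := fun i => if (i : ℕ) = k then 1 else 0

/-- the natural representation -/
noncomputable def rho (F : Type*) [Field F] : GL (Fin 8) F →* Module.End F (Fin 8 → F) :=
  (Matrix.toLinAlgEquiv' : Matrix (Fin 8) (Fin 8) F ≃ₐ[F] _).toMonoidHom.comp (Units.coeHom _)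

theorem rho_apply (g : GL (Fin 8) F) (v : Fin 8 → F) : rho F g v = ac g v := rfl

theorem bv_eq : bv F 0 = ![1, 0, 0, 0, 0, 0, 0, 0] ∧ bv F 1 = ![0, 1, 0, 0, 0, 0, 0, 0] ∧
    bv F 2 = ![0, 0, 1, 0, 0, 0, 0, 0] ∧ bv F 3 = ![0, 0, 0, 1, 0, 0, 0, 0] ∧
    bv F 4 = ![0, 0, 0, 0, 1, 0, 0, 0] ∧ bv F 5 = ![0, 0, 0, 0, 0, 1, 0, 0] ∧
    bv F 6 = ![0, 0, 0, 0, 0, 0, 1, 0] ∧ bv F 7 = ![0, 0, 0, 0, 0, 0, 0, 1] := by
  refine ⟨?_, ?_, ?_, ?_, ?_, ?_, ?_, ?_⟩ <;> ext i <;> fin_cases i <;> rfl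

theorem act_bv (r : Fin 12) (τ : F) (b : Fin 8) :
    act r τ (bv F b) = bv F b + evCV (bv F) τ (col r b) := by
  refine all12 (p := fun r => act r τ (bv F b) = bv F b + evCV (bv F) τ (col r b)) ?_ r
  fin_cases b <;> simp [act, bv_eq, evCV, col, tab]

theorem rho_X (r : Rt chevG2) (τ : F) (b : ℕ) :
    rho F (X r τ) (bv F b) = bv F b + evCV (bv F) τ (col r b) := by
  rw [rho_apply, ac_X]
  by_cases hb : b < 8
  · exact act_bv r τ ⟨b, hb⟩
  · have h1 : bv F b = 0 := funext fun i => if_neg (by omega)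
    have h2 : col r b = [] := by
      revert r
      change ∀ r : Fin 12, _
      intro r
      fin_cases r <;> exact List.getD_eq_default _ _ (by simpa [tab] using hb)
    rw [h1, h2]
    exact ((actL r τ).map_zero).trans (by simp [evCV])

theorem gl_ext {a b : GL (Fin 8) F} (h : ∀ k < 8, ac a (bv F k) = ac b (bv F k)) : a = b := by
  refine Units.ext (Matrix.ext fun i j => ?_)
  have e : bv F j = Pi.single j 1 := funext fun k => by simp [bv, Pi.single_apply, Fin.ext_iff]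
  simpa [e, ac] using congrFun (h j j.2) i

theorem X_add (r : Rt chevG2) (t u : F) : X r (t + u) = X r t * X r u :=
  Units.ext (actL_mul r t u).symm

theorem relAB_X : RelAB (D := chevG2) (X (F := F)) :=
  relAB_of_chk (rho F) (fun _ _ h => gl_ext h) rho_X X_add chk_tab

/-- the group generated by the root elements -/
def E (F : Type*) [Field F] : Subgroup (GL (Fin 8) F) := Subgroup.closure {a | ∃ r t, a = X r t}

theorem X_mem_E (r : Rt chevG2) (t : F) : X r t ∈ E F := Subgroup.subset_closure ⟨r, t, rfl⟩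

theorem E_le : E F ≤ G2 F := (Subgroup.closure_le _).2 (by rintro _ ⟨r, t, rfl⟩; exact X_mem r t)

/-- the orbit of the first idempotent -/
def R (x : Fin 8 → F) : Prop := ∃ e ∈ E F, ac e x = ![1, 0, 0, 0, 0, 0, 0, 0]

theorem R.step {x y : Fin 8 → F} (h : R y) (r : Fin 12) (t : F) (e : act r t x = y) : R x := by
  obtain ⟨g, hg, h⟩ := h
  exact ⟨g * X r t, mul_mem hg (X_mem_E r t), (ac_mul _ _ _).trans (by rw [← h, ← e]; exact congrArg _ (ac_X _ _ _))⟩

theorem R0 : R ![(1 : F), 0, 0, 0, 0, 0, 0, 0] := ⟨1, one_mem _, by simp [ac]⟩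

theorem R1 {c : F} (hc : c ≠ 0) (d e : F) : R ![1, 0, 0, 0, c, d, e, 0] :=
  ((R0.step 4 c (x := ![1, 0, 0, 0, c, 0, 0, 0]) (by simp [act])).step 5 (-d / c)
    (x := ![1, 0, 0, 0, c, d, 0, 0]) (by simp [act]; field_simp; ring)).step 10 (-e / c)
    (by simp [act]; field_simp; ring)

theorem R2 (c d e : F) : R ![1, 0, 0, 0, c, d, e, 0] := by
  by_cases hc : c = 0
  swap
  · exact R1 hc d e
  by_cases hd : d = 0
  swap
  · exact (R1 hd d e).step 6 1 (by simp [act, hc])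
  by_cases he : e = 0
  swap
  · exact (R1 he d e).step 1 1 (by simp [act, hc])
  rw [hc, hd, he]; exact R0

theorem R3 {a : F} (ha : a ≠ 0) {b c d e f : F} (h : a * d + b * e + c * f = 0) :
    R ![1, a, b, c, d, e, f, 0] :=
  (((R2 0 e f).step 7 (-a) (x := ![1, a, 0, 0, 0, e, f, 0]) (by simp [act])).step 6 (b / a)
    (x := ![1, a, b, 0, -(b / a * e), e, f, 0]) (by simp [act]; field_simp; ring)).step 1 (c / a)
    (by simp [act]; constructor <;> field_simp <;> first | ring1 | linear_combination h)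

theorem R4 {a b c d e f : F} (h : a * d + b * e + c * f = 0) : R ![1, a, b, c, d, e, f, 0] := by
  by_cases ha : a = 0
  swap
  · exact R3 ha h
  subst ha
  by_cases hb : b = 0
  swap
  · exact (R3 hb (b := b) (c := c) (d := d) (e := e - d) (f := f) (by linear_combination h)).step 5
      (-1) (by simp [act, sub_eq_add_neg])
  by_cases hc : c = 0
  swap
  · exact (R3 hc (b := b) (c := c) (d := d) (e := e) (f := f - d) (by linear_combination h)).step 10
      (-1) (by simp [act, sub_eq_add_neg])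
  rw [hb, hc]; exact R2 d e f

/-- the trace -/
def tr (x : Fin 8 → F) : F := x 0 + x 7
/-- the norm -/
def nm (x : Fin 8 → F) : F := x 0 * x 7 - (x 1 * x 4 + x 2 * x 5 + x 3 * x 6)

theorem tr_act (r : Fin 12) (t : F) (x : Fin 8 → F) : tr (act r t x) = tr x := by
  fin_cases r <;> simp [act, tr]

theorem nm_act (r : Fin 12) (t : F) (x : Fin 8 → F) : nm (act r t x) = nm x := by
  fin_cases r <;> simp [act, nm] <;> ring

theorem R5 {x : Fin 8 → F} (h1 : tr x = 1) (h2 : nm x = 0) (h : x 0 = 1) : R x := by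
  have h7 : x 7 = 0 := by rw [tr] at h1; linear_combination h1 - h
  have := R4 (a := x 1) (b := x 2) (c := x 3) (d := x 4) (e := x 5) (f := x 6)
    (by rw [nm, h7] at h2; linear_combination -h2)
  convert this using 1
  ext i; fin_cases i <;> simp [h, h7]

theorem R6 {x : Fin 8 → F} (h1 : tr x = 1) (h2 : nm x = 0) (r : Fin 12) (t : F)
    (h : act r t x 0 = 1) : R x :=
  (R5 (by rw [tr_act, h1]) (by rw [nm_act, h2]) h).step r t rfl

theorem R7 {x : Fin 8 → F} (h1 : tr x = 1) (h2 : nm x = 0) : R x := by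
  have k1 : ∀ {x : Fin 8 → F}, tr x = 1 → nm x = 0 → x 1 ≠ 0 → R x := fun {x} h1 h2 h =>
    R6 h1 h2 4 ((1 - x 0) / x 1) (by simp [act]; field_simp; ring)
  by_cases a1 : x 1 = 0
  swap
  · exact k1 h1 h2 a1
  by_cases a2 : x 2 = 0
  swap
  · exact R6 h1 h2 3 ((x 0 - 1) / x 2) (by simp [act]; field_simp; ring)
  by_cases a3 : x 3 = 0
  swap
  · exact R6 h1 h2 9 ((x 0 - 1) / x 3) (by simp [act]; field_simp; ring)
  by_cases a4 : x 4 = 0
  swap
  · exact R6 h1 h2 7 ((x 0 - 1) / x 4) (by simp [act]; field_simp; ring)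
  by_cases a0 : x 0 = 1
  · exact R5 h1 h2 a0
  have h0 : x 0 = 0 := by
    rw [nm, a1, a2, a3] at h2
    rw [tr] at h1
    exact (mul_eq_zero.1 (by linear_combination h2 - x 0 * h1 : x 0 * (1 - x 0) = 0)).resolve_right
      fun h => a0 (by linear_combination -h)
  have h7 : x 7 = 1 := by rw [tr] at h1; linear_combination h1 - h0
  exact (k1 (by rw [tr_act, h1]) (by rw [nm_act, h2]) (by simp [act, a1, a4, h0, h7])).step 7 1 rfl

end Cfsg.Agent.Chev.Oct
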