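import Mathlib
import Cfsg.Agent.Chev.Oct
import Cfsg.Agent.S1055

/-! The automorphism group of the split octonions is generated by the root elements. -/

set_option autoImplicit false
set_option linter.unusedSectionVars false
set_option maxHeartbeats 400000
set_option maxRecDepth 100000

namespace Cfsg.Agent.Chev.Oct
open Cfsg.Lie Cfsg.Agent.BN Matrix
open scoped MatrixGroups

attribute [local instance] good2G2

variable {F : Type*} [Field F]

/-- the unit -/
def one8 (F : Type*) [Field F] : Fin 8 → F := ![1, 0, 0, 0, 0, 0, 0, 1]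

theorem one_mul8 (x : Fin 8 → F) : zornMul (one8 F) x = x := by
  rw [zm]; refine Eq.trans ?_ (eta8 x).symm; simp [one8]

theorem mul_one8 (x : Fin 8 → F) : zornMul x (one8 F) = x := by
  rw [zm]; refine Eq.trans ?_ (eta8 x).symm; simp [one8]

theorem ac_one8 {g : GL (Fin 8) F} (hg : g ∈ G2 F) : ac g (one8 F) = one8 F := by
  have := mem_iff.1 hg (one8 F) (ac g⁻¹ (one8 F))
  rw [one_mul8, ac_inv, mul_one8] at this
  exact this.symm

theorem ac_inj (g : GL (Fin 8) F) {x y : Fin 8 → F} (h : ac g x = ac g y) : x = y := by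
  rw [← inv_ac g x, h, inv_ac]

theorem idem {x : Fin 8 → F} (h : zornMul x x = x) (h0 : x ≠ 0) (h1 : x ≠ one8 F) :
    tr x = 1 ∧ nm x = 0 := by
  have e := fun i => congrFun h i
  have e0 := e 0; have e1 := e 1; have e2 := e 2; have e3 := e 3; have e4 := e 4; have e5 := e 5
  have e6 := e 6; have e7 := e 7
  simp only [zm, Matrix.cons_val] at e0 e1 e2 e3 e4 e5 e6 e7
  have ht : tr x = 1 := by
    by_contra ht
    have hc : x 0 + x 7 - 1 ≠ 0 := sub_ne_zero.2 ht
    have a1 : x 1 = 0 := (mul_eq_zero.1 (by linear_combination e1)).resolve_left hc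
    have a2 : x 2 = 0 := (mul_eq_zero.1 (by linear_combination e2)).resolve_left hc
    have a3 : x 3 = 0 := (mul_eq_zero.1 (by linear_combination e3)).resolve_left hc
    have a4 : x 4 = 0 := (mul_eq_zero.1 (by linear_combination e4)).resolve_left hc
    have a5 : x 5 = 0 := (mul_eq_zero.1 (by linear_combination e5)).resolve_left hc
    have a6 : x 6 = 0 := (mul_eq_zero.1 (by linear_combination e6)).resolve_left hc
    have a7 : x 7 = x 0 := sub_eq_zero.1
      ((mul_eq_zero.1 (by linear_combination e7 - e0)).resolve_left hc)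
    rw [a1, a2, a3] at e0
    rw [eta8 x, a1, a2, a3, a4, a5, a6, a7] at h0 h1
    rcases mul_eq_zero.1 (by linear_combination e0 : x 0 * (x 0 - 1) = 0) with h | h
    · exact h0 (by rw [h]; ext i; fin_cases i <;> rfl)
    · exact h1 (by rw [sub_eq_zero.1 h]; rfl)
  refine ⟨ht, ?_⟩
  rw [tr] at ht
  rw [nm]
  linear_combination x 0 * ht - e0

/-- the upper right corner -/
def va (a : Fin 3 → F) : Fin 8 → F := ![0, a 0, a 1, a 2, 0, 0, 0, 0]

theorem exists_E (A : SL(3, F)) : ∃ e ∈ E F, ac e (bv F 0) = bv F 0 ∧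
    ∀ a, ac e (va a) = va (A.1 *ᵥ a) := by
  refine Classical.SLBasic.transvection_induction (fun A : SL(3, F) => ∃ e ∈ E F,
    ac e (bv F 0) = bv F 0 ∧ ∀ a, ac e (va a) = va (A.1 *ᵥ a)) (fun i j h c => ?_) ?_ A
  · have key : ∀ (r : Fin 12) (t : F), act r t (bv F 0) = bv F 0 →
        (∀ a, act r t (va a) = va ((SpecialLinearGroup.transvection h c).1 *ᵥ a)) →
        ∃ e ∈ E F, ac e (bv F 0) = bv F 0 ∧
          ∀ a, ac e (va a) = va ((SpecialLinearGroup.transvection h c).1 *ᵥ a) :=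
      fun r t h1 h2 => ⟨X r t, X_mem_E _ _, (ac_X _ _ _).trans h1, fun a => (ac_X _ _ _).trans (h2 a)⟩
    fin_cases i <;> fin_cases j <;> first | exact absurd rfl h | skip
    on_goal 1 => refine key 5 (-c) (by simp [act, bv_eq]) fun a => ?_
    on_goal 2 => refine key 10 (-c) (by simp [act, bv_eq]) fun a => ?_
    on_goal 3 => refine key 6 (-c) (by simp [act, bv_eq]) fun a => ?_
    on_goal 4 => refine key 11 c (by simp [act, bv_eq]) fun a => ?_
    on_goal 5 => refine key 1 (-c) (by simp [act, bv_eq]) fun a => ?_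
    on_goal 6 => refine key 0 c (by simp [act, bv_eq]) fun a => ?_
    all_goals simp [act, va, SpecialLinearGroup.transvection, Matrix.transvection, add_mulVec,
      single_mulVec, Function.update_apply]
  · rintro A B ⟨e, he, h1, h2⟩ ⟨e', he', h1', h2'⟩
    exact ⟨e * e', mul_mem he he', by rw [ac_mul, h1', h1], fun a => by
      rw [ac_mul, h2', h2, mulVec_mulVec]; rfl⟩

theorem ac_add (g : GL (Fin 8) F) (x y : Fin 8 → F) : ac g (x + y) = ac g x + ac g y := mulVec_add _ _ _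
theorem ac_smul (g : GL (Fin 8) F) (c : F) (x : Fin 8 → F) : ac g (c • x) = c • ac g x :=
  mulVec_smul _ _ _
theorem ac_zero (g : GL (Fin 8) F) : ac g 0 = 0 := mulVec_zero _

theorem stab_a {g : GL (Fin 8) F} (hg : g ∈ G2 F) (h : ac g (bv F 0) = bv F 0) (a : Fin 3 → F) :
    ac g (va a) = va ![ac g (va a) 1, ac g (va a) 2, ac g (va a) 3] := by
  have h1 := mem_iff.1 hg (bv F 0) (va a)
  have h2 := mem_iff.1 hg (va a) (bv F 0)
  rw [show zornMul (bv F 0) (va a) = va a by simp [zm, bv_eq, va], h] at h1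
  rw [show zornMul (va a) (bv F 0) = 0 by ext i; fin_cases i <;> simp [zm, bv_eq, va], h,
    ac_zero] at h2
  have h3 := congrFun h2 0
  generalize ac g (va a) = y at *
  simp [zm, bv_eq] at h1 h3
  rw [h1]; simp [va, ← h3]

theorem eq_one_of {g : GL (Fin 8) F} (hg : g ∈ G2 F) (h : ac g (bv F 0) = bv F 0)
    (h1 : ac g (bv F 1) = bv F 1) (h2 : ac g (bv F 2) = bv F 2) (h3 : ac g (bv F 3) = bv F 3) :
    g = 1 := by
  have h4 := mem_iff.1 hg (bv F 2) (bv F 3)
  have h5 := mem_iff.1 hg (bv F 3) (bv F 1)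
  have h6 := mem_iff.1 hg (bv F 1) (bv F 2)
  have e4 : zornMul (bv F 2) (bv F 3) = bv F 4 := by simp [zm, bv_eq]
  have e5 : zornMul (bv F 3) (bv F 1) = bv F 5 := by simp [zm, bv_eq]
  have e6 : zornMul (bv F 1) (bv F 2) = bv F 6 := by simp [zm, bv_eq]
  rw [h2, h3, e4] at h4
  rw [h3, h1, e5] at h5
  rw [h1, h2, e6] at h6
  have h7 := ac_one8 hg
  rw [show one8 F = bv F 0 + bv F 7 by simp [one8, bv_eq], ac_add, h, add_right_inj] at h7
  refine gl_ext fun k hk => ?_
  rw [show ac 1 (bv F k) = bv F k by simp [ac]]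
  interval_cases k <;> assumption

theorem stab_mem {g : GL (Fin 8) F} (hg : g ∈ G2 F) (h : ac g (bv F 0) = bv F 0) : g ∈ E F := by
  have e1 : bv F 1 = va ![1, 0, 0] := by simp [bv_eq, va]
  have e2 : bv F 2 = va ![0, 1, 0] := by simp [bv_eq, va]
  have e3 : bv F 3 = va ![0, 0, 1] := by simp [bv_eq, va]
  have s1 := stab_a hg h ![1, 0, 0]
  have s2 := stab_a hg h ![0, 1, 0]
  have s3 := stab_a hg h ![0, 0, 1]
  have hd := mem_iff.1 hg (va ![0, 0, 1]) (zornMul (va ![1, 0, 0]) (va ![0, 1, 0]))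
  rw [mem_iff.1 hg (va ![1, 0, 0]), show zornMul (va ![0, 0, 1]) (zornMul (va ![1, 0, 0])
    (va ![0, 1, 0])) = bv F 0 by simp [zm, bv_eq, va], h, s1, s2, s3] at hd
  set u := ac g (va ![1, 0, 0])
  set v := ac g (va ![0, 1, 0])
  set w := ac g (va ![0, 0, 1])
  have hd0 := congrFun hd 0
  simp [zm, va, bv_eq] at hd0
  obtain ⟨e, he, k0, k⟩ := exists_E ⟨!![u 1, v 1, w 1; u 2, v 2, w 2; u 3, v 3, w 3], by
    rw [det_fin_three]; simp; linear_combination -hd0⟩
  have : e⁻¹ * g = 1 := eq_one_of (mul_mem (inv_mem (E_le he)) hg)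
    (by rw [ac_mul, h]; exact ac_inj e (by rw [ac_inv, k0]))
    (by rw [ac_mul, e1]; exact ac_inj e (by rw [ac_inv, k]; exact s1.trans (by simp [va])))
    (by rw [ac_mul, e2]; exact ac_inj e (by rw [ac_inv, k]; exact s2.trans (by simp [va])))
    (by rw [ac_mul, e3]; exact ac_inj e (by rw [ac_inv, k]; exact s3.trans (by simp [va])))
  rw [← inv_mul_eq_one.1 this]; exact he

theorem idem_ac {g : GL (Fin 8) F} (hg : g ∈ G2 F) :
    tr (ac g (bv F 0)) = 1 ∧ nm (ac g (bv F 0)) = 0 := by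
  refine idem ?_ (fun h => ?_) fun h => ?_
  · rw [← mem_iff.1 hg]; congr 1; simp [zm, bv_eq]
  · simpa [bv_eq] using congrFun (ac_inj g (h.trans (ac_zero g).symm)) 0
  · simpa [bv_eq, one8] using congrFun (ac_inj g (h.trans (ac_one8 hg).symm)) 7

theorem G2_eq : G2 F = E F := le_antisymm (fun g hg => by
  obtain ⟨e, he, h⟩ := R7 (idem_ac hg).1 (idem_ac hg).2
  have := stab_mem (mul_mem (E_le he) hg) (by rw [ac_mul, h, bv_eq.1])
  simpa using mul_mem (inv_mem he) this) E_le

theorem center_G2 : Subgroup.center (G2 F) = ⊥ := eq_bot_iff.2 fun z hz => by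
  have hc : ∀ (r : Fin 12) x, act r 1 (ac z.1 x) = ac z.1 (act r 1 x) := fun r x => by
    have := congrArg (fun g : G2 F => ac g.1 x) (Subgroup.mem_center_iff.1 hz ⟨X r 1, X_mem _ _⟩)
    simp only [Subgroup.coe_mul, ac_mul] at this
    exact (ac_X _ _ _).symm.trans (this.trans (congrArg _ (ac_X _ _ _)))
  have k : ∀ r : Fin 12, act r 1 (bv F 0) = bv F 0 → act r 1 (ac z.1 (bv F 0)) = ac z.1 (bv F 0) :=
    fun r h => by rw [hc, h]
  have k0 := k 0 (by simp [act, bv_eq])
  have k1 := k 1 (by simp [act, bv_eq])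
  have k10 := k 10 (by simp [act, bv_eq])
  have k11 := k 11 (by simp [act, bv_eq])
  obtain ⟨t1, t2⟩ := idem_ac z.2
  have m := mem_iff.1 z.2 (bv F 0) (bv F 1)
  have c7 := hc 7 (bv F 0)
  have c8 := hc 8 (bv F 0)
  have c2 := hc 2 (bv F 0)
  rw [show act (7 : Fin 12) 1 (bv F 0) = bv F 0 + bv F 1 by simp [act, bv_eq], ac_add] at c7
  rw [show act (8 : Fin 12) 1 (bv F 0) = bv F 0 + (-1 : F) • bv F 2 by simp [act, bv_eq], ac_add,
    ac_smul] at c8
  rw [show act (2 : Fin 12) 1 (bv F 0) = bv F 0 + (-1 : F) • bv F 3 by simp [act, bv_eq], ac_add,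
    ac_smul] at c2
  rw [show zornMul (bv F 0) (bv F 1) = bv F 1 by simp [zm, bv_eq]] at m
  have a1 : ac z.1 (bv F 0) 1 = 0 := by simpa [act] using congrFun k1 3
  have a2 : ac z.1 (bv F 0) 2 = 0 := by simpa [act] using congrFun k0 3
  have a3 : ac z.1 (bv F 0) 3 = 0 := by simpa [act] using congrFun k10 1
  have a4 : ac z.1 (bv F 0) 4 = 0 := by simpa [act] using congrFun k10 6
  have a5 : ac z.1 (bv F 0) 5 = 0 := by simpa [act] using congrFun k11 6
  have a6 : ac z.1 (bv F 0) 6 = 0 := by simpa [act] using congrFun k0 5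
  have hx := eta8 (ac z.1 (bv F 0))
  rw [a1, a2, a3, a4, a5, a6] at hx
  rw [tr] at t1
  rw [nm, a1, a2, a3] at t2
  generalize ac z.1 (bv F 0) 0 = α at *
  generalize ac z.1 (bv F 0) 7 = β at *
  have b1 : ac z.1 (bv F 1) = (α - β) • bv F 1 := by
    rw [← sub_eq_iff_eq_add', hx] at c7
    rw [← c7]; ext i; fin_cases i <;> simp [act, bv_eq]
  have hβ : β = 0 := by
    have := congrFun m 1
    rw [b1, hx] at this
    simp [zm, bv_eq] at this
    have h2 : (α - β) * β = 0 := by linear_combination this + (α - β) * t1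
    have h3 : β * β = 0 := by linear_combination t2 - h2
    exact mul_self_eq_zero.1 h3
  have hα : α = 1 := by linear_combination t1 - hβ
  subst hα hβ
  refine Subtype.ext (eq_one_of z.2 (hx.trans bv_eq.1.symm) (by simpa using b1) ?_ ?_)
  · rw [← sub_eq_iff_eq_add', hx, neg_one_smul, ← neg_eq_iff_eq_neg] at c8
    rw [← c8]; ext i; fin_cases i <;> simp [act, bv_eq]
  · rw [← sub_eq_iff_eq_add', hx, neg_one_smul, ← neg_eq_iff_eq_neg] at c2
    rw [← c2]; ext i; fin_cases i <;> simp [act, bv_eq]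

theorem iso_G2 (hs : IsSimpleGroup (chevG2.group F)) : Nonempty (chevG2.group F ≃* G2 F) := by
  obtain ⟨e⟩ := relAB_X.iso_quot hs (G2_eq (F := F)) (by
    rw [center_G2]
    intro h
    have : (⟨X (0 : Fin 12) 1, X_mem _ _⟩ : G2 F) ∈ (⊥ : Subgroup (G2 F)) := h ▸ trivial
    have := congrFun ((ac_X _ _ (bv F 2)).symm.trans
      (congrArg (fun g : G2 F => ac g.1 (bv F 2)) (Subgroup.mem_bot.1 this))) 3
    simp [act, bv_eq, ac] at this)
  exact ⟨e.trans ((QuotientGroup.quotientMulEquivOfEq center_G2).trans QuotientGroup.quotientBot)⟩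

theorem tr_ac {g : GL (Fin 8) F} (hg : g ∈ G2 F) (x : Fin 8 → F) : tr (ac g x) = tr x := by
  rw [G2_eq] at hg
  induction hg using Subgroup.closure_induction generalizing x with
  | mem g hg => obtain ⟨r, t, rfl⟩ := hg; rw [ac_X]; exact tr_act r t x
  | one => simp [ac]
  | mul a b _ _ ha hb => rw [ac_mul, ha, hb]
  | inv a _ ha => rw [← ha, ac_inv]

end Cfsg.Agent.Chev.Oct
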