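import Mathlib
import Cfsg.Agent.Chev.Lang3
import Cfsg.Agent.Chev.Inv2
import Cfsg.Agent.Chev.Emb

/-! Twisted maximal tori. -/

set_option autoImplicit false
set_option linter.unusedSectionVars false
set_option maxHeartbeats 400000

namespace Cfsg.Agent.Chev
open Cfsg.Lie Cfsg.Agent.BN StSys Matrix

variable {D : ChevalleyDatum} [g : Good2 D] {F : Type*} [Field F] {G : Type*} [Group G]

/-- the value of a root on the torus, in coroot coordinates -/
def chr (c : Ix D → Fˣ) (r : Rt D) : Fˣ := ∏ i, c i ^ ca i r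

/-- the matrix of a map of roots on the coroot lattice -/
def cvM (ω : Rt D → Rt D) : Matrix (Ix D) (Ix D) ℤ := of fun j k => cv (ω (sim j)) k

namespace StSys
variable {S : StSys D F G}

theorem R3.conj_chr (h3 : S.R3) (c : Ix D → Fˣ) (s : Rt D) (u : F) :
    h3.hT c * S.x s u * (h3.hT c)⁻¹ = S.x s (chr c s * u) := by
  rw [h3.hT_conj, ← prod_ca_eq]; rfl

theorem R3.hT_mem (h3 : S.R3) (c : Ix D → Fˣ) : h3.hT c ∈ S.H := S.hP_mem _ _

theorem R3.ns_conj (h3 : S.R3) (i : Ix D) (c : Ix D → Fˣ) : S.ns i * h3.hT c * (S.ns i)⁻¹ =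
    h3.hT (c * Pi.mulSingle i (chr c (sim i))⁻¹) := by
  have h1 : ∀ u, (h3.hT c)⁻¹ * S.x (sim i) u * h3.hT c = S.x (sim i) ((chr c (sim i))⁻¹ * u) :=
    fun u => by simpa [chr] using h3.conj_chr c⁻¹ (sim i) u
  have h2 : ∀ u, (h3.hT c)⁻¹ * S.x (ng (sim i)) u * h3.hT c = S.x (ng (sim i)) (chr c (sim i) * u) :=
    fun u => by simpa [chr] using h3.conj_chr c⁻¹ (ng (sim i)) u
  have h4 : (h3.hT c)⁻¹ * S.ns i * h3.hT c = S.n (sim i) (chr c (sim i))⁻¹ := by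
    have := congrArg₂ (· * ·) (congrArg₂ (· * ·) (h1 1) (h2 (-1))) (h1 1)
    simpa [ns, StSys.n, mul_assoc] using this
  rw [map_mul, h3.hT_mulSingle, h_eq, Units.val_inv_eq_inv_val, ← h4, ns]
  group

theorem R3.mono_conj (h3 : S.R3) {n : G} (hn : n ∈ S.N) {w : W D} (hm : S.Mono n w)
    (c : Ix D → Fˣ) : n * h3.hT c * n⁻¹ = h3.hT (pw Fˣ (cvM (w • ·)) c) := by
  obtain ⟨l, rfl⟩ := invGen.gen w
  have h1 : wp S.ns l * h3.hT c * (wp S.ns l)⁻¹ = h3.hT (pw Fˣ (cvM (wp sW l • ·)) c) := by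
    clear hm
    induction l with
    | nil =>
      rw [show cvM ((wp sW [] : W D) • ·) = 1 from by
        ext j k; simp [cvM, one_apply, Pi.single_apply, eq_comm], pw_one]
      simp
    | cons i l ih =>
      rw [wp_cons, wp_cons, _root_.mul_inv_rev, ← mul_assoc, mul_assoc _ _ (h3.hT c),
        mul_assoc (S.ns i), ih, h3.ns_conj]
      congr 1
      ext1 k
      simp only [chr, pw_apply, cvM, of_apply, mul_smul, sW_smul, cv_rf, pr, Pi.mul_apply,
        Pi.sub_apply, Pi.smul_apply, smul_eq_mul, _root_.zpow_sub, Finset.prod_mul_distrib,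
        Finset.prod_inv_distrib, ← Finset.prod_zpow, ← _root_.zpow_mul]
      congr 1
      by_cases e : k = i
      · subst e; simp [zpow_sum_eq, Finset.prod_comm (γ := Ix D) (s := Finset.univ)
          (f := fun x y => c y ^ (cv (wp sW l • sim y) x * ca x (sim k)))]
      · simp [e]
  have h2 := mem_H_of_mono_eq (S.wp_ns_mem l) hn (S.mono_wp l) hm
  rw [← h1, ← mul_inv_cancel_left (wp S.ns l) n, mul_assoc _ _ (h3.hT c),
    h3.H_comm _ h2 _ (h3.hT_mem c)]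
  group

theorem mem_N_of_reg {y z : G} (hy : y ∈ S.grp) (hz : z ∈ S.H) {χ : Rt D → F}
    (hχ : ∀ r t, z * S.x r t * z⁻¹ = S.x r (χ r * t)) (h1 : ∀ r, χ r ≠ 1)
    (e : S.θ (z * y * z⁻¹) = S.θ y) : y ∈ S.N := by
  obtain ⟨w, hw⟩ := exists_cell hy
  obtain ⟨u, hu, a, ha, hm, v, hv, rfl⟩ := exists_normal' hw
  have hu' : z * u * z⁻¹ ∈ S.U := B_conj_U (S.H_le_B hz) hu
  have hv' : z * v * z⁻¹ ∈ S.Uw w := (Subgroup.mem_normalizer_iff.mp (S.H_le_normalizer _ hz) v).mp hv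
  have ha' : z * a * z⁻¹ ∈ S.N := mul_mem (mul_mem (S.H_le_N hz) ha) (inv_mem (S.H_le_N hz))
  have hm' : S.Mono (z * a * z⁻¹) w := by
    simpa using ((mono_of_mem_H hz).mul hm).mul (mono_of_mem_H (inv_mem hz))
  obtain ⟨h2, -, h3⟩ := normal_unique' (S := glSys D F) (S.θ_mem hu') (S.θ_mem hu)
    (map_mem_N S.θ S.θ_x ha') (map_mem_N S.θ S.θ_x ha) (hm'.map S.θ S.θ_x) (hm.map S.θ S.θ_x)
    (S.θ_mem hv') (S.θ_mem hv) (by simpa [mul_assoc] using e)
  have key : ∀ u ∈ S.U, S.θ (z * u * z⁻¹) = S.θ u → u = 1 := fun u hu h => by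
    have := mem_of_diag uni_pos hχ hu (S.eq_of_θ uni_pos (B_conj_U (S.H_le_B hz) hu) hu h)
    simpa [h1] using this
  rw [key u hu h2, key v (Uw_le_U w hv) h3]
  simpa using ha

end StSys

/-- the twisted torus in coroot coordinates -/
def Tω (F : Type*) [Field F] (ω : Rt D → Rt D) (q : ℕ) : Subgroup (Ix D → Fˣ) :=
  ((powMonoidHom q).comp (pw Fˣ (cvM ω))).eqLocus (MonoidHom.id _)

theorem mem_Tω {ω : Rt D → Rt D} {q : ℕ} {c : Ix D → Fˣ} :
    c ∈ Tω F ω q ↔ pw Fˣ (cvM ω) c ^ q = c := Iff.rfl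

theorem pw_tau (σ : Sym D) (w : W D) (q : ℕ) (c : Ix D → Fˣ) :
    pw Fˣ (cvM (w • ·)) (Tw.tau σ (fun _ => q) c) = pw Fˣ (cvM fun r => w • σ.p r) c ^ q := by
  ext1 k
  simp only [pw_apply, cvM, of_apply, Pi.pow_apply, σ.p_sim, ← Finset.prod_pow]
  refine (Fintype.prod_equiv σ.π _ _ fun i => ?_).symm
  simp [Tw.tau, ← zpow_natCast, ← _root_.zpow_mul, mul_comm]

/-- an element twisting an endomorphism by a Weyl group element -/
structure TwTor {S : StSys D F G} (h3 : S.R3) {σ : Sym D} (m : Mor S S σ) (q : ℕ) (w : W D)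
    (a : G) : Prop where
  top : S.grp = ⊤
  ker : h3.hT.ker = ⊥
  pow : ∀ i t, m.φ (sim i) t = t ^ q
  mem : a⁻¹ * m.f a ∈ S.N
  mono : S.Mono (a⁻¹ * m.f a) w

namespace TwTor
variable {S : StSys D F G} {h3 : S.R3} {σ : Sym D} {m : Mor S S σ} {q : ℕ} {w : W D} {a : G}
  (h : TwTor h3 m q w a)
include h

theorem f_conj (c : Ix D → Fˣ) : m.f (a * h3.hT c * a⁻¹) =
    a * h3.hT (pw Fˣ (cvM fun r => w • σ.p r) c ^ q) * a⁻¹ := by
  rw [← pw_tau, ← h3.mono_conj h.mem h.mono, ← m.toTw.f_hT h3 h.pow]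
  simp [Mor.toTw, mul_assoc]

theorem fix_iff {c : Ix D → Fˣ} : m.f (a * h3.hT c * a⁻¹) = a * h3.hT c * a⁻¹ ↔
    c ∈ Tω F (fun r => w • σ.p r) q := by
  rw [h.f_conj, mul_left_inj, mul_right_inj, ((MonoidHom.ker_eq_bot_iff _).mp h.ker).eq_iff, mem_Tω]

theorem inf_ker : Tω F (fun r => w • σ.p r) q ⊓ (pw Fˣ (cartanM D)).ker =
    Tw.Tσ σ (fun _ => q) ⊓ (pw Fˣ (cartanM D)).ker := by
  ext c
  refine and_congr_left fun hc => ?_
  have h1 : h3.hT c ∈ Subgroup.center G := h3.center_eq h.top ▸ ⟨c, hc, rfl⟩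
  refine h.fix_iff.symm.trans ?_
  rw [Subgroup.mem_center_iff.mp h1, mul_inv_cancel_right]
  exact (Eq.congr_left (m.toTw.f_hT h3 h.pow c)).trans
    ((MonoidHom.ker_eq_bot_iff _).mp h.ker).eq_iff

theorem cent {c : Ix D → Fˣ} (h1 : ∀ r, chr c r ≠ 1) (h2 : ∀ v : W D,
    (∀ r, v • w • σ.p r = w • σ.p (v • r)) → (∀ r, chr c (v • r) = chr c r) → v = 1) {y : G}
    (hy : m.f y = y) (hc : Commute (S.θ y) (S.θ (a * h3.hT c * a⁻¹))) :
    ∃ d ∈ Tω F (fun r => w • σ.p r) q, y = a * h3.hT d * a⁻¹ := by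
  obtain ⟨y, rfl⟩ : ∃ z, y = a * z * a⁻¹ := ⟨a⁻¹ * y * a, by group⟩
  have e : S.θ (h3.hT c * y * (h3.hT c)⁻¹) = S.θ y := by
    have := hc.eq
    simp only [map_mul, map_inv, mul_assoc, inv_mul_cancel_left, mul_right_inj] at this ⊢
    rw [← mul_assoc, ← mul_assoc, mul_left_inj] at this
    rw [← mul_assoc, ← this, mul_inv_cancel_right]
  have hN := mem_N_of_reg (h.top ▸ Subgroup.mem_top y) (h3.hT_mem c) (h3.conj_chr c)
    (fun r e => h1 r (Units.ext e)) e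
  obtain ⟨v, hv⟩ := exists_mono hN
  have h4 : w * σ.ρ v * w⁻¹ = v := ((h.mono.mul (m.mono hN hv)).mul h.mono.inv).unique (by
    rwa [show a⁻¹ * m.f a * m.f y * (a⁻¹ * m.f a)⁻¹ = a⁻¹ * m.f (a * y * a⁻¹) * a by
      simp [mul_assoc], hy, show a⁻¹ * (a * y * a⁻¹) * a = y by group])
  obtain rfl := h2 v (fun r => by
    rw [← σ.ρ_smul, ← mul_smul, ← mul_smul, ← mul_inv_eq_iff_eq_mul.mp h4]) fun r => by
      obtain ⟨b, hb, h5, -⟩ := hv.exists_conj r
      have h6 := congrArg (fun z => z * S.θ (S.x r (chr c r)) * z⁻¹) e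
      have h7 := h3.conj_chr c r 1
      rw [mul_one] at h7
      simp only [← map_inv S.θ, ← map_mul S.θ] at h6
      rw [h5, ← h7, show h3.hT c * y * (h3.hT c)⁻¹ * (h3.hT c * S.x r 1 * (h3.hT c)⁻¹) *
        (h3.hT c * y * (h3.hT c)⁻¹)⁻¹ = h3.hT c * (y * S.x r 1 * y⁻¹) * (h3.hT c)⁻¹ by group, h5,
        h3.conj_chr, S.θ_x, S.θ_x] at h6
      exact Units.ext (mul_right_cancel₀ hb (by rw [← mul_one b, XG_inj h6, mul_one, mul_comm]))
  obtain ⟨d, rfl⟩ := h3.exists_hT (mem_H_of_mono hN hv)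
  exact ⟨d, h.fix_iff.mp hy, rfl⟩

end TwTor

theorem Aut.relAB (a : Aut D) {F' G' : Type*} [Field F'] [Group G'] (S : StSys D F' G')
    (ψ : F →+* F') : RelAB fun r t => S.x (a.p r) (a.η r * ψ t) := by
  refine ⟨fun r t u => by rw [map_add, mul_add, S.add], fun r s h1 h2 t u => ?_⟩
  rw [S.comm _ _ (a.p.injective.ne h1) (a.p_ng r ▸ a.p.injective.ne h2), a.commWord_p]
  congr 1
  have h := fun c (hc : c ∈ D.commTerms r s) => (mem_commTerms hc).2.2
  simp only [ChevalleyDatum.commWord, List.map_map]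
  generalize D.commTerms r s = l at h
  induction l with
  | nil => rfl
  | cons c l ih =>
    obtain ⟨v, hv, -⟩ := h c (by simp)
    simp only [List.map_cons, Function.comp_apply, hv, a.w_eq, wd_cons]
    rw [ih fun c hc => h c (by simp [hc])]
    simp

theorem Aut.exists_st (a : Aut D) {σ : Sym D} (h : a.p = σ.p) (h1 : ∀ i : Ix D, a.η (sim i) = 1)
    {F' : Type*} [Field F'] (ψ : F →+* F') : ∃ m : Mor (stSys D F) (stSys D F') σ,
      (∀ r t, m.φ r t = a.η r * ψ t) ∧ ∀ y, (stSys D F').θ (m.f y) =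
        (a.mor σ h).f (GeneralLinearGroup.map ψ ((stSys D F).θ y)) := by
  let m : Mor (scSys D F) (stSys D F') σ := ⟨scLift (a.relAB _ ψ), fun r t => a.η r * ψ t,
    fun r t => by rw [← h]; exact scLift_x _ r t, fun r t ht => by
      rw [a.η_ng, mul_mul_mul_comm, a.η_sqF, ← map_mul, mul_neg, mul_inv_cancel₀ ht, one_mul,
        map_neg, map_one]⟩
  have h2 : ∀ i t, t ≠ 0 → m.f ((scSys D F).h (sim i) t) = (stSys D F').h (sim (σ.π i)) (ψ t) :=
    fun i t ht => by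
      rw [StSys.h, map_mul, m.f_n _ ht, m.f_n _ (neg_ne_zero.mpr one_ne_zero), σ.p_sim]
      simp [-sim_val, m, h1, StSys.h]
  have h3 := (scSys D F).map_h_mul m.f fun i t u ht hu => by
    rw [h2 _ _ ht, h2 _ _ hu, h2 _ _ (mul_ne_zero ht hu), map_mul,
      st_R3 _ _ _ ((_root_.map_ne_zero ψ).mpr ht) ((_root_.map_ne_zero ψ).mpr hu)]
  refine ⟨⟨stLift (a.relAB (stSys D F') ψ) fun r t u ht hu => by
    simpa only [m, ← wd_hWord, map_wd, scLift_x] using h3 r t u ht hu, m.φ,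
      fun r t => by rw [← h]; exact stLift_x _ _ r t, m.φ_inv⟩, fun _ _ => rfl, fun y => ?_⟩
  refine DFunLike.congr_fun (hom_ext st_grp (f := (stSys D F').θ.comp _) (f' := ((a.mor σ h).f.comp
    (fieldGL D ψ).f).comp (stSys D F).θ) fun r t => ?_) y
  simp only [MonoidHom.comp_apply, stLift_x, θ_x]
  exact (h ▸ ((a.mor σ h).comp (fieldGL D ψ)).f_x r t).symm

theorem trans_id (l : List (ℕ × ℤ)) : trans id (fun _ => 1) 1 l 1 = l := by
  induction l with
  | nil => rfl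
  | cons a l ih => simp [trans_cons, ih]

variable (D) in
/-- the identity automorphism of the tables -/
def Aut.one : Aut D where
  w := id
  η _ := 1
  T := 1
  p := 1
  w_eq _ := rfl
  p_ng _ := rfl
  η_sq _ := rfl
  η_ng _ := rfl
  cv_p _ := one_mulVec _
  ca_p r j := by simp [one_apply]
  chain _ _ := (trans_id _).symm

theorem exists_twTor [IsAlgClosed F] (p : ℕ) [Fact p.Prime] [CharP F p] {e : ℕ} (he : e ≠ 0)
    (hk : (st_R3 (D := D) (F := F)).hT.ker = ⊥) (a : Aut D) {σ : Sym D} (h : a.p = σ.p)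
    (h1 : ∀ i : Ix D, a.η (sim i) = 1) : ∃ m : Mor (stSys D F) (stSys D F) σ,
      (∀ r t, m.φ r t = a.η r * iterateFrobenius F p e t) ∧
      (∃ f : GL D.Idx F →* GL D.Idx F, ∀ y, (stSys D F).θ (m.f y) = f ((stSys D F).θ y)) ∧
        ∀ w, ∃ b, TwTor st_R3 m (p ^ e) w b := by
  obtain ⟨m, h2, h3⟩ := a.exists_st h h1 (iterateFrobenius F p e)
  refine ⟨m, h2, ⟨(a.mor σ h).f.comp (GeneralLinearGroup.map (iterateFrobenius F p e)),
    fun y => by rw [h3, MonoidHom.comp_apply]⟩, fun w => ?_⟩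
  obtain ⟨n, hn, hm⟩ := (stSys D F).exists_N w
  obtain ⟨y, hy, e1⟩ := par_grp.lang p he (c := a.isUnit_mat.unit) (σ := fun y => (a.mor σ h).f
    (GeneralLinearGroup.map (iterateFrobenius F p e) y))
    (fun y hy => ⟨(a.mor σ h).mem_grp ((fieldGL D _).mem_grp hy), rfl⟩)
    ((stSys D F).θ_mem ((stSys D F).N_le_grp hn))
  obtain ⟨b, hb⟩ := (stSys D F).θG_surjective st_grp ⟨y, group_eq.ge hy⟩
  obtain rfl : (stSys D F).θ b = y := congrArg Subtype.val hb
  have h4 : n⁻¹ * (b⁻¹ * m.f b) ∈ (stSys D F).H := (stSys D F).center_le_H st_grp (by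
    rw [← ker_θ _ st_grp, MonoidHom.mem_ker, map_mul, map_mul, h3, map_inv, map_inv, e1,
      inv_mul_cancel])
  exact ⟨b, st_grp, hk, fun i t => by rw [h2, h1]; simp [iterateFrobenius_def],
    by simpa using mul_mem hn (H_le_N _ h4), by simpa using hm.mul (mono_of_mem_H h4)⟩

end Cfsg.Agent.Chev
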