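import Mathlib
import Cfsg.Agent.Chev.Tori

/-! Cyclic twisted tori. -/

set_option autoImplicit false
set_option linter.unusedSectionVars false
set_option maxHeartbeats 400000

namespace Cfsg.Agent.Chev
open Cfsg.Lie Cfsg.Agent.BN StSys Matrix

noncomputable section
/-- the value of an integer polynomial -/
def evp (l : ℕ) (a : ℕ → ℤ) (q : ℤ) : ℤ := sumN l fun j => a j * q ^ j

/-- entries of a companion matrix -/
def cmp (l : ℕ) (μ : ℕ → ℤ) (i j : ℕ) : ℤ := if j + 1 < l then if i = j + 1 then 1 else 0 else - μ i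

/-- the value of `a` at `q ≥ q0` is never divisible by that of the monic polynomial `μ` -/
def nd (l : ℕ) (μ a : ℕ → ℤ) (q0 : ℕ) : Bool :=
  allN l (fun j => Nat.ble (a j).natAbs 4) && anyN l (fun j => !ieq (a j) 0) &&
    allN 9 fun q => Nat.blt q q0 || !ieq (evp l a q % (q ^ l + evp l μ q)) 0

/-- iterates of a table -/
def itB (Ω j r : ℕ) : ℕ := Nat.rec r (fun _ ih => byte Ω ih) j

def Cert.chkWeyl (c : Cert) (D : ChevalleyDatum) (Ω α : ℕ) (sep : ℕ → Bool) : Bool :=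
  allN D.rank (fun i => allN D.nroots fun β => Nat.beq β (D.simple i) || anyN D.rank fun j =>
    force (itB Ω j α) fun γ => !ieq (c.cpr D γ β) (c.cpr D γ (D.simple i))) &&
  allN D.nroots fun β => Nat.beq β α || sep β || anyN D.rank fun j =>
    !ieq (c.cpr D (itB Ω j β) β) (c.cpr D (itB Ω j α) α)

def Cert.chkCyc (c : Cert) (D : ChevalleyDatum) (Ω : ℕ) (P P' Q : List (List ℤ)) (μ : List ℤ)
    (FT α q0 : ℕ) : Bool :=
  chkMul D.rank (ent2 P) (ent2 P') (dia []) (dia []) &&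
  chkMul D.rank (ent2 P) (cmp D.rank (μ.getD · 0)) (ent2 Q) (dia []) &&
  chkMul D.rank (fun j k => c.cv D (byte Ω (D.simple j)) k) (ent2 Q) (ent2 P) (dia []) &&
  allN D.rank (fun j => Nat.ble (μ.getD j 0).natAbs 4) && Nat.beq (μ.getD 0 0).natAbs 1 &&
  allN D.nroots (fun r => nd D.rank (μ.getD · 0) (nib FT D.rank r) q0 && allN D.rank fun j =>
    ieq (nib FT D.rank r j) (sumN D.rank fun i => ent2 P' j i * c.ca D i r)) &&
  Nat.blt α D.nroots && c.chkWeyl D Ω α fun β =>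
    nd D.rank (μ.getD · 0) (fun j => nib FT D.rank β j - nib FT D.rank α j) q0
end

theorem evp_succ (l : ℕ) (a : ℕ → ℤ) (q : ℤ) : evp (l + 1) a q = evp l a q + a l * q ^ l := rfl

theorem evp_eq (l : ℕ) (a : ℕ → ℤ) (q : ℤ) : evp l a q = ∑ j : Fin l, a j * q ^ (j : ℕ) :=
  sumN_eq _ _

theorem evp_bound {a : ℕ → ℤ} {q : ℤ} (hq : 9 ≤ q) {l : ℕ} (h : ∀ j < l, (a j).natAbs ≤ 4) :
    2 * |evp l a q| < q ^ l := by
  induction l with
  | zero => simp [evp, sumN]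
  | succ l ih =>
    have h1 := ih fun j hj => h j (by omega)
    have h2 : |a l| ≤ 4 := by have := h l (by omega); rw [Int.abs_eq_natAbs]; omega
    have h3 : 0 < q ^ l := by positivity
    have h4 := abs_add_le (evp l a q) (a l * q ^ l)
    rw [abs_mul, abs_of_pos h3] at h4
    rw [evp_succ, pow_succ]
    nlinarith

theorem evp_ne {a : ℕ → ℤ} {q : ℤ} (hq : 9 ≤ q) {l : ℕ} (h : ∀ j < l, (a j).natAbs ≤ 4)
    (h0 : ∃ j < l, a j ≠ 0) : evp l a q ≠ 0 := by
  induction l with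
  | zero => simp at h0
  | succ l ih =>
    have h1 : ∀ j < l, (a j).natAbs ≤ 4 := fun j hj => h j (by omega)
    rw [evp_succ]
    by_cases e : a l = 0
    · obtain ⟨j, hj, h2⟩ := h0
      rw [e, zero_mul, add_zero]
      exact ih h1 ⟨j, lt_of_le_of_ne (by omega) fun e' => h2 (e' ▸ e), h2⟩
    · intro h2
      have h3 := evp_bound hq h1
      have h4 : 0 < q ^ l := by positivity
      rw [eq_neg_of_add_eq_zero_left h2, abs_neg, abs_mul, abs_of_pos h4] at h3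
      nlinarith [Int.one_le_abs e]

theorem nd_spec {l : ℕ} {μ a : ℕ → ℤ} {q0 : ℕ} (h : nd l μ a q0 = true)
    (hμ : ∀ j < l, (μ j).natAbs ≤ 4) {q : ℕ} (hq : q0 ≤ q) : ¬ (q ^ l + evp l μ q ∣ evp l a q) := by
  simp only [nd, Bool.and_eq_true, allN_iff, anyN_iff, Nat.ble_eq, Bool.or_eq_true, Nat.blt_eq,
    Bool.not_eq_true', ieq_false_iff] at h
  intro hd
  by_cases h9 : q < 9
  · exact (h.2 q h9).resolve_left (by omega) (Int.emod_eq_zero_of_dvd hd)
  have h1 : (9 : ℤ) ≤ q := by omega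
  have h2 := evp_bound h1 h.1.1
  have h3 := evp_bound h1 hμ
  have h4 := Int.le_abs_of_dvd (evp_ne h1 h.1.1 h.1.2) hd
  linarith [neg_abs_le (evp l μ q)]

theorem pow_eq_pw_cmp {n : ℕ} {M : Type*} [CommGroup M] (μ : ℕ → ℤ) (q : ℕ) (y : Fin (n + 1) → M) :
    y ^ q = pw M (of fun i j : Fin (n + 1) => cmp (n + 1) μ i j) y ↔
      ∃ x : M, x ^ ((q : ℤ) ^ (n + 1) + evp (n + 1) μ q) = 1 ∧
        y = fun j : Fin (n + 1) => x ^ q ^ (j : ℕ) := by
  have h1 : ∀ (y : Fin (n + 1) → M) (j : Fin n),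
      pw M (of fun i j : Fin (n + 1) => cmp (n + 1) μ i j) y j.castSucc = y j.succ := fun y j => by
    rw [pw_apply, Finset.prod_eq_single j.succ] <;> simp +contextual [cmp, Fin.ext_iff]
  have h2 : ∀ x : M, (x ^ q ^ n) ^ q = pw M (of fun i j : Fin (n + 1) => cmp (n + 1) μ i j)
      (fun j => x ^ q ^ (j : ℕ)) (Fin.last n) ↔ x ^ ((q : ℤ) ^ (n + 1) + evp (n + 1) μ q) = 1 :=
    fun x => by
      rw [_root_.zpow_add, mul_eq_one_iff_eq_inv, evp_eq, zpow_sum_eq, pw_apply, ← pow_mul, ← pow_succ,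
        ← Finset.prod_inv_distrib, ← Nat.cast_pow, zpow_natCast]
      simp [cmp, ← zpow_natCast, ← _root_.zpow_mul, mul_comm]
  constructor
  · intro h
    have h3 : y = fun j : Fin (n + 1) => y 0 ^ q ^ (j : ℕ) := funext fun j => by
      induction j using Fin.induction with
      | zero => simp
      | succ j ih => rw [← h1 y, ← h, Pi.pow_apply, ih, ← pow_mul, Fin.val_succ, pow_succ]; rfl
    refine ⟨y 0, (h2 _).mp ?_, h3⟩
    rw [← h3, ← h, Pi.pow_apply, congrFun h3 (Fin.last n)]; rfl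
  · rintro ⟨x, hx, rfl⟩
    ext j
    induction j using Fin.lastCases with
    | last => exact (h2 x).mpr hx
    | cast j => rw [h1, Pi.pow_apply, ← pow_mul, Fin.val_succ, pow_succ]; rfl

theorem pw_pow_eq_iff {l : ℕ} (hl : 0 < l) {M : Type*} [CommGroup M] {μ : ℕ → ℤ}
    {B P P' Q : Matrix (Fin l) (Fin l) ℤ} (h1 : P * P' = 1)
    (h2 : P * (of fun i j : Fin l => cmp l μ i j) = Q) (h3 : B * Q = P) (q : ℕ) (c : Fin l → M) :
    pw M B c ^ q = c ↔
      ∃ x : M, x ^ ((q : ℤ) ^ l + evp l μ q) = 1 ∧ c = pw M P' fun j => x ^ q ^ (j : ℕ) := by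
  obtain ⟨n, rfl⟩ : ∃ n, l = n + 1 := ⟨l - 1, by omega⟩
  have h4 := mul_eq_one_comm.mp h1
  rw [← (pw_bijective (M := M) (U := Q) (U' := P' * B) (mul_eq_one_comm.mp (by
    rw [mul_assoc, h3, h4]))).1.eq_iff, map_pow, ← pw_mul, h3, ← h2, pw_mul, pow_eq_pw_cmp]
  refine exists_congr fun x => and_congr_right fun _ => ?_
  rw [← (pw_bijective h4).1.eq_iff, ← pw_mul, h1, pw_one]

variable {D : ChevalleyDatum} [g : Good2 D] {F : Type*} [Field F] {G : Type*} [Group G]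

theorem eq_one_of_chkWeyl {Ω : ℕ} {α : Rt D} {sep : ℕ → Bool}
    (h : g.cert.chkWeyl D Ω α sep = true) {σ : Sym D} {w v : W D}
    (hΩ : ∀ r, ((w • σ.p r : Rt D) : ℕ) = byte Ω r) (h1 : ∀ r, v • w • σ.p r = w • σ.p (v • r))
    (h2 : sep (v • α : Rt D) ≠ true) : v = 1 := by
  simp only [Cert.chkWeyl, Bool.and_eq_true, allN_iff, anyN_iff, Bool.or_eq_true, Nat.beq_eq,
    Bool.not_eq_true', ieq_false_iff, force_eq] at h
  have h3 : ∀ j (r : Rt D), ∃ s : Rt D, itB Ω j r = s ∧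
      itB Ω j (v • r : Rt D) = (v • s : Rt D) := fun j r => by
    induction j with
    | zero => exact ⟨r, rfl, rfl⟩
    | succ j ih =>
      obtain ⟨s, e1, e2⟩ := ih
      exact ⟨w • σ.p s, by rw [hΩ, ← e1]; rfl, by rw [h1, hΩ, ← e2]; rfl⟩
  have h4 : v • α = α := by
    rcases h.2 _ (v • α).2 with (e | e) | ⟨j, -, e⟩
    · exact Fin.ext e
    · exact absurd e h2
    · obtain ⟨s, e1, e2⟩ := h3 j α
      exact absurd (by rw [e1, e2, cpr_eq, cpr_eq, pr_smul]) e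
  refine eq_one_of_pos fun i => ?_
  rcases h.1 i i.2 _ (v • sim i).2 with e | ⟨j, -, e⟩
  · exact (Fin.ext e : v • sim i = sim i).symm ▸ pos_sim i
  · obtain ⟨s, e1, e2⟩ := h3 j α
    rw [h4, e1] at e2
    exact absurd (by rw [e1, ← sim_val, cpr_eq, cpr_eq, ← pr_smul v s (sim i), ← Fin.ext e2]) e

theorem exists_gen [IsAlgClosed F] {Ω FT α q0 : ℕ} {P P' Q : List (List ℤ)} {μ : List ℤ}
    (h : g.cert.chkCyc D Ω P P' Q μ FT α q0 = true) {σ : Sym D} {w : W D}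
    (hΩ : ∀ r, ((w • σ.p r : Rt D) : ℕ) = byte Ω r) {q M : ℕ} (hq : q0 ≤ q) (hF : (q : F) = 0)
    (hM : (M : ℤ) = q ^ D.rank + evp D.rank (μ.getD · 0) q) :
    ∃ c : Ix D → Fˣ, orderOf c = M ∧ Tω F (fun r => w • σ.p r) q = Subgroup.zpowers c ∧
      (∀ r, chr c r ≠ 1) ∧ ∀ v : W D, (∀ r, v • w • σ.p r = w • σ.p (v • r)) →
        (∀ r, chr c (v • r) = chr c r) → v = 1 := by
  simp only [Cert.chkCyc, Bool.and_eq_true, allN_iff, Nat.ble_eq, Nat.beq_eq, Nat.blt_eq,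
    ieq_iff] at h
  obtain ⟨⟨⟨⟨⟨⟨⟨h1, h2⟩, h3⟩, h4⟩, h5⟩, h6⟩, h7⟩, h8⟩ := h
  replace h1 := chkMul_spec h1
  replace h2 := chkMul_spec h2
  replace h3 := chkMul_spec h3
  rw [of_dia_nil, mul_one] at h1 h2 h3
  have hl := g.rank_pos
  haveI : NeZero (M : F) := ⟨fun e => by
    have := congrArg (Int.cast : ℤ → F) hM
    rw [evp_eq] at this
    push_cast at this
    rw [e, hF, zero_pow hl.ne', zero_add, Finset.sum_eq_single ⟨0, hl⟩ (fun j _ hj => by
      rw [zero_pow fun e => hj (Fin.ext e), mul_zero]) (by simp)] at this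
    rcases Int.natAbs_eq_iff.mp h5 with e | e <;> simp [-List.getD_eq_getElem?_getD, e] at this⟩
  haveI : NeZero M := .of_neZero_natCast F
  obtain ⟨x, hx⟩ := HasEnoughRootsOfUnity.exists_primitiveRoot F M
  lift x to Fˣ using hx.isUnit (NeZero.ne M)
  rw [IsPrimitiveRoot.coe_units_iff] at hx
  let e : Fˣ →* (Ix D → Fˣ) := (pw Fˣ (of fun i j : Ix D => ent2 P' i j)).comp
    (MonoidHom.pi fun j : Ix D => powMonoidHom (q ^ (j : ℕ)))
  have he : Function.Injective e := (pw_bijective (mul_eq_one_comm.mp h1)).1.comp fun a b h => by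
    simpa using congrFun h ⟨0, hl⟩
  have hc : ∀ r, chr (e x) r = x ^ evp D.rank (nib FT D.rank r) q := fun r => by
    simp only [chr, e, MonoidHom.comp_apply, pw_apply, MonoidHom.pi_apply, powMonoidHom_apply,
      ← zpow_natCast, ← _root_.zpow_mul, ← zpow_sum_eq, evp_eq, Finset.sum_mul, of_apply]
    rw [Finset.sum_comm]
    refine congrArg _ (Finset.sum_congr rfl fun j _ => ?_)
    simp [(h6 r r.2).2 j j.2, sumN_eq, Finset.mul_sum, ca_eq', mul_comm, mul_left_comm, mul_assoc]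
  refine ⟨e x, by rw [orderOf_injective e he, ← hx.eq_orderOf], ?_, fun r hr => ?_,
    fun v h9 hv => eq_one_of_chkWeyl (α := ⟨α, h7⟩) h8 hΩ h9 fun hs => ?_⟩
  · ext c
    rw [mem_Tω, pw_pow_eq_iff hl h1 h2 (by
      rw [← h3]; congr 1; ext j k; simp only [cvM, of_apply, cv_eq, hΩ, sim_val]),
      ← MonoidHom.map_zpowers, hx.zpowers_eq, ← hM]
    simp only [zpow_natCast, Subgroup.mem_map, mem_rootsOfUnity]
    exact exists_congr fun y => and_congr_right fun _ => eq_comm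
  · rw [hc, hx.zpow_eq_one_iff_dvd, hM] at hr
    exact nd_spec (h6 r r.2).1 h4 hq hr
  · refine nd_spec hs h4 hq ?_
    have := hv ⟨α, h7⟩
    rw [hc, hc, ← mul_inv_eq_one, ← _root_.zpow_sub, hx.zpow_eq_one_iff_dvd, hM] at this
    simpa only [evp_eq, sub_mul, Finset.sum_sub_distrib] using this

/-- a group which is the image of the fixed points of an endomorphism -/
structure IsFix {S : StSys D F G} {σ : Sym D} (m : Mor S S σ) {Γ : Type*} [Group Γ]
    (j : Γ →* GL D.Idx F) : Prop where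
  inj : Function.Injective j
  mem : ∀ y, (∃ z, j z = y) ↔ ∃ z, m.f z = z ∧ S.θ z = y

theorem TwTor.exists_cyc {S : StSys D F G} {h3 : S.R3} {σ : Sym D} {m : Mor S S σ} {q : ℕ}
    {w : W D} {a : G} (h : TwTor h3 m q w a) {Γ : Type*} [Group Γ] {j : Γ →* GL D.Idx F}
    (hj : IsFix m j) {c : Ix D → Fˣ} (hc : Tω F (fun r => w • σ.p r) q = Subgroup.zpowers c)
    (h1 : ∀ r, chr c r ≠ 1) (h2 : ∀ v : W D, (∀ r, v • w • σ.p r = w • σ.p (v • r)) →
      (∀ r, chr c (v • r) = chr c r) → v = 1) : ∃ H : Subgroup Γ, IsCyclic H ∧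
      Nat.card ↥(Tw.Tσ (F := F) σ (fun _ => q) ⊓ (pw Fˣ (cartanM D)).ker) * Nat.card H = orderOf c ∧
        Subgroup.centralizer (H : Set Γ) = H := by
  let f := S.θ.comp ((MulAut.conj a).toMonoidHom.comp h3.hT)
  obtain ⟨t, ht⟩ := (hj.mem (f c)).mpr ⟨_, h.fix_iff.mpr (hc ▸ Subgroup.mem_zpowers c), rfl⟩
  refine ⟨Subgroup.zpowers t, inferInstance, ?_, le_antisymm (fun y hy => ?_) ?_⟩
  · rw [← h.inf_ker, ← Nat.card_zpowers c, ← card_map_mul f (Subgroup.zpowers c), hc, MonoidHom.map_zpowers, ← ht,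
      Nat.card_zpowers, Nat.card_zpowers, orderOf_injective j hj.inj]
    congr 3
    ext d
    simp [f, ← h3.θ_hT_eq_one]
  · obtain ⟨z, hz, e⟩ := (hj.mem _).mp ⟨y, rfl⟩
    obtain ⟨d, hd, rfl⟩ := h.cent h1 h2 hz (by
      rw [e]
      exact ht ▸ (Commute.symm (hy t (Subgroup.mem_zpowers t))).map j)
    obtain ⟨n, rfl⟩ := hc.le hd
    exact ⟨n, hj.inj (by rw [map_zpow, ht, ← map_zpow]; exact e)⟩
  · exact Subgroup.le_centralizer _

end Cfsg.Agent.Chev
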