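import Mathlib
import Cfsg.Agent.Chev.Tori2
import Cfsg.Agent.Chev.TwD4
import Cfsg.Agent.Chev.EmbC

/-! Finite groups as images of fixed points in the universal group. -/

set_option autoImplicit false
set_option linter.unusedSectionVars false
set_option maxHeartbeats 400000

namespace Cfsg.Agent.Chev
open Cfsg.Lie Cfsg.Agent.BN StSys Matrix

section
variable {D : ChevalleyDatum} [g : Good2 D] {F k : Type*} [Field F] [Field k] {G : Type*} [Group G]

theorem ker_st_of_ker (h : (pw Fˣ (cartanM D)).ker = ⊥) : (st_R3 (D := D) (F := F)).hT.ker = ⊥ :=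
  eq_bot_iff.mpr fun c hc => h.le ((st_R3.θ_hT_eq_one c).mp (by rw [hc, map_one]))

theorem exists_GS_iff (S : StSys D k G) (ι : F →+* k) (y : GL D.Idx k) :
    (∃ z ∈ (glSys D F).grp, GeneralLinearGroup.map ι z = y) ↔
      ∃ z ∈ S.GS ι.fieldRange, S.θ z = y := by
  have h1 := (Mor.ofHom (S' := glSys D k) S.θ S.θ_x).map_GS (ψ := RingHom.id k) (fun _ _ => rfl)
    ι.fieldRange
  rw [show ι.fieldRange.map (RingHom.id k) = ι.fieldRange from by ext; simp,
    ← (fieldGL D ι).map_grp fun _ _ => rfl] at h1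
  exact (SetLike.ext_iff.mp h1 y).symm

theorem exists_fix [Fintype F] [IsAlgClosed k] (ι : F →+* k)
    (hk : (st_R3 (D := D) (F := k)).hT.ker = ⊥) :
    ∃ (m : Mor (stSys D k) (stSys D k) (Sym.one D)) (j : D.group F →* GL D.Idx k), IsFix m j ∧
      (Fintype.card F : k) = 0 ∧ ∀ w, ∃ a, TwTor st_R3 m (Fintype.card F) w a := by
  obtain ⟨p, _, e, hp, he⟩ := FiniteField.card' F
  haveI := Fact.mk hp
  haveI := charP_of_injective_ringHom ι.injective p
  obtain ⟨m, h1, -, h2⟩ := exists_twTor p e.ne_zero hk (Aut.one D) (σ := Sym.one D) rfl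
    fun _ => rfl
  have h3 : ∀ r t, m.φ r t = iterateFrobenius k p e t := fun r t => by simp [h1, Aut.one]
  have h4 : ∀ t, t ∈ ι.fieldRange ↔ iterateFrobenius k p e t = t := fun t => by
    rw [mem_fieldRange_iff, he, iterateFrobenius_def]
  refine ⟨m, (GeneralLinearGroup.map ι).comp (D.group F).subtype, ⟨(GL_map_inj ι).comp
    Subtype.val_injective, fun y => ?_⟩, by simp [he], he ▸ h2⟩
  refine Iff.trans ?_ ((exists_GS_iff _ ι y).trans (exists_congr fun z => and_congr_left fun _ =>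
    ⟨m.fix_of_GS h3 h4, m.mem_GS_of_fix h3 h4 st_R3 hk (st_grp.ge (Subgroup.mem_top z))⟩))
  simp [group_eq]

theorem card_Tσ_one [Fintype F] (ι : F →+* k) :
    Nat.card ↥(Tw.Tσ (F := k) (Sym.one D) (fun _ => Fintype.card F) ⊓ (pw kˣ (cartanM D)).ker) =
      Nat.card (pw Fˣ (cartanM D)).ker := by
  let f : (Ix D → Fˣ) →* (Ix D → kˣ) := (Units.map ι.toMonoidHom).compLeft _
  have hf : Function.Injective f := (Units.map_injective ι.injective).comp_left
  have h1 : ∀ c, pw kˣ (cartanM D) (f c) = f (pw Fˣ (cartanM D) c) := fun c => funext fun j => by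
    simp [f, pw_apply]
  rw [← Subgroup.card_map_of_injective hf]
  congr 2
  ext c
  constructor
  · rintro ⟨h2, h3⟩
    choose d hd using fun i => (mem_fieldRange_iff ι (c i)).mpr
      (congrArg Units.val (Tw.mem_Tσ.mp h2 i)).symm
    obtain ⟨d, rfl⟩ : ∃ d, f d = c := ⟨fun i => Units.mk0 (d i) fun e => (c i).ne_zero (by
      rw [← hd, e, map_zero]), funext fun i => Units.ext (hd i)⟩
    exact ⟨d, hf (by rw [← h1, map_one]; exact h3), rfl⟩
  · rintro ⟨d, hd, rfl⟩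
    refine ⟨Tw.mem_Tσ.mpr fun i => Units.ext ((mem_fieldRange_iff ι _).mp ⟨d i, rfl⟩).symm, ?_⟩
    exact (h1 d).trans (by rw [hd, map_one])

theorem exists_cyc_chev [Fintype F]
    (hk : (st_R3 (D := D) (F := AlgebraicClosure F)).hT.ker = ⊥) {Ω FT α q0 : ℕ}
    {P P' Q : List (List ℤ)} {μ : List ℤ} (h : g.cert.chkCyc D Ω P P' Q μ FT α q0 = true)
    (l : List (Ix D)) (hΩ : allN D.nroots (fun r =>
      Nat.beq (g.cert.appW (l.map Fin.val) r) (byte Ω r)) = true) {q M : ℕ}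
    (hF : Fintype.card F = q) (hq : q0 ≤ q)
    (hM : (M : ℤ) = q ^ D.rank + evp D.rank (μ.getD · 0) q) : ∃ H : Subgroup (D.group F),
      IsCyclic H ∧ Nat.card (pw Fˣ (cartanM D)).ker * Nat.card H = M ∧
        Subgroup.centralizer (H : Set (D.group F)) = H := by
  subst hF
  obtain ⟨m, j, h1, h2, h3⟩ := exists_fix (algebraMap F _) hk
  obtain ⟨a, ha⟩ := h3 (wp sW l)
  obtain ⟨c, rfl, h4, h5, h6⟩ := exists_gen h (σ := Sym.one D) (w := wp sW l) (fun r =>
    (wp_smul_val l r).trans (Nat.eq_of_beq_eq_true ((allN_iff _ _).mp hΩ r r.2))) hq h2 hM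
  rw [← card_Tσ_one (algebraMap F (AlgebraicClosure F))]
  exact ha.exists_cyc h1 h4 h5 h6

theorem isFix_tw {σ : Sym D} {m : Mor (stSys D k) (stSys D k) σ} (ι : F →+* k)
    (T : Tw (glSys D F) σ) (hT : ∀ r t, ι (T.φ r t) = m.φ r (ι t)) {q : ℕ}
    (hq : ∀ i t, m.φ (sim i) t = t ^ q) {f : GL D.Idx k →* GL D.Idx k}
    (hf : ∀ y, (stSys D k).θ (m.f y) = f ((stSys D k).θ y))
    (hm : ∀ z, m.f z = z → z ∈ (stSys D k).GS ι.fieldRange)
    (hZ : ∀ c ∈ (pw kˣ (cartanM D)).ker, ∃ d ∈ (pw kˣ (cartanM D)).ker,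
      c * Tw.tau σ (fun _ => q) d = d) {Γ : Subgroup (GL D.Idx F)} (hΓ : Γ = T.Fx) :
    IsFix m ((GeneralLinearGroup.map ι).comp Γ.subtype) := by
  subst hΓ
  have h1 : ∀ z ∈ (glSys D F).grp, GeneralLinearGroup.map ι (T.f z) =
      f (GeneralLinearGroup.map ι z) := fun z hz => by
    induction hz using (glSys D F).XS_ind with
    | h1 => simp [T.f_one]
    | hs r _ t z hz ih =>
      rw [T.f_xmul r t hz, map_mul, map_mul, map_mul, ih]
      congr 1
      exact ((fieldGL D ι).f_x _ _).trans ((by rw [← (stSys D k).θ_x, ← hf, m.f_x, θ_x, ← hT]; rfl :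
        _ = f (XG r (ι t))).trans (congrArg f ((fieldGL D ι).f_x r t).symm))
  refine ⟨(GL_map_inj ι).comp Subtype.val_injective, fun y => ⟨?_, ?_⟩⟩
  · rintro ⟨⟨z, hz⟩, rfl⟩
    obtain ⟨y, -, hy⟩ := (exists_GS_iff (stSys D k) ι _).mp ⟨z, hz.1, rfl⟩
    have h2 : y⁻¹ * m.f y ∈ Subgroup.center _ := by
      rw [← ker_θ _ st_grp, MonoidHom.mem_ker, map_mul, hf, map_inv, hy, ← h1 z hz.1, hz.2,
        inv_mul_cancel]
    rw [st_R3.center_eq st_grp] at h2
    obtain ⟨c, hc, e⟩ := h2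
    obtain ⟨d, hd, e'⟩ := hZ c hc
    refine ⟨y * st_R3.hT d, ?_, by rw [map_mul, (st_R3.θ_hT_eq_one d).mpr hd, mul_one, hy]; rfl⟩
    rw [map_mul, show m.f (st_R3.hT d) = _ from m.toTw.f_hT st_R3 hq d, ← congrArg st_R3.hT e',
      map_mul, e]
    group
  · rintro ⟨y, hy, rfl⟩
    obtain ⟨z, hz, e⟩ := (exists_GS_iff (stSys D k) ι _).mpr ⟨y, hm y hy, rfl⟩
    exact ⟨⟨z, hz, GL_map_inj ι (by rw [h1 z hz, e, ← hf, hy])⟩, e⟩

end

attribute [local instance] good2D4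

theorem exists_fix_D4 {K k : Type*} [Field K] [Fintype K] [Field k] [IsAlgClosed k] (ι : K →+* k)
    {q : ℕ} (hq : IsPrimePow q) (hK : Fintype.card K = q ^ 3) :
    ∃ (m : Mor (stSys chevD4 k) (stSys chevD4 k) symD4a) (j : twistedD4 K q →* GL chevD4.Idx k),
      IsFix m j ∧ (q : k) = 0 ∧ Tw.Tσ (F := k) symD4a (fun _ => q) ⊓ (pw kˣ (cartanM chevD4)).ker = ⊥ ∧
        ∀ w, ∃ a, TwTor st_R3 m q w a := by
  obtain ⟨C⟩ := exists_CD4 hq hK
  obtain ⟨p, e, hp, he, rfl⟩ := (isPrimePow_nat_iff q).mp hq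
  haveI := Fact.mk hp
  haveI : CharP K p := (CharP.charP_iff_prime_eq_zero hp).mpr (by
    have := FiniteField.cast_card_eq_zero K
    rw [hK, ← pow_mul, Nat.cast_pow] at this
    exact pow_eq_zero_iff (by omega) |>.mp this)
  haveI := charP_of_injective_ringHom ι.injective p
  obtain ⟨m, h1, ⟨f, hf⟩, h2⟩ := exists_twTor p he.ne' (ker_st_D4 k)
    (mkAut sym_D4a gr_D4a graut_D4a graut_D4a') (σ := symD4a) rfl (by decide +kernel)
  have h3 : ∀ c : kˣ, c ^ 2 = 1 → c ^ p ^ e = c := fun c hc => Units.ext (by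
    rw [Units.val_pow_eq_pow_val, ← iterateFrobenius_def]
    rcases sq_eq_one_iff.mp (congrArg Units.val hc) with e | e <;> simp [e])
  have h4 : ∀ c ∈ (pw kˣ (cartanM chevD4)).ker, Tw.tau symD4a (fun _ => p ^ e) c =
      ![c (nD4 3), 1, c (nD4 0), c (nD4 2)] ∧ c (nD4 3) ^ 2 = 1 := fun c hc => by
    obtain ⟨a0, a1, a2, a3⟩ := (mem_ker_D4 c).mp hc
    have a4 : c (nD4 3) ^ 2 = 1 := by
      rw [← one_pow 2, ← a3, mul_pow, mul_pow, a0, a2, one_mul, one_mul]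
    refine ⟨Tw.tau_eq_iff.mpr fun i : Fin 4 => ?_, a4⟩
    rw [π_D4]
    fin_cases i
    exacts [(h3 _ a0).symm, by simp [a1], (h3 _ a2).symm, (h3 _ a4).symm]
  let m3 : Mor (stSys chevD4 k) (stSys chevD4 k) (Sym.one _) := ⟨m.f.comp (m.f.comp m.f),
    fun _ => iterateFrobenius k p (e * 3), fun r t => by
      have a1 : symD4a.p (symD4a.p (symD4a.p r)) = r ∧ sgn (bit gED4a (symD4a.p (symD4a.p r))) 1 *
        (sgn (bit gED4a (symD4a.p r)) 1 * sgn (bit gED4a r) 1) = 1 := by revert r; decide +kernel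
      have a2 := congrArg (Int.cast : ℤ → k) a1.2
      simp only [MonoidHom.comp_apply, m.f_x, h1, a1.1, map_mul, map_intCast, Sym.one_p, mkAut]
      push_cast at a2
      rw [← mul_assoc, ← mul_assoc, mul_assoc _ _ (Int.cast _), a2, one_mul]
      simp [iterateFrobenius_def, ← pow_mul, ← pow_add, Nat.mul_succ], fun r t ht => by
        rw [← map_mul, mul_neg, mul_inv_cancel₀ ht, map_neg, map_one]⟩
  refine ⟨m, _, isFix_tw ι C.T (fun r t => by simp [C.hT, C.hψ, h1, iterateFrobenius_def, mkAut])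
    (h2 1).choose_spec.pow hf (fun z hz => m3.mem_GS_of_fix (fun _ _ => rfl) (fun t => by
      rw [mem_fieldRange_iff, hK, iterateFrobenius_def, pow_mul]) st_R3 (ker_st_D4 k)
        (st_grp.ge (Subgroup.mem_top z)) (by simp [m3, hz])) (fun c hc => ?_) C.eq_Fx,
    by simp [he.ne'], eq_bot_iff.mpr fun c hc => ?_, h2⟩
  · obtain ⟨a0, a1, a2, a3⟩ := (mem_ker_D4 c).mp hc
    have a4 := h4 c hc
    have a5 : Tw.tau symD4a (fun _ => p ^ e) c ∈ (pw kˣ (cartanM chevD4)).ker := by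
      rw [a4.1]
      exact (mem_ker_D4 _).mpr ⟨a4.2, rfl, a0, (mul_rotate _ _ _).trans a3⟩
    refine ⟨_, a5, ?_⟩
    rw [(h4 _ a5).1, a4.1]
    have a6 : ∀ {x y z : kˣ}, x * y * z = 1 → z ^ 2 = 1 → x * y = z := fun {x y z} h hz => by
      rw [← mul_left_inj z, h, ← sq, hz]
    funext i
    fin_cases i
    exacts [a6 a3 a4.2, mul_one _ |>.trans a1, a6 ((mul_rotate _ _ _).symm.trans a3) a0,
      a6 ((mul_rotate _ _ _).trans a3) a2]
  · obtain ⟨a0, a1, a2, a3⟩ := (mem_ker_D4 c).mp hc.2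
    obtain ⟨b0, -, b1, -⟩ := (mem_Tσ_D4 c).mp hc.1
    rw [h3 _ a2, b0, h3 _ a0] at b1
    rw [h3 _ a0] at b0
    rw [b0, b1, ← sq, a0, one_mul] at a3
    funext i
    fin_cases i
    exacts [a3, a1, b0.trans a3, b1.trans a3]

end Cfsg.Agent.Chev
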