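import Mathlib
import Cfsg.Agent.Chev.Tori3
import Cfsg.Agent.H23.BrcI

/-! Every semisimple element of a finite Chevalley group lies in a twisted maximal torus. -/

set_option autoImplicit false
set_option linter.unusedSectionVars false
set_option maxHeartbeats 400000

namespace Cfsg.Agent.Chev
open Cfsg.Lie Cfsg.Agent.BN StSys Matrix

theorem natAbs_det_le {ι : Type} [Fintype ι] [DecidableEq ι] {k : Type*} [Field k] [IsAlgClosed k]
    {A : Matrix ι ι ℤ} (h : ((A.det : ℤ) : k) ≠ 0) [Finite (pw kˣ A).ker] :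
    A.det.natAbs ≤ Nat.card (pw kˣ A).ker := by
  have h0 : A.det ≠ 0 := fun e => h (by rw [e, Int.cast_zero])
  have hi : Function.Injective (toLin' A) := LinearMap.ker_eq_bot.mp
    (ker_toLin'_eq_bot_iff.mpr fun v hv => eq_zero_of_mulVec_eq_zero h0 hv)
  have h1 := Submodule.natAbs_det_equiv _ (LinearEquiv.ofInjective _ hi)
  rw [show (LinearMap.range (toLin' A)).subtype ∘ₗ AddMonoidHom.toIntLinearMap
    (LinearEquiv.ofInjective _ hi : (ι → ℤ) →+ LinearMap.range (toLin' A)) = toLin' A from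
      LinearMap.ext fun _ => rfl, LinearMap.det_toLin'] at h1
  set Q := (ι → ℤ) ⧸ LinearMap.range (toLin' A)
  haveI : Finite Q := Nat.finite_of_card_ne_zero (h1 ▸ Int.natAbs_ne_zero.mpr h0)
  haveI : NeZero ((Monoid.exponent (Multiplicative Q) : ℕ) : k) := ⟨fun e => h (by
    obtain ⟨m, hm⟩ := Group.exponent_dvd_nat_card (G := Multiplicative Q)
    rw [Nat.card_congr Multiplicative.toAdd, ← h1] at hm
    rcases Int.natAbs_eq A.det with e' | e' <;> rw [e', hm] <;> push_cast <;> rw [e] <;> simp)⟩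
  rw [h1, ← Nat.card_congr Multiplicative.toAdd,
    ← CommGroup.card_monoidHom_of_hasEnoughRootsOfUnity (Multiplicative Q) k]
  have key : ∀ (φ : Multiplicative Q →* kˣ) (v : ι → ℤ),
      φ (Multiplicative.ofAdd (Submodule.Quotient.mk v)) =
        ∏ i, φ (Multiplicative.ofAdd (Submodule.Quotient.mk (Pi.single i 1))) ^ v i := fun φ v => by
    conv_lhs => rw [← Finset.univ_sum_single v]
    rw [← Submodule.mkQ_apply, map_sum, ofAdd_sum, map_prod]
    refine Finset.prod_congr rfl fun i _ => ?_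
    rw [← map_zpow, ← ofAdd_zsmul, ← Submodule.Quotient.mk_smul, ← Pi.single_smul', smul_eq_mul,
      mul_one, Submodule.mkQ_apply]
  refine Nat.card_le_card_of_injective (fun φ => ⟨fun i =>
    φ (Multiplicative.ofAdd (Submodule.Quotient.mk (Pi.single i 1))), funext fun j => ?_⟩)
    fun φ ψ e => MonoidHom.ext fun x => ?_
  · rw [pw_apply, ← key φ fun i => A i j, (Submodule.Quotient.mk_eq_zero _).mpr
      (LinearMap.mem_range.mpr ⟨Pi.single j 1, by ext i; simp⟩)]
    simp
  · obtain ⟨v, hv⟩ := Submodule.Quotient.mk_surjective _ x.toAdd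
    rw [← ofAdd_toAdd x, ← hv, key, key]
    exact Finset.prod_congr rfl fun i _ => congrArg (· ^ v i) (congrFun (congrArg Subtype.val e) i)

variable {D : ChevalleyDatum} [g : Good2 D] {F k : Type*} [Field F] [Field k] {G : Type*} [Group G]

/-- the matrix of a Weyl group element on the coroot lattice -/
def wM (w : W D) : Matrix (Ix D) (Ix D) ℤ := cvM (w • ·)

theorem wM_apply (w : W D) (i j : Ix D) : wM w i j = cv (w • sim i) j := rfl

theorem wM_mul (v w : W D) : wM (v * w) = wM w * wM v := by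
  ext i j
  rw [wM_apply, mul_smul, cv_smul, mul_apply, Finset.sum_apply]; rfl

theorem wM_one : wM (1 : W D) = 1 := by
  ext j k; simp [wM_apply, one_apply, Pi.single_apply, eq_comm]

theorem sum_det (q : ℤ) : ∑ w : W D, (q • (1 : Matrix (Ix D) (Ix D) ℤ) - wM w).det =
    Fintype.card (W D) * q ^ D.rank := by
  let P : Finset (Ix D) → W D → Matrix (Ix D) (Ix D) ℤ := fun s w =>
    of fun i j => if i ∈ s then - wM w i j else if i = j then q else 0
  have h1 : ∀ w : W D, (q • (1 : Matrix (Ix D) (Ix D) ℤ) - wM w).det = ∑ s, det (P s w) :=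
    fun w => by
    rw [sub_eq_neg_add]
    refine ((detRowAlternating (n := Ix D) (R := ℤ)).toMultilinearMap.map_add_univ _ _).trans
      (Finset.sum_congr rfl fun s _ => congrArg det (Matrix.ext fun i j => ?_))
    by_cases e : i ∈ s <;> simp [P, Finset.piecewise, e, one_apply]
  simp only [h1]
  rw [Finset.sum_comm, Finset.sum_eq_single ∅ (fun s _ hs => ?_) (by simp)]
  · have : ∀ w, P ∅ w = diagonal fun _ => q := fun w => by ext i j; simp [P, diagonal_apply]
    simp [this]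
  obtain ⟨i, hi⟩ := Finset.nonempty_iff_ne_empty.mpr hs
  have h2 : ∀ w : W D, det (P s (w * sW i)) = - det (P s w) := fun w => by
    rw [show -det (P s w) = det ((P s w).updateRow i ((-1 : ℤ) • P s w i)) by
      rw [det_updateRow_smul, updateRow_eq_self, neg_one_mul]]
    refine det_eq_of_forall_row_eq_smul_add_const
      (fun j => if j ∈ s ∧ j ≠ i then pr (sim j) (sim i) else 0) i (by simp) fun j m => ?_
    have h3 : wM (w * sW i) j m = wM w j m - pr (sim j) (sim i) * wM w i m := by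
      obtain ⟨L, hL⟩ := exists_cvL w
      simp only [wM_apply, mul_smul, sW_smul, hL, cv_rf, map_sub, map_smul, cv_sim]; rfl
    by_cases e : j = i
    · subst e; simp [P, hi, h3]; ring
    · by_cases e' : j ∈ s <;> simp [P, hi, h3, e, e', updateRow_ne e]; ring
  have := Equiv.sum_comp (Equiv.mulRight (sW i)) fun w : W D => det (P s w)
  simp only [Equiv.coe_mulRight, h2, Finset.sum_neg_distrib] at this
  omega

/-- the action of the Weyl group on the torus -/
abbrev wa (w : W D) : (Ix D → kˣ) →* (Ix D → kˣ) := pw kˣ (wM w)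

theorem wa_mul (v w : W D) (c : Ix D → kˣ) : wa (v * w) c = wa v (wa w c) := by
  rw [wa, wM_mul, pw_mul]

theorem wa_one (c : Ix D → kˣ) : wa (1 : W D) c = c := by rw [wa, wM_one, pw_one]

theorem mem_ker_wa {w : W D} {q : ℕ} {c : Ix D → kˣ} :
    c ∈ (pw kˣ ((q : ℤ) • (1 : Matrix (Ix D) (Ix D) ℤ) - wM w)).ker ↔ c ^ q = wa w c := by
  refine (Eq.congr_left (funext fun j => ?_)).trans mul_inv_eq_one
  have := pw_diagonal (fun _ => (q : ℤ)) c j
  rw [← smul_one_eq_diagonal, pw_apply] at this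
  simp only [pw_apply, Matrix.sub_apply, _root_.zpow_sub, Finset.prod_mul_distrib, Finset.prod_inv_distrib,
    this, Pi.mul_apply, Pi.inv_apply, Pi.pow_apply, zpow_natCast]

theorem θ_hT_gl {S : StSys D k G} (h3 : S.R3) (c : Ix D → kˣ) : S.θ (h3.hT c) = gl_R3.hT c :=
  Units.ext ((h3.θ_hT c).trans (gl_R3.θ_hT c).symm)

theorem coprime_of_pi {ι : Type*} (p : ℕ) [hp : Fact p.Prime] [CharP k p] {c : ι → kˣ}
    (h : orderOf c ≠ 0) : (orderOf c).Coprime p :=
  (hp.out.coprime_iff_not_dvd.mpr fun e => by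
    have h1 := orderOf_pow_orderOf_div h e
    have h2 : c ^ (orderOf c / p) = 1 := funext fun i => Units.ext (frobenius_inj k p (by
      have := congrArg Units.val (congrFun (pow_orderOf_eq_one (c ^ (orderOf c / p))) i)
      rw [h1] at this
      simpa [frobenius_def] using this))
    rw [h2, orderOf_one] at h1
    exact hp.out.one_lt.ne h1).symm

theorem exists_tori [Fintype F] [IsAlgClosed k] (ι : F →+* k) (p : ℕ) [Fact p.Prime] [CharP F p]
    (hk : (pw kˣ (cartanM D)).ker = ⊥) (hF : Nat.card (pw Fˣ (cartanM D)).ker = 1) :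
    ∃ j : D.group F →* GL D.Idx k, Function.Injective j ∧ (∀ z, j z ∈ (glSys D k).grp) ∧
      (∀ (w : W D) (c : Ix D → kˣ), c ^ Fintype.card F = wa w c →
        ∃ z, ∃ a ∈ (glSys D k).grp, j z = a * gl_R3.hT c * a⁻¹) ∧
      ∀ z, (orderOf z).Coprime p → ∃ (w : W D) (c : Ix D → kˣ), c ^ Fintype.card F = wa w c ∧
        ∃ a ∈ (glSys D k).grp, j z = a * gl_R3.hT c * a⁻¹ := by
  classical
  haveI := charP_of_injective_ringHom ι.injective p
  obtain ⟨m, j, hj, hq, hT⟩ := exists_fix ι (ker_st_of_ker hk)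
  have hθ : ∀ y, (stSys D k).θ y ∈ (glSys D k).grp := fun y =>
    (stSys D k).θ_mem (st_grp.ge (Subgroup.mem_top y) : y ∈ (stSys D k).grp)
  have h1 : ∀ z, j z ∈ (glSys D k).grp := fun z => by
    obtain ⟨y, -, e⟩ := (hj.mem _).mp ⟨z, rfl⟩
    exact e ▸ hθ y
  have h2 : ∀ (w : W D) (c : Ix D → kˣ), c ^ Fintype.card F = wa w c →
      ∃ z, ∃ a ∈ (glSys D k).grp, j z = a * gl_R3.hT c * a⁻¹ := fun w c hc => by
    obtain ⟨a, ha⟩ := hT w⁻¹
    obtain ⟨z, hz⟩ := (hj.mem _).mpr ⟨_, ha.fix_iff.mpr (mem_Tω.mpr ((map_pow (wa w⁻¹) c _).symm.trans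
      (by rw [hc, ← wa_mul, inv_mul_cancel, wa_one]))), rfl⟩
    exact ⟨z, _, hθ a, by rw [hz, map_mul, map_mul, map_inv, θ_hT_gl]⟩
  refine ⟨j, hj.inj, h1, h2, fun z0 hz0 => by_contra fun hn => ?_⟩
  have hi : Function.Injective (gl_R3 (D := D) (F := k)).hT :=
    (MonoidHom.ker_eq_bot_iff _).mp (ker_gl_hT.trans hk)
  let X := Σ w : W D, (pw kˣ ((Fintype.card F : ℤ) • (1 : Matrix (Ix D) (Ix D) ℤ) - wM w)).ker
  choose z a ha hz using fun x : X => h2 x.1 x.2.1 (mem_ker_wa.mp x.2.2)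
  let C := {c : ConjClasses (D.group F) // ∃ g, ConjClasses.mk g = c ∧ (orderOf g).Coprime p}
  haveI : Finite (D.group F) := inferInstance
  let κ : X → C := fun x => ⟨ConjClasses.mk (z x), z x, rfl, by
    have : orderOf (z x) = orderOf x.2.1 := by
      rw [← orderOf_injective j hj.inj, hz, ← orderOf_injective _ hi]
      exact (MulAut.conj (a x)).orderOf_eq _
    exact this ▸ coprime_of_pi p (this ▸ (orderOf_pos _).ne')⟩
  have h3 : ∀ x y, κ x = κ y → ∃ v : W D, wa v x.2.1 = y.2.1 := fun x y e => by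
    obtain ⟨b, hb⟩ := isConj_iff.mp (ConjClasses.mk_eq_mk_iff_isConj.mp (congrArg Subtype.val e))
    have := congrArg j hb
    rw [map_mul, map_mul, map_inv, hz, hz] at this
    obtain ⟨n, hn, e'⟩ := exists_conj_N (gl_R3.hT_mem x.2.1) (gl_R3.hT_mem y.2.1)
      (mul_mem (mul_mem (inv_mem (ha y)) (h1 b)) (ha x)) (by
        rw [show gl_R3.hT y.2.1 = (a y)⁻¹ * (a y * gl_R3.hT y.2.1 * (a y)⁻¹) * a y by group,
          ← this]; group)
    obtain ⟨v, hv⟩ := exists_mono hn
    exact ⟨v, hi ((gl_R3.mono_conj hn hv _).symm.trans e')⟩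
  have h4 : ∀ x, κ x ≠ ⟨ConjClasses.mk z0, z0, rfl, hz0⟩ := fun x e => by
    obtain ⟨b, hb⟩ := isConj_iff.mp (ConjClasses.mk_eq_mk_iff_isConj.mp (congrArg Subtype.val e))
    exact hn ⟨x.1, x.2.1, mem_ker_wa.mp x.2.2, j b * a x, mul_mem (h1 b) (ha x), by
      rw [← hb, map_mul, map_mul, map_inv, hz]; group⟩
  haveI : Nonempty X := ⟨⟨1, 1⟩⟩
  let r : X → X := fun x => Function.invFun κ (κ x)
  have hr : ∀ x, κ (r x) = κ x := fun x => Function.invFun_eq ⟨x, rfl⟩
  let V : (Ix D → kˣ) → (Ix D → kˣ) → W D := fun c d => Function.invFun (wa · c) d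
  have hV : ∀ x, wa (V (r x).2.1 x.2.1) (r x).2.1 = x.2.1 := fun x =>
    Function.invFun_eq (f := (wa · (r x).2.1)) (h3 _ _ (hr x))
  let φ : X → W D := fun x => V (r x).2.1 x.2.1 * (V (r x).2.1 x.2.1 * (r x).1)⁻¹ * x.1 *
    V (r x).2.1 x.2.1
  have hφ : ∀ x, wa (φ x) (r x).2.1 = x.2.1 := fun x => by
    rw [wa_mul, hV, wa_mul, ← mem_ker_wa.mp x.2.2, ← congrArg (· ^ Fintype.card F) (hV x),
      ← map_pow, mem_ker_wa.mp (r x).2.2, ← wa_mul, ← wa_mul, mul_assoc, inv_mul_cancel_right, hV]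
  let Φ : X → {c : C // c ≠ ⟨ConjClasses.mk z0, z0, rfl, hz0⟩} × W D := fun x => (⟨κ x, h4 x⟩, φ x)
  have hΦ : Function.Injective Φ := fun x y e => by
    have e1 : r x = r y := congrArg (Function.invFun κ) (congrArg (·.1.1) e)
    have e2 : φ x = φ y := congrArg (·.2) e
    have e3 : x.2.1 = y.2.1 := by rw [← hφ x, e1, e2, hφ]
    have e4 : x.1 = y.1 := by
      dsimp only [φ] at e2
      rw [congrArg (·.2.1) e1, congrArg (·.1) e1, e3] at e2
      exact mul_left_cancel (mul_right_cancel e2)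
    obtain ⟨w, c⟩ := x
    obtain ⟨w', c'⟩ := y
    obtain rfl : w = w' := e4
    exact congrArg _ (Subtype.ext e3)
  haveI := Finite.of_injective Φ hΦ
  haveI := fun w : W D => Finite.of_injective (β := X) (Sigma.mk w) sigma_mk_injective
  have h5 := Nat.card_le_card_of_injective Φ hΦ
  have h6 := Finite.card_subtype_lt (α := C) (p := (· ≠ ⟨ConjClasses.mk z0, z0, rfl, hz0⟩))
    (not_not.mpr rfl)
  rw [H23.ch_card_reg p hF, Nat.card_eq_fintype_card (α := F)] at h6
  rw [Nat.card_prod, Nat.card_sigma, Nat.card_eq_fintype_card (α := W D)] at h5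
  have h7 : ∑ w : W D, (((Fintype.card F : ℤ) • (1 : Matrix (Ix D) (Ix D) ℤ) - wM w).det) ≤
      ∑ w : W D, ((Nat.card (pw kˣ ((Fintype.card F : ℤ) • (1 : Matrix (Ix D) (Ix D) ℤ) -
        wM w)).ker : ℕ) : ℤ) := Finset.sum_le_sum fun w _ => Int.le_natAbs.trans (by
    refine Int.ofNat_le.mpr (natAbs_det_le fun e => ?_)
    have := congrArg (fun A => ((det A : ℤ) : k)) ((wM_mul w⁻¹ w).symm.trans (by
      rw [inv_mul_cancel, wM_one]))
    rw [← eq_intCast (Int.castRingHom k), RingHom.map_det, map_sub, map_zsmul, natCast_zsmul,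
      ← Nat.cast_smul_eq_nsmul k, hq, zero_smul, zero_sub, det_neg, ← RingHom.map_det] at e
    simp [show ((wM w).det : k) = 0 by simpa using e] at this)
  rw [sum_det, ← Nat.cast_sum] at h7
  have h8 := Fintype.card_pos (α := W D)
  have h9 := (Int.ofNat_le.mp (by exact_mod_cast h7)).trans h5
  nlinarith

end Cfsg.Agent.Chev
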