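import Mathlib
import Cfsg.Agent.Chev.SsT

/-! Element orders in finite Chevalley groups through twisted tori. -/

set_option autoImplicit false
set_option linter.unusedSectionVars false
set_option maxHeartbeats 400000

namespace Cfsg.Agent.Chev
open Cfsg.Lie Cfsg.Agent.BN StSys Matrix

noncomputable section
/-- a block of bytes -/
def rowB (L m a : ℕ) : ℕ :=
  Nat.mod (Nat.shiftRight L (Nat.mul (Nat.mul 8 m) a)) (Nat.pow 2 (Nat.mul 8 m))

/-- a list of permutations of the roots closed under the fundamental reflections -/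
def Cert.chkW (c : Cert) (D : ChevalleyDatum) (n L Nx : ℕ) (p : ℕ → Bool) : Bool :=
  Nat.blt 0 n && allN D.nroots (fun r => Nat.beq (byte (rowB L D.nroots 0) r) r) &&
  allN n fun a => force (rowB L D.nroots a) fun P => p P && allN D.rank fun i =>
    force (rowB Nx 2 (Nat.add (Nat.mul D.rank a) i)) fun b => Nat.blt b n &&
      force (rowB L D.nroots b) fun Q => allN D.nroots fun r => Nat.beq (byte Q r) (c.w i (byte P r))

/-- a polynomial vanishes at a permutation of the coroots -/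
def Cert.kills (c : Cert) (D : ChevalleyDatum) (f : List ℤ) (P : ℕ) : Bool :=
  allN D.rank fun j => allN D.rank fun k =>
    ieq (sumN f.length fun e => Int.mul (f.getD e 0) (c.cv D (itB P e (D.simple j)) k)) 0
end

theorem exists_of_dvd_det {ι : Type} [Fintype ι] [DecidableEq ι] {k : Type*} [Field k]
    [IsAlgClosed k] {A : Matrix ι ι ℤ} {r : ℕ} (hr : r.Prime) (h0 : (r : k) ≠ 0)
    (h : ((A.det : ℤ) : ZMod r) = 0) : ∃ c ∈ (pw kˣ A).ker, orderOf c = r := by
  haveI := Fact.mk hr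
  haveI : NeZero (r : k) := ⟨h0⟩
  obtain ⟨v, hv, e⟩ := (exists_vecMul_eq_zero_iff (M := A.map (Int.castRingHom (ZMod r)))).mpr
    (((Int.castRingHom (ZMod r)).map_det A).symm.trans h)
  obtain ⟨ζ, hζ⟩ := HasEnoughRootsOfUnity.exists_primitiveRoot k r
  lift ζ to kˣ using hζ.isUnit hr.ne_zero
  replace hζ := (IsPrimitiveRoot.coe_units_iff.mp hζ).eq_orderOf
  refine ⟨fun i => ζ ^ (v i).val, funext fun j => ?_, orderOf_eq_prime (funext fun i => ?_) fun h1 =>
    hv (funext fun i => ?_)⟩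
  · simp only [pw_apply, ← zpow_natCast, ← _root_.zpow_mul, ← zpow_sum_eq, Pi.one_apply]
    rw [← orderOf_dvd_iff_zpow_eq_one, ← hζ, ← ZMod.intCast_zmod_eq_zero_iff_dvd]
    simpa [vecMul, dotProduct] using congrFun e j
  · rw [Pi.pow_apply, ← pow_mul, mul_comm, pow_mul, congrArg (ζ ^ ·) hζ, pow_orderOf_eq_one, one_pow]
    rfl
  · have := orderOf_dvd_of_pow_eq_one (congrFun h1 i)
    rw [← hζ] at this
    exact (ZMod.val_eq_zero _).mp (Nat.eq_zero_of_dvd_of_lt this (ZMod.val_lt _))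

variable {D : ChevalleyDatum} [g : Good2 D] {F k : Type*} [Field F] [Field k]

theorem chkW_spec {n L Nx : ℕ} {p : ℕ → Bool} (h : g.cert.chkW D n L Nx p = true) (w : W D) :
    ∃ P, p P = true ∧ ∀ r : Rt D, ((w • r : Rt D) : ℕ) = byte P r := by
  simp only [Cert.chkW, Bool.and_eq_true, allN_iff, force_eq, Nat.blt_eq, Nat.beq_eq] at h
  obtain ⟨⟨h0, h1⟩, h2⟩ := h
  suffices ∃ a < n, ∀ r : Rt D, ((w • r : Rt D) : ℕ) = byte (rowB L D.nroots a) r from
    this.elim fun a ha => ⟨_, (h2 a ha.1).1, ha.2⟩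
  induction w using W_ind_left with
  | h1 => exact ⟨0, h0, fun r => (h1 r r.2).symm⟩
  | hs i w _ ih =>
    obtain ⟨a, ha, e⟩ := ih
    obtain ⟨h3, h4⟩ := (h2 a ha).2 i i.2
    exact ⟨_, h3, fun r => by rw [h4 r r.2, ← e, mul_smul, sW_smul, rf_val']⟩

theorem wa_pow {w : W D} {q : ℕ} {c : Ix D → kˣ} (h : c ^ q = wa w c) (e : ℕ) :
    wa (w ^ e) c = c ^ q ^ e := by
  induction e with
  | zero => simp [wa_one]
  | succ e ih => rw [pow_succ', wa_mul, ih, map_pow, ← h, ← pow_mul, ← pow_succ']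

theorem kills_spec {w : W D} {P : ℕ} (hP : ∀ r : Rt D, ((w • r : Rt D) : ℕ) = byte P r)
    {f : List ℤ} (hf : g.cert.kills D f P = true) {q : ℕ} {c : Ix D → kˣ} (h : c ^ q = wa w c) :
    c ^ evp f.length (f.getD · 0) q = 1 := by
  have h1 : ∀ e (r : Rt D), ((w ^ e • r : Rt D) : ℕ) = itB P e r := fun e r => by
    induction e with
    | zero => rfl
    | succ e ih => rw [pow_succ', mul_smul, hP, ih]; rfl
  simp only [Cert.kills, allN_iff, ieq_iff, sumN_eq] at hf
  rw [evp_eq, zpow_sum_eq]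
  simp only [mul_comm (f.getD _ 0), _root_.zpow_mul, ← Nat.cast_pow, zpow_natCast, ← wa_pow h]
  funext m
  simp only [Finset.prod_apply, Pi.pow_apply, pw_apply, ← Finset.prod_zpow, ← _root_.zpow_mul]
  rw [Finset.prod_comm]
  refine Finset.prod_eq_one fun j _ => ?_
  rw [← zpow_sum_eq, show _ = (0 : ℤ) from
    (Finset.sum_congr rfl fun e _ => ?_).trans (hf j j.2 m m.2), zpow_zero]
  rw [wM_apply, cv_eq, h1, mul_comm]; rfl

theorem chr_wa (w : W D) (c : Ix D → kˣ) (r : Rt D) : chr (wa w c) (w • r) = chr c r := by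
  simp only [chr, pw_apply, ← Finset.prod_zpow, ← _root_.zpow_mul]
  rw [Finset.prod_comm]
  refine Finset.prod_congr rfl fun j _ => ?_
  rw [← zpow_sum_eq, ← pr_sim, ← pr_smul w]; rfl

theorem chr_pow (c : Ix D → kˣ) (r : Rt D) (n : ℕ) : chr (c ^ n) r = chr c r ^ n := by
  simp only [chr, Pi.pow_apply, ← Finset.prod_pow]
  simp only [← zpow_natCast, ← _root_.zpow_mul, mul_comm]

theorem wM_wp (l : List (Ix D)) : wM (wp sW l) =
    of fun i j : Ix D => g.cert.cv D (g.cert.appW (l.map Fin.val) (D.simple i)) j := by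
  ext i j; rw [wM_apply, cv_eq, wp_smul_val]; rfl

theorem orderOf_XG (p : ℕ) [hp : Fact p.Prime] [CharP k p] (r : Rt D) {t : k} (ht : t ≠ 0) :
    orderOf ((glSys D k).x r t) = p := by
  have h : ∀ n : ℕ, (glSys D k).x r t ^ n = (glSys D k).x r (n * t) := fun n => by
    induction n with
    | zero => simp
    | succ n ih => rw [pow_succ, ih, ← StSys.add]; congr 1; push_cast; ring
  refine orderOf_eq_prime (by rw [h, CharP.cast_eq_zero, zero_mul, StSys.x_zero]) fun e => ht (XG_inj (e.trans ((glSys D k).x_zero r).symm))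

section
variable [Fintype F] (p : ℕ) [Fact p.Prime] [CharP F p]
  (hk : (pw (AlgebraicClosure F)ˣ (cartanM D)).ker = ⊥)
include hk

theorem orderOf_hT (c : Ix D → (AlgebraicClosure F)ˣ) (a : GL D.Idx (AlgebraicClosure F)) :
    orderOf (a * gl_R3.hT c * a⁻¹) = orderOf c :=
  ((MulAut.conj a).orderOf_eq _).trans
    (orderOf_injective _ ((MonoidHom.ker_eq_bot_iff _).mp (ker_gl_hT.trans hk)) c)

theorem exists_tor (hF : Nat.card (pw Fˣ (cartanM D)).ker = 1) {z : D.group F}
    (hz : (orderOf z).Coprime p) : ∃ (w : W D) (c : Ix D → (AlgebraicClosure F)ˣ),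
      c ^ Fintype.card F = wa w c ∧ orderOf c = orderOf z := by
  obtain ⟨j, h1, -, -, h⟩ := exists_tori (algebraMap F _) p hk hF
  obtain ⟨w, c, h2, a, -, e⟩ := h z hz
  exact ⟨w, c, h2, by rw [← orderOf_injective j h1, e, orderOf_hT hk]⟩

theorem exists_mixed {w : W D} {c : Ix D → (AlgebraicClosure F)ˣ}
    (hc : c ^ Fintype.card F = wa w c) : (∃ z : D.group F, orderOf z = orderOf c) ∧
      ∀ i, w • sim i = sim i → chr c (sim i) = 1 → ∃ z : D.group F, orderOf z = p * orderOf c := by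
  haveI := charP_of_injective_ringHom (algebraMap F (AlgebraicClosure F)).injective p
  obtain ⟨m, j, hj, hq, hT⟩ := exists_fix (algebraMap F _) (ker_st_of_ker hk)
  obtain ⟨a, ha⟩ := hT w⁻¹
  obtain ⟨z, hz⟩ := (hj.mem _).mpr ⟨_, ha.fix_iff.mpr (mem_Tω.mpr ((map_pow (wa w⁻¹) c _).symm.trans
    (by rw [hc, ← wa_mul, inv_mul_cancel, wa_one]))), rfl⟩
  have h1 : orderOf z = orderOf c := by
    rw [← orderOf_injective j hj.inj, hz, map_mul, map_mul, map_inv, θ_hT_gl, orderOf_hT hk]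
  refine ⟨⟨z, h1⟩, fun i hi h2 => ?_⟩
  obtain ⟨b, hb, h3, -⟩ := ha.mono.exists_conj (sim i)
  obtain ⟨t, ht⟩ := IsAlgClosed.exists_pow_nat_eq b⁻¹ (Nat.sub_pos_of_lt (Fintype.one_lt_card (α := F)))
  have h4 : t ≠ 0 := fun e => by
    rw [e, zero_pow (Nat.sub_pos_of_lt Fintype.one_lt_card).ne'] at ht
    exact hb (inv_eq_zero.mp ht.symm)
  obtain ⟨u, hu⟩ := (hj.mem _).mpr ⟨a * (stSys D _).x (sim i) t * a⁻¹, by
    have := h3 (t ^ Fintype.card F)
    rw [inv_smul_eq_iff.mpr hi.symm, ← Nat.sub_add_cancel (Fintype.card_pos (α := F)), pow_succ t, ht,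
      ← mul_assoc b, mul_inv_cancel₀ hb, one_mul, ← ht, ← pow_succ,
      Nat.sub_add_cancel Fintype.card_pos] at this
    rw [map_mul, map_mul, map_inv, m.f_x, ha.pow, ← this]
    simp [mul_assoc, Sym.one], rfl⟩
  have h5 : orderOf u = p := by
    rw [← orderOf_injective j hj.inj, hu, map_mul, map_mul, map_inv, θ_x]
    exact ((MulAut.conj _).orderOf_eq _).trans (orderOf_XG p _ h4)
  have h6 : Commute u z := hj.inj (by
    have := (st_R3 (D := D)).conj_chr c (sim i) t
    rw [h2, Units.val_one, one_mul, mul_inv_eq_iff_eq_mul] at this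
    rw [map_mul, map_mul, hu, hz, ← map_mul, ← map_mul]
    congr 1
    simp only [mul_assoc, inv_mul_cancel_left, mul_right_inj]
    rw [← mul_assoc, ← this, mul_assoc])
  refine ⟨u * z, by rw [h6.orderOf_mul_eq_mul_orderOf_of_coprime, h5, h1]; rw [h5, h1]; exact
    (coprime_of_pi p (h1 ▸ (orderOf_pos z).ne')).symm⟩
end

end Cfsg.Agent.Chev
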