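import Mathlib
import Cfsg.Agent.Chev.Oct2
import Cfsg.Agent.Chev.SsT2
import Cfsg.Agent.Chev.Smith

/-! Semisimple elements of `G₂` in the octonion model. -/

set_option autoImplicit false
set_option linter.unusedSectionVars false
set_option maxHeartbeats 400000
set_option maxRecDepth 100000

namespace Cfsg.Agent.Chev.Oct
open Cfsg.Lie Cfsg.Agent.BN Matrix

attribute [local instance] good2G2

variable {F : Type*} [Field F]

/-- root elements of the Chevalley group -/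
def xg (r : Fin 12) (t : F) : chevG2.group F :=
  ⟨XG r t, by rw [group_eq]; exact (glSys chevG2 F).x_mem (Set.mem_univ _) t⟩

theorem exists_chi (hF : ∃ a : F, a ≠ 0 ∧ a ≠ 1) : ∃ χ : chevG2.group F →* GL (Fin 8) F,
    Function.Injective χ ∧ (∀ z, χ z ∈ G2 F) ∧ ∀ r t, χ (xg r t) = X r t := by
  have hm : ∀ a, scLift (relAB_X (F := F)) a ∈ G2 F := fun a =>
    ((scSys chevG2 F).XS_le (K := (G2 F).comap (scLift relAB_X))).mpr (fun r _ t => by
      rw [Subgroup.mem_comap, scLift_x]; exact X_mem r t)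
    (sc_grp (D := chevG2) (F := F) ▸ Subgroup.mem_top a : a ∈ (scSys chevG2 F).grp)
  have hφ : G2 F ≤ (scLift (relAB_X (F := F))).range := by
    rw [G2_eq, E, Subgroup.closure_le]
    rintro _ ⟨r, t, rfl⟩
    exact ⟨_, scLift_x _ r t⟩
  let θ := (scSys chevG2 F).θG sc_grp
  have hθ : Function.Surjective θ := (scSys chevG2 F).θG_surjective sc_grp
  have hk : θ.ker ≤ (scLift (relAB_X (F := F))).ker := by
    rw [(scSys chevG2 F).ker_θG sc_grp]
    intro a ha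
    have : (⟨_, hm a⟩ : G2 F) ∈ Subgroup.center (G2 F) := Subgroup.mem_center_iff.2 fun b => by
      obtain ⟨b, hb⟩ := b
      obtain ⟨b, rfl⟩ := hφ hb
      exact Subtype.ext ((map_mul _ _ _).symm.trans
        ((congrArg _ (Subgroup.mem_center_iff.mp ha b)).trans (map_mul _ _ _)))
    rw [center_G2] at this
    exact congrArg Subtype.val (Subgroup.mem_bot.1 this)
  let χ := θ.liftOfSurjective hθ ⟨_, hk⟩
  have hχ : ∀ a, χ (θ a) = scLift relAB_X a := fun a => θ.liftOfRightInverse_comp_apply _ _ ⟨_, hk⟩ a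
  have hx : ∀ r t, χ (xg r t) = X r t := fun r t =>
    (congrArg χ (Subtype.ext ((scSys chevG2 F).θ_x r t).symm)).trans ((hχ _).trans (scLift_x relAB_X r t))
  refine ⟨χ, (MonoidHom.ker_eq_bot_iff _).mp (((S1055.result hF).1.eq_bot_or_eq_top_of_normal χ.ker
    inferInstance).resolve_right fun h2 => ?_), fun z => ?_, hx⟩
  · have := congrFun ((ac_X _ _ (bv F 2)).symm.trans (congrArg (fun g => ac g (bv F 2))
      ((hx 0 1).symm.trans (h2 ▸ Subgroup.mem_top _ : xg 0 1 ∈ χ.ker)))) 3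
    simp [act, bv_eq, ac] at this
  · obtain ⟨a, rfl⟩ := hθ z
    rw [hχ]; exact hm a

/-- the weights of a torus element -/
def dd (t : Fin 3 → Fˣ) : Fin 8 → Fˣ := ![1, t 0, t 1, t 2, (t 0)⁻¹, (t 1)⁻¹, (t 2)⁻¹, 1]

/-- the short roots -/
def tc (c : Fin 2 → Fˣ) : Fin 3 → Fˣ := ![c 0 ^ 2 / c 1, c 1 / c 0, (c 0)⁻¹]

theorem act_h7 {a : F} (ha : a ≠ 0) (x : Fin 8 → F) :
    act 7 a (act 4 (-a⁻¹) (act 7 a (act 7 (-1) (act 4 (-(-1)⁻¹) (act 7 (-1) x))))) =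
      ![x 0, a ^ 2 * x 1, a⁻¹ * x 2, a⁻¹ * x 3, a⁻¹ ^ 2 * x 4, a * x 5, a * x 6, x 7] := by
  simp only [act, Matrix.cons_val, inv_neg_one]
  refine v8 ?_ ?_ ?_ ?_ ?_ ?_ ?_ ?_ <;> field_simp <;> ring

theorem act_h6 {a : F} (ha : a ≠ 0) (x : Fin 8 → F) :
    act 6 a (act 5 (-a⁻¹) (act 6 a (act 6 (-1) (act 5 (-(-1)⁻¹) (act 6 (-1) x))))) =
      ![x 0, a⁻¹ * x 1, a * x 2, x 3, a * x 4, a⁻¹ * x 5, x 6, x 7] := by
  simp only [act, Matrix.cons_val, inv_neg_one]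
  refine v8 ?_ ?_ ?_ ?_ ?_ ?_ ?_ ?_ <;> field_simp <;> ring

theorem chi_hT {χ : chevG2.group F →* GL (Fin 8) F} (h : ∀ r t, χ (xg r t) = X r t)
    (c : Fin 2 → Fˣ) {z : chevG2.group F} (hz : z.1 = gl_R3.hT c) :
    (χ z : Matrix (Fin 8) (Fin 8) F) = diagonal fun i => (dd (tc c) i : F) := by
  have : z = (xg 7 (c 0).1 * xg 4 (-(c 0).1⁻¹) * xg 7 (c 0).1 * (xg 7 (-1) * xg 4 (-(-1)⁻¹) * xg 7 (-1))) *
      ((xg 6 (c 1).1 * xg 5 (-(c 1).1⁻¹) * xg 6 (c 1).1 * (xg 6 (-1) * xg 5 (-(-1)⁻¹) * xg 6 (-1))) * 1) :=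
    Subtype.ext (hz.trans rfl)
  refine ext_iff_mulVec.2 fun x => ?_
  change ac _ x = _
  simp only [this, map_mul, h, mul_one, ac_mul]
  have e : ∀ (r : Fin 12) (t : F) v, ac (X r t) v = act r t v := ac_X
  simp only [e]
  have h0 := (c 0).ne_zero
  have h1 := (c 1).ne_zero
  refine (act_h7 h0 _).trans ?_
  erw [act_h6 h1 x]
  ext i
  fin_cases i <;> simp [mulVec_diagonal, dd, tc] <;> field_simp

/-- the Frobenius map permutes the weights -/
def Frob (q : ℕ) (t : Fin 3 → Fˣ) : Prop := t 0 * t 1 * t 2 = 1 ∧ ∃ σ : Fin 3 → Fin 3,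
  Function.Injective σ ∧ ((∀ i, t i ^ q = t (σ i)) ∨ ∀ i, t i ^ q = (t (σ i))⁻¹)

theorem chkW_G2 : certG2.chkW chevG2 12 0x102030405060708090a0b0005030207010a040908060b010002040306050807090b0a0106040208000b030907050a05000307020a010904080b06050a070309000b020804010606010408020b000903070a05060b080409010a02070300050a050709030b0008020406010a0b090708050603040200010b060809040a0107020305000b0a09080706050403020100
    0x9000a0008000b000b0007000a00060005000900040008000700030006000200010005000000040003000000020001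
    (fun P => allN 3 (fun i => anyN 3 fun j => Nat.beq (byte P ([7, 8, 2].getD i 0)) ([7, 8, 2].getD j 0)) ||
      allN 3 fun i => anyN 3 fun j => Nat.beq (byte P ([7, 8, 2].getD i 0)) ([4, 3, 9].getD j 0)) = true := by
  decide +kernel

theorem frob_tc {w : W chevG2} {q : ℕ} {c : Fin 2 → Fˣ} (h : c ^ q = wa w c) : Frob q (tc c) := by
  let ρ : Fin 3 → Rt chevG2 := (![7, 8, 2] : Fin 3 → Fin 12)
  let ρ' : Fin 3 → Rt chevG2 := (![4, 3, 9] : Fin 3 → Fin 12)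
  have e1 : ∀ i, chr (D := chevG2) c (ρ i) = tc c i := fun i => by
    fin_cases i
    · change c 0 ^ (2 : ℤ) * (c 1 ^ (-1 : ℤ) * 1) = c 0 ^ 2 / c 1; simp [div_eq_mul_inv]
    · change c 0 ^ (-1 : ℤ) * (c 1 ^ (1 : ℤ) * 1) = c 1 / c 0; simp [div_eq_inv_mul]
    · change c 0 ^ (-1 : ℤ) * (c 1 ^ (0 : ℤ) * 1) = (c 0)⁻¹; group
  have e2 : ∀ i, chr (D := chevG2) c (ρ' i) = (tc c i)⁻¹ := fun i => by
    fin_cases i
    · change c 0 ^ (-2 : ℤ) * (c 1 ^ (1 : ℤ) * 1) = (c 0 ^ 2 / c 1)⁻¹; simp [div_eq_inv_mul]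
    · change c 0 ^ (1 : ℤ) * (c 1 ^ (-1 : ℤ) * 1) = (c 1 / c 0)⁻¹; simp [div_eq_mul_inv]
    · change c 0 ^ (1 : ℤ) * (c 1 ^ (0 : ℤ) * 1) = (c 0)⁻¹⁻¹; group
  have e3 : ∀ i, tc c i ^ q = chr (D := chevG2) c (w⁻¹ • ρ i) := fun i => by
    have := chr_wa (D := chevG2) w c (w⁻¹ • ρ i)
    rw [smul_inv_smul] at this
    rw [← e1, ← this]
    exact (chr_pow (D := chevG2) c _ q).symm.trans (congrArg (chr (D := chevG2) · _) h)
  have hρ : Function.Injective ρ :=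
    (by decide : Function.Injective (![7, 8, 2] : Fin 3 → Fin 12))
  have key : ∀ τ : Fin 3 → Rt chevG2, (∀ i, ∃ j, w⁻¹ • ρ i = τ j) →
      ∃ σ : Fin 3 → Fin 3, Function.Injective σ ∧ ∀ i, tc c i ^ q = chr (D := chevG2) c (τ (σ i)) := by
    intro τ h
    choose σ hσ using h
    exact ⟨σ, fun i j e => hρ (smul_left_cancel w⁻¹ (by rw [hσ, hσ, e])), fun i => by rw [e3, hσ]⟩
  refine ⟨Units.ext (by simp [tc]; field_simp), ?_⟩
  obtain ⟨P, h1, h2⟩ := chkW_spec (g := good2G2) chkW_G2 w⁻¹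
  simp only [Bool.or_eq_true, allN_iff, anyN_iff, Nat.beq_eq] at h1
  rcases h1 with h1 | h1
  · obtain ⟨σ, h3, h4⟩ := key ρ fun i => by
      obtain ⟨j, hj, e⟩ := h1 i i.2
      refine ⟨⟨j, hj⟩, Fin.ext ((h2 _).trans (Eq.trans ?_ (e.trans ?_)))⟩
      · fin_cases i <;> rfl
      · interval_cases j <;> rfl
    exact ⟨σ, h3, .inl fun i => by rw [h4, e1]⟩
  · obtain ⟨σ, h3, h4⟩ := key ρ' fun i => by
      obtain ⟨j, hj, e⟩ := h1 i i.2
      refine ⟨⟨j, hj⟩, Fin.ext ((h2 _).trans (Eq.trans ?_ (e.trans ?_)))⟩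
      · fin_cases i <;> rfl
      · interval_cases j <;> rfl
    exact ⟨σ, h3, .inr fun i => by rw [h4, e2]⟩

theorem exists_psi [Fintype F] (p : ℕ) [Fact p.Prime] [CharP F p] :
    ∃ ψ : chevG2.group F →* GL (Fin 8) (AlgebraicClosure F), Function.Injective ψ ∧
      (∀ z, ψ z ∈ G2 _) ∧ ∀ z, (orderOf z).Coprime p → ∃ t, Frob (Fintype.card F) t ∧
        ∃ a ∈ G2 _, (a⁻¹ * ψ z * a).1 = diagonal fun i => (dd t i).1 := by
  obtain ⟨j, h1, h2, -, h⟩ := exists_tori (D := chevG2) (algebraMap F (AlgebraicClosure F)) p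
    (ker_G2 _) (card_ker_G2 _)
  obtain ⟨χ, k1, k2, k3⟩ := exists_chi (F := AlgebraicClosure F) (by
    classical
    obtain ⟨a, ha⟩ := Infinite.exists_notMem_finset ({0, 1} : Finset (AlgebraicClosure F))
    exact ⟨a, by simpa using ha⟩)
  rw [← group_eq] at h2 h
  let j' := j.codRestrict _ h2
  refine ⟨χ.comp j', k1.comp fun a b e => h1 (congrArg Subtype.val e), fun z => k2 _, fun z hz => ?_⟩
  obtain ⟨w, c, e1, a, ha, e2⟩ := h z hz
  refine ⟨_, frob_tc e1, _, k2 ⟨a, ha⟩, ?_⟩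
  rw [MonoidHom.comp_apply, ← map_inv, ← map_mul, ← map_mul]
  refine chi_hT k3 c ?_
  change a⁻¹ * j z * a = _
  rw [e2]; group

namespace Frob
variable {q : ℕ} {t : Fin 3 → Fˣ} (h : Frob q t)
include h

theorem ss (hq : 0 < q) :
    t ^ (q ^ 2 - 1) = 1 ∨ t ^ (q ^ 2 + q + 1) = 1 ∨ t ^ (q ^ 2 - q + 1) = 1 := by
  obtain ⟨h0, σ, h1, h⟩ := h
  have k : ∀ σ : Fin 3 → Fin 3, Function.Injective σ →
    (∀ i, σ (σ i) = i) ∨ σ = ![1, 2, 0] ∨ σ = ![2, 0, 1] := by decide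
  have e : ∀ i, t i ^ q ^ 2 = t (σ (σ i)) := fun i => by
    rcases h with h | h
    · rw [pow_two, pow_mul, h, h]
    · rw [pow_two, pow_mul, h, inv_pow, h, inv_inv]
  have e1 : q ^ 2 - 1 + 1 = q ^ 2 := Nat.sub_add_cancel (Nat.one_le_pow _ _ hq)
  have e2 : q ^ 2 - q + q = q ^ 2 := Nat.sub_add_cancel (by nlinarith)
  rcases k σ h1 with k | k
  · refine .inl (funext fun i => mul_right_cancel (b := t i) ?_)
    rw [Pi.pow_apply, ← pow_succ, e1, e, k]; simp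
  have k' : ∀ i, t (σ (σ i)) * t (σ i) * t i = 1 := fun i => by
    rw [← h0]
    rcases k with rfl | rfl <;> fin_cases i <;> refine Units.ext ?_ <;> simp <;> ring
  rcases h with h | h
  · exact .inr (.inl (funext fun i => by rw [Pi.pow_apply, pow_succ, pow_add, e, h]; exact k' i))
  · refine .inr (.inr (funext fun i => mul_right_cancel (b := t i ^ q) ?_))
    rw [Pi.pow_apply, ← pow_add, add_right_comm, e2, pow_succ, e, h, Pi.one_apply, one_mul,
      eq_inv_iff_mul_eq_one, mul_right_comm]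
    exact k' i

theorem rot : Frob q (t ∘ ![1, 2, 0]) := by
  obtain ⟨h0, σ, h1, h⟩ := h
  have e : ∀ i : Fin 3, (![1, 2, 0] : Fin 3 → Fin 3) ((![2, 0, 1] : Fin 3 → Fin 3) i) = i := by decide
  refine ⟨by rw [← h0]; simp [mul_comm, mul_left_comm, mul_assoc], ![2, 0, 1] ∘ σ ∘ ![1, 2, 0],
    Function.Injective.comp (by decide) (h1.comp (by decide)), ?_⟩
  simp only [Function.comp, e]
  exact h.imp (fun h i => h _) fun h i => h _

omit h in
theorem of_gen (hq : 0 < q) {b : Fˣ} (h1 : ∀ i, t i ∈ Subgroup.zpowers b)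
    (h2 : b ^ q = b ∨ b ^ q = b⁻¹) : t ^ (q - 1) = 1 ∨ t ^ (q + 1) = 1 := by
  have k : ∀ n : ℕ, b ^ n = 1 → t ^ n = 1 := fun n hn => funext fun i => by
    obtain ⟨m, hm⟩ := h1 i
    rw [Pi.pow_apply, ← hm, ← zpow_natCast, zpow_comm, zpow_natCast, hn, _root_.one_zpow]; rfl
  refine h2.imp (fun h => k _ (mul_right_cancel (b := b) ?_)) fun h => k _ (by simp [pow_succ, h])
  rw [← pow_succ, Nat.sub_add_cancel hq, h, one_mul]

theorem short (hq : 0 < q) (e : t 0 = 1) : t ^ (q - 1) = 1 ∨ t ^ (q + 1) = 1 := by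
  obtain ⟨h0, σ, h1, h⟩ := h
  have e2 : t 2 = (t 1)⁻¹ := by rw [e, one_mul] at h0; exact (inv_eq_of_mul_eq_one_right h0).symm
  refine of_gen hq (b := t 1) (fun i => by fin_cases i <;> simp [e, e2]) ?_
  have k : ∀ σ : Fin 3 → Fin 3, Function.Injective σ →
    σ 1 = 1 ∨ σ 1 = 2 ∨ σ 0 = 1 ∨ σ 0 = 2 := by decide
  have a0 := h.imp (· 0) (· 0)
  have a1 := h.imp (· 1) (· 1)
  rcases k σ h1 with k | k | k | k
  · rwa [k] at a1
  · rw [k, e2, inv_inv] at a1; exact a1.symm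
  all_goals
    have : t 1 = 1 := by simpa [k, e, e2, eq_comm] using a0
    simp [this]

theorem long (hq : 0 < q) (e : t 1 = t 2) : t ^ (q - 1) = 1 ∨ t ^ (q + 1) = 1 := by
  obtain ⟨h0, σ, h1, h⟩ := h
  have e0 : t 0 = (t 2 * t 2)⁻¹ := by rw [e, mul_assoc] at h0; exact eq_inv_of_mul_eq_one_left h0
  refine of_gen hq (b := t 2) (fun i => by fin_cases i <;> simp [e, e0, mul_mem]) ?_
  have k : ∀ σ : Fin 3 → Fin 3, Function.Injective σ →
    σ 1 = 1 ∨ σ 1 = 2 ∨ σ 2 = 1 ∨ σ 2 = 2 := by decide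
  have a1 := h.imp (· 1) (· 1)
  have a2 := h.imp (· 2) (· 2)
  rcases k σ h1 with k | k | k | k <;> simp only [k, e] at a1 a2 <;> assumption

end Frob

end Cfsg.Agent.Chev.Oct
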