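import Mathlib
import Cfsg.Agent.Chev.Oct3

/-! Unipotent elements of `G₂` centralizing a torus element. -/

set_option autoImplicit false
set_option linter.unusedSectionVars false
set_option maxHeartbeats 400000
set_option maxRecDepth 100000

namespace Cfsg.Agent.Chev.Oct
open Cfsg.Lie Matrix Module

variable {k : Type*} [Field k]

theorem nil_sub {V : Type*} [AddCommGroup V] [Module k V] [FiniteDimensional k V] {f : End k V}
    (hf : IsNilpotent f) (L : Submodule k V) (hL : ∀ x ∈ L, f x ∈ L) {d : ℕ}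
    (hd : finrank k L ≤ d) {x : V} (hx : x ∈ L) : (f ^ d) x = 0 := by
  have h2 := (f.restrict hL).aeval_self_charpoly
  rw [(LinearMap.isNilpotent_iff_charpoly _).1 (End.isNilpotent.restrict hL hf),
    Polynomial.aeval_X_pow] at h2
  have := congrArg Subtype.val (LinearMap.congr_fun (pow_eq_zero_of_le hd h2) ⟨x, hx⟩)
  rwa [End.pow_restrict] at this

variable (p : ℕ) [hp : Fact p.Prime] [CharP k p]

theorem pw_sub (u : GL (Fin 8) k) (j : ℕ) : (rho k u - 1) ^ p ^ j = rho k (u ^ p ^ j) - 1 := by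
  haveI : CharP (End k (Fin 8 → k)) p := charP_of_injective_algebraMap (algebraMap k _).injective p
  rw [sub_pow_char_pow_of_commute _ _ (Commute.one_right _), map_pow, one_pow]

variable {p} {t : Fin 3 → kˣ} {u g : GL (Fin 8) k} {a : ℕ}

theorem nil_of (hu : u ^ p ^ a = 1) : IsNilpotent (rho k u - 1) :=
  ⟨_, by rw [pw_sub p u a, hu, map_one, sub_self]⟩

theorem fix_sub (hu : u ^ p ^ a = 1) (L : Submodule k (Fin 8 → k)) (hL : ∀ x ∈ L, ac u x ∈ L) {j : ℕ}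
    (hd : finrank k L ≤ p ^ j) {x : Fin 8 → k} (hx : x ∈ L) : ac (u ^ p ^ j) x = x := by
  have := nil_sub (nil_of hu) L (fun x hx => L.sub_mem (hL x hx) hx) hd hx
  rw [pw_sub] at this
  exact sub_eq_zero.1 this

theorem eq_one_v (hg : g ∈ G2 k) (h1 : ac g (bv k 1) = bv k 1) (h2 : ac g (bv k 2) = bv k 2)
    (h3 : ac g (bv k 3) = bv k 3) : g = 1 := by
  have h6 := mem_iff.1 hg (bv k 1) (bv k 2)
  rw [h1, h2, show zornMul (bv k 1) (bv k 2) = bv k 6 by simp [zm, bv_eq]] at h6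
  have h0 := mem_iff.1 hg (bv k 3) (bv k 6)
  rw [h3, h6, show zornMul (bv k 3) (bv k 6) = bv k 0 by simp [zm, bv_eq]] at h0
  exact eq_one_of hg h0 h1 h2 h3

theorem eq_one_p (hg : g ∈ G2 k) (h2 : ac g (bv k 2) = bv k 2 ∧ ac g (bv k 5) = bv k 5)
    (h3 : ac g (bv k 3) = bv k 3 ∧ ac g (bv k 6) = bv k 6) : g = 1 := by
  have h1 := mem_iff.1 hg (bv k 6) (bv k 5)
  rw [h3.2, h2.2, show zornMul (bv k 6) (bv k 5) = bv k 1 by simp [zm, bv_eq]] at h1
  exact eq_one_v hg h1 h2.1 h3.1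

/-- the trace as a linear form -/
def trL (k : Type*) [Field k] : (Fin 8 → k) →ₗ[k] k := 
  ⟨⟨tr, fun x y => by simp [tr]; ring⟩, fun c x => by simp [tr]; ring⟩

theorem dim_tr {L : Submodule k (Fin 8 → k)} (h : bv k 0 ∈ L) :
    finrank k (L ⊓ LinearMap.ker (trL k) :) < finrank k L :=
  Submodule.finrank_lt_finrank_of_lt (inf_lt_left.2 fun e => by simpa [trL, tr, bv_eq] using e h)

theorem unip (hg : u ∈ G2 k) (hu : u ^ p ^ a = 1) {j : ℕ} (hj : 7 ≤ p ^ j) : u ^ p ^ j = 1 := by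
  have h := dim_tr (L := ⊤) (k := k) trivial
  rw [finrank_top, finrank_fin_fun] at h
  have := fun x => fix_sub hu (⊤ ⊓ LinearMap.ker (trL k))
    (fun x hx => ⟨trivial, (tr_ac hg x).trans hx.2⟩) (j := j) (by omega) (x := x)
  exact eq_one_v (pow_mem hg _) (this _ (by simp [trL, tr, bv_eq])) (this _ (by simp [trL, tr, bv_eq]))
    (this _ (by simp [trL, tr, bv_eq]))

/-- `u` centralizes the torus element `t` -/
structure Cm (t : Fin 3 → kˣ) (u : GL (Fin 8) k) : Prop where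
  mem : u ∈ G2 k
  blk : ∀ i j, dd t i ≠ dd t j → u.1 i j = 0

/-- a cyclic permutation of the coordinates -/
def rotE : Fin 8 ≃ Fin 8 := ⟨![0, 2, 3, 1, 5, 6, 4, 7], ![0, 3, 1, 2, 6, 4, 5, 7], by decide, by decide⟩

/-- the induced automorphism -/
def rotG : GL (Fin 8) k ≃* GL (Fin 8) k := Units.mapEquiv (reindexAlgEquiv k k rotE.symm).toMulEquiv

namespace Cm
variable (h : Cm t u)
include h

theorem rot : Cm (t ∘ ![1, 2, 0]) (rotG u) := by
  refine ⟨mem_iff.2 fun x y => ?_, fun i j e => h.blk (rotE i) (rotE j) ?_⟩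
  · have e : ∀ x, ac (rotG u) x = ac u (x ∘ rotE.symm) ∘ rotE := fun x =>
      submatrix_mulVec_equiv u.1 x rotE rotE
    have e1 : ∀ x y : Fin 8 → k, zornMul x y ∘ rotE = zornMul (x ∘ rotE) (y ∘ rotE) := fun x y => by
      ext i; fin_cases i <;> simp [zm, rotE] <;> ring
    have e2 : zornMul x y ∘ rotE.symm = zornMul (x ∘ rotE.symm) (y ∘ rotE.symm) := by
      ext i; fin_cases i <;> simp [zm, rotE] <;> ring
    rw [e, e, e, e2, mem_iff.1 h.mem, e1]
  · have : ∀ i, dd t (rotE i) = dd (t ∘ ![1, 2, 0]) i := fun i => by fin_cases i <;> rfl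
    rwa [this, this]

theorem inv {S : Set (Fin 8)} (hS : ∀ i ∉ S, ∀ j ∈ S, dd t i ≠ dd t j) :
    ∀ x ∈ Pi.spanSubset k S, ac u x ∈ Pi.spanSubset k S := fun x hx =>
  Pi.mem_spanSubset_iff.2 fun i hi => Finset.sum_eq_zero (f := fun j => u.1 i j * x j)
    (s := Finset.univ) fun j _ => by
    by_cases hj : j ∈ S
    · rw [h.blk i j (hS i hi j hj), zero_mul]
    · rw [Pi.mem_spanSubset_iff.1 hx j hj, mul_zero]

theorem fix (hu : u ^ p ^ a = 1) (i : Fin 8) (S : Finset (Fin 8)) (hS : ∀ j, dd t j = dd t i → j ∈ S)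
    {m : ℕ} (hc : S.card ≤ p ^ m) : ac (u ^ p ^ m) (bv k i) = bv k i :=
  fix_sub hu _ (h.inv (S := {j | dd t j = dd t i}) fun _ h1 _ h2 e => h1 (e.trans h2))
    (by rw [Pi.dim_spanSubset]
        exact (Set.ncard_le_ncard (t := S) fun j => hS j).trans (by rwa [Set.ncard_coe_finset]))
    (Pi.mem_spanSubset_iff.2 fun j hj => if_neg fun e => hj (by rw [Fin.ext e]; rfl))

theorem fix2 (hu : u ^ p ^ a = 1) (i : Fin 8) (S : Finset (Fin 8))
    (hS : ∀ j, dd t j = dd t i → j ∈ S) {m : ℕ} (hc : S.card ≤ p ^ m) :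
    ac (u ^ p ^ m) (bv k i) = bv k i ∧ ac (u ^ p ^ m) (bv k ((![7, 4, 5, 6, 1, 2, 3, 0] : _ → Fin 8) i)) =
      bv k ((![7, 4, 5, 6, 1, 2, 3, 0] : _ → Fin 8) i) := by
  refine ⟨h.fix hu i S hS hc, h.fix hu _ (S.image ![7, 4, 5, 6, 1, 2, 3, 0]) (fun j e => ?_)
    (Finset.card_image_le.trans hc)⟩
  have e1 : ∀ j, dd t ((![7, 4, 5, 6, 1, 2, 3, 0] : _ → Fin 8) j) = (dd t j)⁻¹ := fun j => by
    fin_cases j <;> simp [dd]
  exact Finset.mem_image.2 ⟨_, hS _ (by rw [e1, e, e1, inv_inv]), by clear e; revert j; decide⟩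

theorem pair (hu : u ^ p ^ a = 1) (S T : Finset (Fin 8)) (hS : ∀ j, dd t j = t 1 → j ∈ S)
    (hT : ∀ j, dd t j = t 2 → j ∈ T) {m : ℕ} (hc : S.card ≤ p ^ m) (hc' : T.card ≤ p ^ m) :
    u ^ p ^ m = 1 :=
  eq_one_p (pow_mem h.mem _) (h.fix2 hu 2 S hS hc) (h.fix2 hu 3 T hT hc')

theorem special [CharP k 3] (hu : u ^ 3 ^ a = 1) (h0 : t 0 = 1) (h1 : t 1 = -1) (h2 : t 2 = -1) :
    u ^ 3 ^ 1 = 1 := by
  have hn : (1 : kˣ) ≠ -1 := fun e => by
    have := congrArg Units.val e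
    exact Ring.neg_one_ne_one_of_char_ne_two (by rw [ringChar.eq k 3]; decide) this.symm
  have hd : dd t = ![1, 1, -1, -1, 1, -1, -1, 1] := by simp [dd, h0, h1, h2]
  have hz : u ^ 3 ^ 1 ∈ G2 k := pow_mem h.mem _
  have i1 := h.inv (S := ({0, 1, 4, 7} : Finset (Fin 8))) fun i hi j hj => by
    revert hi hj; rw [hd]; fin_cases i <;> fin_cases j <;> simp [hn, hn.symm]
  have i2 := h.inv (S := ({2, 3, 5, 6} : Finset (Fin 8))) fun i hi j hj => by
    revert hi hj; rw [hd]; fin_cases i <;> fin_cases j <;> simp [hn, hn.symm]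
  have d1 := dim_tr (k := k) (L := Pi.spanSubset k ({0, 1, 4, 7} : Finset (Fin 8)))
    (Pi.mem_spanSubset_iff.2 fun i => by fin_cases i <;> simp [bv_eq])
  rw [Pi.dim_spanSubset, Set.ncard_coe_finset] at d1
  have f := fun x => fix_sub hu (Pi.spanSubset k ({0, 1, 4, 7} : Finset (Fin 8)) ⊓ LinearMap.ker (trL k))
    (fun x hx => ⟨i1 x hx.1, (tr_ac h.mem x).trans hx.2⟩) (j := 1) (Nat.lt_succ_iff.1 d1) (x := x)
  have f1 := f (bv k 1) ⟨Pi.mem_spanSubset_iff.2 fun i => by fin_cases i <;> simp [bv_eq],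
    by simp [trL, tr, bv_eq]⟩
  have f4 := f (bv k 4) ⟨Pi.mem_spanSubset_iff.2 fun i => by fin_cases i <;> simp [bv_eq],
    by simp [trL, tr, bv_eq]⟩
  have f0 := mem_iff.1 hz (bv k 1) (bv k 4)
  rw [f1, f4, show zornMul (bv k 1) (bv k 4) = bv k 0 by simp [zm, bv_eq]] at f0
  set W := Pi.spanSubset k (({2, 3, 5, 6} : Finset (Fin 8)) : Set (Fin 8))
  have d2 : finrank k W = 4 := by rw [Pi.dim_spanSubset, Set.ncard_coe_finset]; rfl
  have e3 : ∀ y, ((rho k u - 1) ^ 3 : End k _) y = ac (u ^ 3 ^ 1) y - y := fun y =>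
    LinearMap.congr_fun (pw_sub 3 u 1) y
  have hN := nil_of hu
  set M := rho k u - 1
  have iM : ∀ x ∈ W, M x ∈ W := fun x hx => W.sub_mem (i2 x hx) hx
  have key : ∀ y ∈ W, zornMul (bv k 0) y = y → ac (u ^ 3 ^ 1) y = y := fun y hy e => by
    rw [← sub_eq_zero, ← e3]
    have d3 := (M.domRestrict W).finrank_range_add_finrank_ker
    by_cases d4 : finrank k (LinearMap.range (M.domRestrict W)) ≤ 2
    · exact nil_sub hN _ (by rintro _ ⟨x, rfl⟩; exact ⟨⟨_, iM _ x.2⟩, rfl⟩) d4 ⟨⟨y, hy⟩, rfl⟩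
    rw [← Submodule.finrank_map_subtype_eq] at d3
    obtain ⟨v, hv⟩ := (finrank_le_one_iff (K := k)
      (V := (LinearMap.ker (M.domRestrict W)).map W.subtype)).1 (by omega)
    have k1 : ∀ y ∈ W, ∃ c : k, c • v.1 = ac (u ^ 3 ^ 1) y - y := fun y hy => by
      obtain ⟨c, hc⟩ := hv ⟨_, ⟨(M ^ 3) y, iM _ (iM _ (iM _ hy))⟩, show M ((M ^ 3) y) = 0 by
        rw [← End.mul_apply, ← pow_succ']; exact nil_sub hN W iM d2.le hy, rfl⟩
      exact ⟨c, (congrArg (·.1) hc).trans (e3 y)⟩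
    have y0 := Pi.mem_spanSubset_iff.1 hy
    obtain ⟨c1, k2⟩ := k1 y hy
    obtain ⟨c2, k3⟩ := k1 (zornMul (bv k 1) y) (Pi.mem_spanSubset_iff.2 fun i => by
      rw [← e]; fin_cases i <;> simp [zm, bv_eq, y0 0])
    have k4 := mem_iff.1 hz (bv k 0) y
    have k5 := Pi.mem_spanSubset_iff.1 (W.sub_mem (iM _ (iM _ (iM _ hy))) W.zero_mem)
    rw [mem_iff.1 hz, f1] at k3
    rw [e, f0] at k4
    rw [sub_zero, show M (M (M y)) = _ from e3 y] at k5
    rw [e3]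
    generalize ac (u ^ 3 ^ 1) y = z at *
    have a5 : z 5 = y 5 := by rw [k4, ← e]; simp [zm, bv_eq]
    have a6 : z 6 = y 6 := by rw [k4, ← e]; simp [zm, bv_eq]
    by_cases hc : c1 = 0
    · rw [← k2, hc, zero_smul]
    have b := congrArg (c1 • ·) k3
    simp only [smul_comm c1 c2, k2] at b
    have b5 := congrFun b 5
    have b6 := congrFun b 6
    simp [zm, bv_eq, a5, a6, hc] at b5 b6
    ext i
    fin_cases i
    exacts [k5 0 (by simp), k5 1 (by simp), b6, (by simp; linear_combination -b5), k5 4 (by simp),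
      sub_eq_zero.2 a5, sub_eq_zero.2 a6, k5 7 (by simp)]
  exact eq_one_v hz f1
    (key _ (Pi.mem_spanSubset_iff.2 fun i => by fin_cases i <;> simp [bv_eq]) (by simp [zm, bv_eq]))
    (key _ (Pi.mem_spanSubset_iff.2 fun i => by fin_cases i <;> simp [bv_eq]) (by simp [zm, bv_eq]))

end Cm

end Cfsg.Agent.Chev.Oct
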