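import Mathlib
import Cfsg.Agent.Chev.Oct4

/-! Element orders of `G₂(q)`: the upper bound. -/

set_option autoImplicit false
set_option linter.unusedSectionVars false
set_option maxHeartbeats 400000
set_option maxRecDepth 100000

namespace Cfsg.Agent.Chev.Oct
open Cfsg.Lie Matrix Module

variable {k : Type*} [Field k] {p : ℕ} [hp : Fact p.Prime] [CharP k p] {t : Fin 3 → kˣ}
  {u : GL (Fin 8) k} {a q : ℕ}

/-- the normal forms of torus elements -/
def Base (t : Fin 3 → kˣ) : Prop := t 0 = 1 ∨ (t 0 ≠ 1 ∧ t 1 = t 2) ∨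
  (t 0 ≠ 1 ∧ t 1 ≠ 1 ∧ t 2 ≠ 1 ∧ t 0 ≠ t 1 ∧ t 0 ≠ t 2 ∧ t 1 ≠ t 2 ∧ t 1 * t 1 ≠ 1 ∧ t 2 * t 2 ≠ 1)

/-- the possible orders -/
def Concl (p q : ℕ) (t : Fin 3 → kˣ) (u : GL (Fin 8) k) : Prop := u = 1 ∨ t = 1 ∨
  ((t ^ (q - 1) = 1 ∨ t ^ (q + 1) = 1) ∧ (u ^ p = 1 ∨ (p = 2 ∧ t ^ 3 = 1 ∧ u ^ 4 = 1)))

theorem eq_neg_one {x : kˣ} (h : x * x = 1) (h1 : x ≠ 1) : x = -1 :=
  Units.ext ((mul_self_eq_one_iff.1 (congrArg Units.val h)).resolve_left fun e => h1 (Units.ext e))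

theorem concl_of_base (hq : 0 < q) (hF : Frob q t) (h : Cm t u) (hu : u ^ p ^ a = 1) (hb : Base t) :
    Concl p q t u := by
  have h0 := hF.1
  have e2 : t 0 * t 1 = 1 ↔ t 2 = 1 := by rw [← mul_left_inj (t 2), h0, one_mul, eq_comm]
  have e1 : t 0 * t 2 = 1 ↔ t 1 = 1 := by
    rw [← mul_left_inj (t 1), mul_right_comm, h0, one_mul, eq_comm]
  have e0 : t 1 * t 2 = 1 ↔ t 0 = 1 := by
    rw [← mul_right_inj (t 0), ← mul_assoc, h0, mul_one, eq_comm]
  have e0' : t 2 * t 1 = 1 ↔ t 0 = 1 := by rw [mul_comm, e0]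
  have p2 := hp.out.two_le
  have n1 : ∀ x : kˣ, 1 = x ↔ x = 1 := fun _ => eq_comm
  rcases hb with b | ⟨b, c⟩ | ⟨b0, b1, b2, c0, c1, c2, d1, d2⟩
  · by_cases b1 : t 1 = 1
    · refine .inr (.inl (funext fun i => ?_))
      fin_cases i
      exacts [b, b1, e2.1 (by rw [b, b1, one_mul])]
    have b2 : t 2 ≠ 1 := fun e => b1 (e1.1 (by rw [b, e, one_mul]))
    have c : t 2 = (t 1)⁻¹ := eq_inv_of_mul_eq_one_right (e0.2 b)
    refine .inr (.inr ⟨hF.short hq b, .inl ((pow_one p).symm ▸ ?_ : u ^ p = 1)⟩)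
    by_cases d : t 1 * t 1 = 1
    · have d1 := eq_neg_one d b1
      have d2 : t 2 = -1 := by rw [c, d1, inv_neg_one]
      by_cases p3 : p = 3
      · subst p3; exact h.special hu b d1 d2
      have : p ≠ 2 := by
        rintro rfl
        exact b1 (d1.trans (Units.ext (CharTwo.neg_eq _)))
      have : p ≠ 4 := by rintro rfl; exact absurd hp.out (by decide)
      exact h.pair hu {2, 3, 5, 6} {2, 3, 5, 6}
        (fun j => by fin_cases j <;> simp [dd, b, n1, b1]) (fun j => by fin_cases j <;> simp [dd, b, n1, b2])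
        (show 4 ≤ _ by rw [pow_one]; omega) (show 4 ≤ _ by rw [pow_one]; omega)
    · exact h.pair hu {2, 6} {3, 5}
        (fun j => by fin_cases j <;> simp [dd, b, n1, b1, c, inv_eq_iff_mul_eq_one, d])
        (fun j => by fin_cases j <;> simp [dd, b, n1, b1, c, eq_inv_iff_mul_eq_one, d])
        (show 2 ≤ _ by rwa [pow_one]) (show 2 ≤ _ by rwa [pow_one])
  · rw [c] at e0 e1
    have b2 : t 2 ≠ 1 := fun e => b (e0.1 (by rw [e, one_mul]))
    refine .inr (.inr ⟨hF.long hq c, ?_⟩)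
    by_cases d : t 0 = t 2
    · have key : ∀ m, 3 ≤ p ^ m → u ^ p ^ m = 1 := fun m hm => h.pair hu {1, 2, 3} {1, 2, 3}
        (fun j => by fin_cases j <;> simp [dd, b, n1, b2, c, inv_eq_iff_mul_eq_one, e0, e1])
        (fun j => by fin_cases j <;> simp [dd, b, n1, b2, c, inv_eq_iff_mul_eq_one, e0, e1]) hm hm
      by_cases p3 : p = 2
      · subst p3
        rw [d, c] at h0
        exact .inr ⟨rfl, funext fun i => by fin_cases i <;> simp [d, c, pow_succ, h0],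
          key 2 (by norm_num)⟩
      · exact .inl ((pow_one p).symm ▸ key 1 (by rw [pow_one]; omega))
    · exact .inl ((pow_one p).symm ▸ h.pair hu {2, 3} {2, 3}
        (fun j => by fin_cases j <;> simp [dd, b, n1, b2, c, inv_eq_iff_mul_eq_one, e0, e1, d])
        (fun j => by fin_cases j <;> simp [dd, b, n1, b2, c, inv_eq_iff_mul_eq_one, e0, e1, d])
        (show 2 ≤ p ^ 1 by rwa [pow_one]) (show 2 ≤ p ^ 1 by rwa [pow_one]))
  · have := h.pair hu (m := 0) {2} {3}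
      (fun j => by fin_cases j <;> simp [dd, n1, inv_eq_iff_mul_eq_one, c2.symm, *])
      (fun j => by fin_cases j <;> simp [dd, n1, inv_eq_iff_mul_eq_one, *]) (by simp) (by simp)
    exact .inl (by simpa using this)

theorem Concl.of_rot (h : Concl p q (t ∘ ![1, 2, 0]) (rotG u)) : Concl p q t u := by
  have e : ∀ n : ℕ, (t ∘ ![1, 2, 0]) ^ n = 1 → t ^ n = 1 := fun n h => funext fun i => by
    fin_cases i
    exacts [congrFun h 2, congrFun h 0, congrFun h 1]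
  have e' : ∀ n : ℕ, rotG u ^ n = 1 → u ^ n = 1 := fun n h => by
    rwa [← map_pow, EmbeddingLike.map_eq_one_iff] at h
  exact h.imp (by simpa using e' 1) (Or.imp (by simpa using e 1) (And.imp (Or.imp (e _) (e _))
    (Or.imp (e' _) (And.imp_right (And.imp (e _) (e' _))))))

theorem concl (hq : 0 < q) (hF : Frob q t) (h : Cm t u) (hu : u ^ p ^ a = 1) : Concl p q t u := by
  have e : ∀ u : GL (Fin 8) k, u ^ p ^ a = 1 → rotG u ^ p ^ a = 1 := fun u h => by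
    rw [← map_pow, h, map_one]
  have : Base t ∨ Base (t ∘ ![1, 2, 0]) ∨ Base ((t ∘ ![1, 2, 0]) ∘ ![1, 2, 0]) := by
    have k : ∀ x y : kˣ, x ≠ 1 → y ≠ 1 → x ≠ y → x * x = 1 → y * y ≠ 1 := fun x y h1 h2 h3 h4 h5 =>
      h3 ((eq_neg_one h4 h1).trans (eq_neg_one h5 h2).symm)
    have k1 := k (t 1) (t 2)
    have k2 := k (t 1) (t 0)
    have k3 := k (t 2) (t 0)
    have k4 := k (t 2) (t 1)
    simp only [Base, Function.comp, cons_val]
    grind
  rcases this with b | b | b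
  · exact concl_of_base hq hF h hu b
  · exact (concl_of_base hq hF.rot h.rot (e _ hu) b).of_rot
  · exact (concl_of_base hq hF.rot.rot h.rot.rot (e _ (e _ hu)) b).of_rot.of_rot

theorem pow_of_diag {G : Type*} [Group G] {ψ : G →* GL (Fin 8) k} (h : Function.Injective ψ)
    {a : GL (Fin 8) k} {s : G} (e : (a⁻¹ * ψ s * a).1 = diagonal fun i => (dd t i).1) :
    (∀ (y : G) (n : ℕ), (a⁻¹ * ψ y * a) ^ n = 1 ↔ y ^ n = 1) ∧ ∀ n : ℕ, t ^ n = 1 → s ^ n = 1 := by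
  have k : ∀ (y : G) (n : ℕ), (a⁻¹ * ψ y * a) ^ n = 1 ↔ y ^ n = 1 := fun y n => by
    have := conj_pow (a := a⁻¹) (b := ψ y) (i := n)
    rw [inv_inv] at this
    rw [this, ← map_pow, ← map_eq_one_iff ψ h, mul_assoc, inv_mul_eq_one, eq_comm, mul_eq_right]
  refine ⟨k, fun n hn => (k _ _).1 (Units.ext ?_)⟩
  rw [Units.val_pow_eq_pow_val, e, diagonal_pow, Units.val_one, ← diagonal_one]
  congr 1
  have := fun i => congrArg Units.val (congrFun hn i)
  ext i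
  fin_cases i <;> simp [dd] <;> simpa using this _

variable {F : Type*} [Field F] [Fintype F] (p)

theorem upper [CharP F p] (hq : Fintype.card F = q) (z : chevG2.group F) :
    z ^ (q ^ 2 - 1) = 1 ∨ z ^ (q ^ 2 + q + 1) = 1 ∨ z ^ (q ^ 2 - q + 1) = 1 ∨
      z ^ (p * (q - 1)) = 1 ∨ z ^ (p * (q + 1)) = 1 ∨ (p = 2 ∧ z ^ 12 = 1) ∨
      ∀ j, 7 ≤ p ^ j → z ^ p ^ j = 1 := by
  obtain ⟨ψ, h1, h2, h3⟩ := exists_psi (F := F) p
  have q0 : 0 < q := hq ▸ Fintype.card_pos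
  obtain ⟨a, m, hm, e⟩ := Nat.exists_eq_pow_mul_and_not_dvd (orderOf_pos z).ne' p hp.out.ne_one
  have hc : (p ^ a).Coprime m := ((Nat.Prime.coprime_iff_not_dvd hp.out).2 hm).pow_left a
  obtain ⟨t, hF, b, hb, hd⟩ := h3 (z ^ p ^ a) (Nat.Coprime.coprime_dvd_left
    (orderOf_dvd_of_pow_eq_one (by rw [← pow_mul, ← e, pow_orderOf_eq_one]))
    ((Nat.Prime.coprime_iff_not_dvd hp.out).2 hm).symm)
  rw [hq] at hF
  obtain ⟨k1, k2⟩ := pow_of_diag h1 hd
  have key : ∀ y x : ℕ, t ^ x = 1 → (b⁻¹ * ψ (z ^ m) * b) ^ y = 1 → z ^ (y * x) = 1 := by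
    intro y x hx hy
    rw [← pow_one (z ^ _), ← hc.gcd_eq_one]
    refine pow_gcd_eq_one.2 ⟨?_, ?_⟩
    · rw [← pow_mul, mul_comm, mul_comm y, pow_mul, pow_mul, k2 _ hx, one_pow]
    · rw [← pow_mul, mul_comm, pow_mul, pow_mul, (k1 _ _).1 hy, one_pow]
  have hu : (b⁻¹ * ψ (z ^ m) * b) ^ p ^ a = 1 :=
    (k1 _ _).2 (by rw [← pow_mul, mul_comm, ← e, pow_orderOf_eq_one])
  have hg : b⁻¹ * ψ (z ^ m) * b ∈ G2 _ := mul_mem (mul_mem (inv_mem hb) (h2 _)) hb
  have hC : Cm t (b⁻¹ * ψ (z ^ m) * b) := ⟨hg, fun i j hij => by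
    have : b⁻¹ * ψ (z ^ p ^ a) * b * (b⁻¹ * ψ (z ^ m) * b) =
        b⁻¹ * ψ (z ^ m) * b * (b⁻¹ * ψ (z ^ p ^ a) * b) := by
      simp only [mul_assoc, mul_inv_cancel_left]
      simp only [← mul_assoc, mul_left_inj]
      simp only [mul_assoc, ← map_mul, ← pow_add, add_comm]
    have := congrArg Units.val this
    rw [Units.val_mul, Units.val_mul _ (b⁻¹ * ψ (z ^ p ^ a) * b), hd] at this
    have := congrFun (congrFun this i) j
    rw [diagonal_mul, mul_diagonal, mul_comm] at this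
    exact (mul_eq_mul_left_iff.1 this).resolve_left fun e => hij (Units.ext e)⟩
  rcases concl q0 hF hC hu with h | h | ⟨h, h' | ⟨rfl, h', h''⟩⟩
  · have := fun x hx => key 1 x hx (by rw [h, one_pow])
    simp only [one_mul] at this
    rcases hF.ss q0 with h | h | h
    exacts [.inl (this _ h), .inr (.inl (this _ h)), .inr (.inr (.inl (this _ h)))]
  · iterate 6 right
    intro j hj
    simpa using key _ 1 (by rw [h, one_pow]) (unip hg hu hj)
  · iterate 3 right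
    exact h.imp (key _ _ · h') fun h => .inl (key _ _ h h')
  · iterate 5 right
    exact .inl ⟨rfl, key 4 3 h' h''⟩

end Cfsg.Agent.Chev.Oct
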