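import Mathlib
import Cfsg.Agent.Chev.Oct5
import Cfsg.Agent.Spec.Basic

/-! Element orders of `G₂(q)`: existence. -/

set_option autoImplicit false
set_option linter.unusedSectionVars false
set_option maxHeartbeats 400000
set_option maxRecDepth 100000

namespace Cfsg.Agent.Chev.Oct
open Cfsg.Lie Cfsg.Agent.BN Cfsg.Agent.Spec Matrix

attribute [local instance] good2G2

variable {F : Type*} [Field F]

/-- the action of a word in the root elements -/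
def fw (l : List (Fin 12)) (x : Fin 8 → F) : Fin 8 → F := l.foldr (fun r => act r 1) x

theorem act_map {K : Type*} [Field K] (φ : K →+* F) (r : Fin 12) (x : Fin 8 → K) :
    act r 1 (φ ∘ x) = φ ∘ act r 1 x := by
  fin_cases r <;> ext i <;> fin_cases i <;> simp [act]

variable (p : ℕ) [hp : Fact p.Prime] [CharP F p]

theorem mem_word (hF : ∃ a : F, a ≠ 0 ∧ a ≠ 1) (l : List (Fin 12)) {n : ℕ} (hn : 0 < n)
    (h : (∀ i ∈ [1, 2, 3], (fw l)^[n] (bv (ZMod p) i) = bv _ i) ∧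
      ∀ m < n, 0 < m → ∃ i < 8, (fw l)^[m] (bv (ZMod p) i) ≠ bv _ i) :
    n ∈ spec (chevG2.group F) := by
  obtain ⟨χ, h1, h2, h3⟩ := exists_chi hF
  let φ := ZMod.castHom (dvd_refl p) F
  have e1 : ∀ x, ac (χ (l.map (xg · 1)).prod) (φ ∘ x) = φ ∘ fw l x := fun x => by
    clear h
    induction l with
    | nil => simp [ac, fw]
    | cons r l ih => rw [List.map_cons, List.prod_cons, map_mul, ac_mul, ih, h3]
                     exact (ac_X _ _ _).trans (act_map φ r _)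
  have e2 : ∀ m x, ac (χ (l.map (xg · 1)).prod ^ m) (φ ∘ x) = φ ∘ (fw l)^[m] x := fun m => by
    induction m with
    | zero => simp [ac]
    | succ m ih => intro x; rw [pow_succ, ac_mul, e1, ih]; rfl
  have e3 : ∀ i, φ ∘ bv _ i = bv F i := fun i => funext fun j => by simp [bv, apply_ite φ]
  have e4 : ∀ i ∈ [1, 2, 3], ac (χ (l.map (xg · 1)).prod ^ n) (bv F i) = bv F i := fun i hi => by
    rw [← e3, e2, h.1 i hi]
  refine ⟨(l.map (xg · 1)).prod, (orderOf_injective χ h1 _).symm.trans ((orderOf_eq_iff hn).2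
    ⟨eq_one_v (pow_mem (h2 _) _) (e4 _ (by simp)) (e4 _ (by simp)) (e4 _ (by simp)),
      fun m k1 k2 e => ?_⟩)⟩
  obtain ⟨i, -, hi⟩ := h.2 m k1 k2
  have := e2 m (bv _ i)
  rw [e, show ∀ x, ac 1 x = x by simp [ac]] at this
  exact hi (funext fun j => φ.injective (congrFun this j).symm)

theorem mem_sq (hF : ∃ a : F, a ≠ 0 ∧ a ≠ 1) (h : p = 3 ∨ p = 5) :
    p * p ∈ spec (chevG2.group F) := by
  rcases h with rfl | rfl
  exacts [@mem_word F _ 3 Nat.fact_prime_three _ hF [7, 6] _ (by norm_num) (by decide +kernel),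
    @mem_word F _ 5 ⟨Nat.prime_five⟩ _ hF [7, 6] _ (by norm_num) (by decide +kernel)]

variable [Fintype F] {q : ℕ}

theorem mem_tor (hq : Fintype.card F = q) (l : List (Fin 2)) (a b c d : ℤ)
    (hl : allN 2 (fun i => allN 2 fun j => ieq (certG2.cv chevG2 (certG2.appW (l.map Fin.val)
      (chevG2.simple i)) j) (ent2 [[a, b], [c, d]] i j)) = true) {N e : ℕ} (hN : ¬ p ∣ N) (h0 : (N : ℤ) ∣ a + e * c - q)
    (h1 : (N : ℤ) ∣ b + e * d - e * q) : N ∈ spec (chevG2.group F) ∧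
      (e = 2 → certG2.appW (l.map Fin.val) 7 = 7 → p * N ∈ spec (chevG2.group F)) := by
  haveI : NeZero (N : AlgebraicClosure F) := ⟨fun h => hN ((CharP.cast_eq_zero_iff _ p _).1 h)⟩
  haveI : NeZero N := ⟨by rintro rfl; simp at hN⟩
  obtain ⟨ζ, hζ⟩ := HasEnoughRootsOfUnity.exists_primitiveRoot (AlgebraicClosure F) N
  lift ζ to (AlgebraicClosure F)ˣ using hζ.isUnit (NeZero.ne N)
  have ho : orderOf ζ = N := (IsPrimitiveRoot.coe_units_iff.1 hζ).eq_orderOf.symm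
  have hc : (![ζ, ζ ^ e] : Fin 2 → _) ^ Fintype.card F = wa (wp sW l : W chevG2) ![ζ, ζ ^ e] := by
    have k : ∀ j : Fin 2, wa (wp sW l : W chevG2) ![ζ, ζ ^ e] j =
        ζ ^ (ent2 [[a, b], [c, d]] 0 j + e * ent2 [[a, b], [c, d]] 1 j) := fun j => by
      simp only [allN_iff, ieq_iff] at hl
      rw [← hl 0 (by decide) j j.2, ← hl 1 (by decide) j j.2, _root_.zpow_add, _root_.zpow_mul, zpow_natCast]
      exact (Fin.prod_univ_two _).trans (congrArg₂ (fun x y : ℤ => ζ ^ x * (ζ ^ e) ^ y)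
        (congrFun₂ (wM_wp (D := chevG2) l) (0 : Fin 2) j) (congrFun₂ (wM_wp (D := chevG2) l) (1 : Fin 2) j))
    refine funext fun j : Fin 2 => Eq.trans ?_ (k j).symm
    fin_cases j
    · change ζ ^ _ = _
      rw [← zpow_natCast, zpow_eq_zpow_iff_modEq, ho, hq]
      exact (Int.modEq_iff_dvd.2 h0)
    · change (ζ ^ e) ^ _ = _
      rw [← pow_mul, ← zpow_natCast, zpow_eq_zpow_iff_modEq, ho, hq, Nat.cast_mul]
      exact (Int.modEq_iff_dvd.2 h1)
  have ho' : orderOf (![ζ, ζ ^ e] : Fin 2 → _) = N := by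
    rw [← ho, orderOf_eq_orderOf_iff]
    refine fun n => ⟨fun h => congrFun h 0, fun h => funext fun i => ?_⟩
    fin_cases i
    · exact h
    · change (ζ ^ e) ^ n = 1
      rw [← pow_mul, mul_comm, pow_mul, h, one_pow]
  obtain ⟨k1, k2⟩ := exists_mixed (D := chevG2) p (ker_G2 _) hc
  refine ⟨ho' ▸ k1, fun he hw => ho' ▸ k2 (0 : Fin 2) (Fin.ext ((wp_smul_val _ _).trans hw)) ?_⟩
  subst he
  change ζ ^ (2 : ℤ) * ((ζ ^ 2) ^ (-1 : ℤ) * 1) = 1
  group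

theorem mem_all (hq : Fintype.card F = q) : q ^ 2 - 1 ∈ spec (chevG2.group F) ∧
    q ^ 2 + q + 1 ∈ spec (chevG2.group F) ∧ q ^ 2 - q + 1 ∈ spec (chevG2.group F) ∧
    p * (q - 1) ∈ spec (chevG2.group F) ∧ p * (q + 1) ∈ spec (chevG2.group F) := by
  obtain ⟨n, -, hn⟩ := FiniteField.card F p
  have h1 : p ∣ q := hq ▸ hn ▸ dvd_pow_self p n.ne_zero
  have q1 : 1 ≤ q := hq ▸ Fintype.card_pos
  have q2 : 1 ≤ q ^ 2 := Nat.one_le_pow _ _ q1
  have q3 : q ≤ q ^ 2 := by nlinarith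
  have h2 : p ∣ q ^ 2 := h1.pow two_ne_zero
  have k1 : ∀ m, p ∣ m → ¬ p ∣ m + 1 := fun m h e => hp.out.one_lt.ne' (Nat.dvd_one.1
    ((Nat.dvd_add_right h).1 e))
  have k2 : ∀ m, 1 ≤ m → p ∣ m → ¬ p ∣ m - 1 := fun m h e e' => k1 _ e' (by rwa [Nat.sub_add_cancel h])
  refine ⟨(mem_tor p hq [0] (-1) 0 1 1 (by decide +kernel) (e := q + 1) (k2 _ q2 h2) ?_ ?_).1,
    (mem_tor p hq [1, 0, 1, 0] (-2) (-3) 1 1 (by decide +kernel) (e := q + 2)
      (k1 _ (dvd_add h2 h1)) ?_ ?_).1,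
    (mem_tor p hq [1, 0] (-1) (-3) 1 2 (by decide +kernel) (e := q + 1)
      (k1 _ (Nat.dvd_sub h2 h1)) ?_ ?_).1,
    (mem_tor p hq [] 1 0 0 1 (by decide +kernel) (k2 _ q1 h1) ?_ ?_).2 rfl rfl,
    (mem_tor p hq [1, 0, 1, 0, 1] 1 0 (-1) (-1) (by decide +kernel) (k1 _ h1) ?_ ?_).2 rfl
      (by decide +kernel)⟩ <;> push_cast [q1, q2, q3]
  exacts [⟨0, by ring⟩, ⟨-1, by ring⟩, ⟨0, by ring⟩, ⟨-1, by ring⟩, ⟨0, by ring⟩, ⟨-1, by ring⟩,
    ⟨-1, by ring⟩, ⟨-2, by ring⟩, ⟨-1, by ring⟩, ⟨-2, by ring⟩]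

end Cfsg.Agent.Chev.Oct
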