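import Mathlib
import Cfsg.Agent.Chev.CertD4
import Cfsg.Agent.Chev.Cox

set_option autoImplicit false
set_option maxRecDepth 100000

namespace Cfsg.Agent.Chev
open Cfsg.Lie Cfsg.Agent.BN

attribute [local instance] goodD4

theorem fd_D4 : lall (trivFD chevD4.rank) (certD4.chkFD chevD4) = true := by decide +kernel
theorem step0_D4 : certD4.chkStep chevD4 (trivFD chevD4.rank) 15 13 23 96532200362056680440493354668613631972224809539405833 = true := by decide +kernel
theorem dep0_D4 : depths chevD4.nroots 96532200362056680440493354668613631972224809539405833 = [9, 8, 7, 7, 6, 5, 7, 6, 6, 5, 5, 5, 4, 4, 4, 3, 3, 2, 4, 3, 2, 2, 1, 0] := by decide +kernel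
theorem sum0_D4 (t : ℤ) : (([9, 8, 7, 7, 6, 5, 7, 6, 6, 5, 5, 5, 4, 4, 4, 3, 3, 2, 4, 3, 2, 2, 1, 0] : List ℕ).map (t ^ ·)).sum = t ^ 0 + t ^ 1 + 3 * t ^ 2 + 3 * t ^ 3 + 4 * t ^ 4 + 4 * t ^ 5 + 3 * t ^ 6 + 3 * t ^ 7 + t ^ 8 + t ^ 9 := by
  simp only [List.map_cons, List.map_nil, List.sum_cons, List.sum_nil]; ring
theorem step1_D4 : certD4.chkStep chevD4 (trivFD chevD4.rank) 13 5 12 6277101735386680763835789402925875782470327710654232788991 = true := by decide +kernel
theorem dep1_D4 : depths chevD4.nroots 6277101735386680763835789402925875782470327710654232788991 = [1, 0] := by decide +kernel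
theorem sum1_D4 (t : ℤ) : (([1, 0] : List ℕ).map (t ^ ·)).sum = t ^ 0 + t ^ 1 := by
  simp only [List.map_cons, List.map_nil, List.sum_cons, List.sum_nil]; ring
theorem step2_D4 : certD4.chkStep chevD4 (trivFD chevD4.rank) 5 1 13 6277101735386680763835784251192910417768215222104581210111 = true := by decide +kernel
theorem dep2_D4 : depths chevD4.nroots 6277101735386680763835784251192910417768215222104581210111 = [1, 0] := by decide +kernel
theorem sum2_D4 (t : ℤ) : (([1, 0] : List ℕ).map (t ^ ·)).sum = t ^ 0 + t ^ 1 := by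
  simp only [List.map_cons, List.map_nil, List.sum_cons, List.sum_nil]; ring
theorem step3_D4 : certD4.chkStep chevD4 (trivFD chevD4.rank) 1 0 6 6277101735386680763835789423207666416102283668344973230591 = true := by decide +kernel
theorem dep3_D4 : depths chevD4.nroots 6277101735386680763835789423207666416102283668344973230591 = [1, 0] := by decide +kernel
theorem sum3_D4 (t : ℤ) : (([1, 0] : List ℕ).map (t ^ ·)).sum = t ^ 0 + t ^ 1 := by
  simp only [List.map_cons, List.map_nil, List.sum_cons, List.sum_nil]; ring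

theorem poin_D4_eq (t : ℤ) : poin chevD4 t = (t ^ 0 + t ^ 1 + 3 * t ^ 2 + 3 * t ^ 3 + 4 * t ^ 4 + 4 * t ^ 5 + 3 * t ^ 6 + 3 * t ^ 7 + t ^ 8 + t ^ 9) * (t ^ 0 + t ^ 1) * (t ^ 0 + t ^ 1) * (t ^ 0 + t ^ 1) := by
  rw [poin_eq, ← MS_eq_univ (m := 15) (by decide +kernel),
    (desc_triv fd_D4).step step0_D4, dep0_D4, sum0_D4,
    (desc_triv fd_D4).step step1_D4, dep1_D4, sum1_D4,
    (desc_triv fd_D4).step step2_D4, dep2_D4, sum2_D4,
    (desc_triv fd_D4).step step3_D4, dep3_D4, sum3_D4,
    MS_zero, Fold.P_empty]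
  ring

theorem poin_D4 (t : ℤ) : (t - 1) ^ 4 * poin chevD4 t = (t ^ 2 - 1) * (t ^ 4 - 1) * (t ^ 4 - 1) * (t ^ 6 - 1) := by
  rw [poin_D4_eq]; ring

theorem card_W_D4 : Nat.card (W chevD4) = 192 := by
  have := card_W (D := chevD4)
  rw [poin_D4_eq] at this
  exact_mod_cast this

theorem cox_D4 : ∃ e : W chevD4 ≃* coxeterD4.Group, ∀ i : Fin 4, e (sW i) = coxeterD4.simple i :=
  exists_coxEquiv (D := chevD4) coxeterD4 (by decide +kernel)

theorem coxElt_D4 : orderOf ((List.finRange 4).map coxeterD4.simple).prod = 6 :=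
  orderOf_cox_word (D := chevD4) coxeterD4 cox_D4 (List.finRange 4) (by decide +kernel)

end Cfsg.Agent.Chev
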