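import Mathlib
import Cfsg.Agent.Chev.CertE6
import Cfsg.Agent.Chev.Cox

set_option autoImplicit false
set_option maxRecDepth 100000

namespace Cfsg.Agent.Chev
open Cfsg.Lie Cfsg.Agent.BN

attribute [local instance] goodE6

theorem fd_E6 : lall (trivFD chevE6.rank) (certE6.chkFD chevE6) = true := by decide +kernel
theorem step0_E6 : certE6.chkStep chevE6 (trivFD chevE6.rank) 63 61 71 3803620166987808210390766375196085615446514018626590542156553300625020931496032235348900195185247020868988394329196027657703365089287961221869828959448133492701645706261 = true := by decide +kernel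
theorem dep0_E6 : depths chevE6.nroots 3803620166987808210390766375196085615446514018626590542156553300625020931496032235348900195185247020868988394329196027657703365089287961221869828959448133492701645706261 = [21, 20, 19, 18, 17, 18, 17, 16, 16, 15, 14, 15, 14, 13, 12, 11, 17, 16, 15, 15, 14, 13, 14, 13, 12, 11, 14, 13, 12, 11, 13, 12, 11, 12, 11, 11, 10, 10, 9, 10, 9, 8, 10, 9, 8, 7, 10, 9, 8, 7, 8, 7, 6, 6, 5, 4, 10, 9, 8, 7, 6, 7, 6, 5, 5, 4, 3, 4, 3, 2, 1, 0] := by decide +kernel
theorem sum0_E6 (t : ℤ) : (([21, 20, 19, 18, 17, 18, 17, 16, 16, 15, 14, 15, 14, 13, 12, 11, 17, 16, 15, 15, 14, 13, 14, 13, 12, 11, 14, 13, 12, 11, 13, 12, 11, 12, 11, 11, 10, 10, 9, 10, 9, 8, 10, 9, 8, 7, 10, 9, 8, 7, 8, 7, 6, 6, 5, 4, 10, 9, 8, 7, 6, 7, 6, 5, 5, 4, 3, 4, 3, 2, 1, 0] : List ℕ).map (t ^ ·)).sum = t ^ 0 + t ^ 1 + t ^ 2 + 2 * t ^ 3 + 3 * t ^ 4 + 3 * t ^ 5 + 4 * t ^ 6 + 5 * t ^ 7 + 5 * t ^ 8 + 5 * t ^ 9 + 6 * t ^ 10 + 6 * t ^ 11 + 5 * t ^ 12 + 5 * t ^ 13 + 5 * t ^ 14 + 4 * t ^ 15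 + 3 * t ^ 16 + 3 * t ^ 17 + 2 * t ^ 18 + t ^ 19 + t ^ 20 + t ^ 21 := by
  simp only [List.map_cons, List.map_nil, List.sum_cons, List.sum_nil]; ring
theorem step1_E6 : certE6.chkStep chevE6 (trivFD chevE6.rank) 61 53 25 247330401473104534060502521019647190035131349101211839914063056092897225106531867170316401061243044989597671425604769526450751828338399801025509407607407534448360093173418495 = true := by decide +kernel
theorem dep1_E6 : depths chevE6.nroots 247330401473104534060502521019647190035131349101211839914063056092897225106531867170316401061243044989597671425604769526450751828338399801025509407607407534448360093173418495 = [9, 8, 7, 6, 7, 6, 5, 5, 4, 3, 6, 5, 4, 4, 3, 2, 3, 2, 1, 0] := by decide +kernel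
theorem sum1_E6 (t : ℤ) : (([9, 8, 7, 6, 7, 6, 5, 5, 4, 3, 6, 5, 4, 4, 3, 2, 3, 2, 1, 0] : List ℕ).map (t ^ ·)).sum = t ^ 0 + t ^ 1 + 2 * t ^ 2 + 3 * t ^ 3 + 3 * t ^ 4 + 3 * t ^ 5 + 3 * t ^ 6 + 2 * t ^ 7 + t ^ 8 + t ^ 9 := by
  simp only [List.map_cons, List.map_nil, List.sum_cons, List.sum_nil]; ring
theorem step2_E6 : certE6.chkStep chevE6 (trivFD chevE6.rank) 53 5 38 247330401473104534060502521019647190035131349101211839914063056092897225106531858826744857967578807072428726928572771111188092969986016966389963292598639822939542505799024639 = true := by decide +kernel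
theorem dep2_E6 : depths chevE6.nroots 247330401473104534060502521019647190035131349101211839914063056092897225106531858826744857967578807072428726928572771111188092969986016966389963292598639822939542505799024639 = [3, 2, 2, 1, 1, 0] := by decide +kernel
theorem sum2_E6 (t : ℤ) : (([3, 2, 2, 1, 1, 0] : List ℕ).map (t ^ ·)).sum = t ^ 0 + 2 * t ^ 1 + 2 * t ^ 2 + t ^ 3 := by
  simp only [List.map_cons, List.map_nil, List.sum_cons, List.sum_nil]; ring
theorem step3_E6 : certE6.chkStep chevE6 (trivFD chevE6.rank) 5 4 16 247330401473104534060502521019647190035131349101211839914063056092897225106531867170316401061243044989597671426016139339351365034306664437963981315793710007391432395284742143 = true := by decide +kernel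
theorem dep3_E6 : depths chevE6.nroots 247330401473104534060502521019647190035131349101211839914063056092897225106531867170316401061243044989597671426016139339351365034306664437963981315793710007391432395284742143 = [2, 1, 0] := by decide +kernel
theorem sum3_E6 (t : ℤ) : (([2, 1, 0] : List ℕ).map (t ^ ·)).sum = t ^ 0 + t ^ 1 + t ^ 2 := by
  simp only [List.map_cons, List.map_nil, List.sum_cons, List.sum_nil]; ring
theorem step4_E6 : certE6.chkStep chevE6 (trivFD chevE6.rank) 4 0 5 247330401473104534060502521019647190035131349101211839914063056092897225106531867170316401061243044989597671426016139339351365034306751209967546155101893167916326396666970111 = true := by decide +kernel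
theorem dep4_E6 : depths chevE6.nroots 247330401473104534060502521019647190035131349101211839914063056092897225106531867170316401061243044989597671426016139339351365034306751209967546155101893167916326396666970111 = [1, 0] := by decide +kernel
theorem sum4_E6 (t : ℤ) : (([1, 0] : List ℕ).map (t ^ ·)).sum = t ^ 0 + t ^ 1 := by
  simp only [List.map_cons, List.map_nil, List.sum_cons, List.sum_nil]; ring

theorem poin_E6_eq (t : ℤ) : poin chevE6 t = (t ^ 0 + t ^ 1 + t ^ 2 + 2 * t ^ 3 + 3 * t ^ 4 + 3 * t ^ 5 + 4 * t ^ 6 + 5 * t ^ 7 + 5 * t ^ 8 + 5 * t ^ 9 + 6 * t ^ 10 + 6 * t ^ 11 + 5 * t ^ 12 + 5 * t ^ 13 + 5 * t ^ 14 + 4 * t ^ 15 + 3 * t ^ 16 + 3 * t ^ 17 + 2 * t ^ 18 + t ^ 19 + t ^ 20 + t ^ 21) * (t ^ 0 + t ^ 1 + 2 * t ^ 2 + 3 * t ^ 3 + 3 * t ^ 4 + 3 * t ^ 5 + 3 * t ^ 6 + 2 * t ^ 7 + t ^ 8 + t ^ 9) * (t ^ 0 + 2 * t ^ 1 + 2 * t ^ 2 + t ^ 3) * (t ^ 0 + t ^ 1 + t ^ 2) * (t ^ 0 + t ^ 1) := by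
  rw [poin_eq, ← MS_eq_univ (m := 63) (by decide +kernel),
    (desc_triv fd_E6).step step0_E6, dep0_E6, sum0_E6,
    (desc_triv fd_E6).step step1_E6, dep1_E6, sum1_E6,
    (desc_triv fd_E6).step step2_E6, dep2_E6, sum2_E6,
    (desc_triv fd_E6).step step3_E6, dep3_E6, sum3_E6,
    (desc_triv fd_E6).step step4_E6, dep4_E6, sum4_E6,
    MS_zero, Fold.P_empty]
  ring

theorem poin_E6 (t : ℤ) : (t - 1) ^ 6 * poin chevE6 t = (t ^ 2 - 1) * (t ^ 5 - 1) * (t ^ 6 - 1) * (t ^ 8 - 1) * (t ^ 9 - 1) * (t ^ 12 - 1) := by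
  rw [poin_E6_eq]; ring

theorem card_W_E6 : Nat.card (W chevE6) = 51840 := by
  have := card_W (D := chevE6)
  rw [poin_E6_eq] at this
  exact_mod_cast this

theorem cox_E6 : ∃ e : W chevE6 ≃* CoxeterMatrix.E₆.Group, ∀ i : Fin 6, e (sW i) = CoxeterMatrix.E₆.simple i :=
  exists_coxEquiv (D := chevE6) CoxeterMatrix.E₆ (by decide +kernel)

theorem coxElt_E6 : orderOf ((List.finRange 6).map CoxeterMatrix.E₆.simple).prod = 12 :=
  orderOf_cox_word (D := chevE6) CoxeterMatrix.E₆ cox_E6 (List.finRange 6) (by decide +kernel)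

end Cfsg.Agent.Chev
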