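import Mathlib
import Cfsg.Agent.Chev.CertF4
import Cfsg.Agent.Chev.Cox

set_option autoImplicit false
set_option maxRecDepth 100000

namespace Cfsg.Agent.Chev
open Cfsg.Lie Cfsg.Agent.BN

attribute [local instance] goodF4

theorem fd_F4 : lall (trivFD chevF4.rank) (certF4.chkFD chevF4) = true := by decide +kernel
theorem step0_F4 : certF4.chkStep chevF4 (trivFD chevF4.rank) 15 14 44 39402003857025890357746189784977271893737531924666347209391459432117264567198709879395341150008386473749296327950335 = true := by decide +kernel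
theorem dep0_F4 : depths chevF4.nroots 39402003857025890357746189784977271893737531924666347209391459432117264567198709879395341150008386473749296327950335 = [15, 14, 13, 12, 11, 11, 10, 9, 8, 10, 9, 8, 7, 6, 5, 7, 6, 5, 4, 4, 3, 2, 1, 0] := by decide +kernel
theorem sum0_F4 (t : ℤ) : (([15, 14, 13, 12, 11, 11, 10, 9, 8, 10, 9, 8, 7, 6, 5, 7, 6, 5, 4, 4, 3, 2, 1, 0] : List ℕ).map (t ^ ·)).sum = t ^ 0 + t ^ 1 + t ^ 2 + t ^ 3 + 2 * t ^ 4 + 2 * t ^ 5 + 2 * t ^ 6 + 2 * t ^ 7 + 2 * t ^ 8 + 2 * t ^ 9 + 2 * t ^ 10 + 2 * t ^ 11 + t ^ 12 + t ^ 13 + t ^ 14 + t ^ 15 := by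
  simp only [List.map_cons, List.map_nil, List.sum_cons, List.sum_nil]; ring
theorem step1_F4 : certF4.chkStep chevF4 (trivFD chevF4.rank) 14 6 6 39402006196394479212279040100143613805079739270465446667948293404245721771497210611414266254884915568750146332328965 = true := by decide +kernel
theorem dep1_F4 : depths chevF4.nroots 39402006196394479212279040100143613805079739270465446667948293404245721771497210611414266254884915568750146332328965 = [5, 4, 3, 2, 1, 0] := by decide +kernel
theorem sum1_F4 (t : ℤ) : (([5, 4, 3, 2, 1, 0] : List ℕ).map (t ^ ·)).sum = t ^ 0 + t ^ 1 + t ^ 2 + t ^ 3 + t ^ 4 + t ^ 5 := by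
  simp only [List.map_cons, List.map_nil, List.sum_cons, List.sum_nil]; ring
theorem step2_F4 : certF4.chkStep chevF4 (trivFD chevF4.rank) 6 2 5 39402006196394479212279040100143613805079739270465446667948293404245721771497210611414266254884915640525161586885631 = true := by decide +kernel
theorem dep2_F4 : depths chevF4.nroots 39402006196394479212279040100143613805079739270465446667948293404245721771497210611414266254884915640525161586885631 = [3, 2, 1, 0] := by decide +kernel
theorem sum2_F4 (t : ℤ) : (([3, 2, 1, 0] : List ℕ).map (t ^ ·)).sum = t ^ 0 + t ^ 1 + t ^ 2 + t ^ 3 := by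
  simp only [List.map_cons, List.map_nil, List.sum_cons, List.sum_nil]; ring
theorem step3_F4 : certF4.chkStep chevF4 (trivFD chevF4.rank) 2 0 4 39402006196394479212279040100143613805079739270465446667948293404245721771497210611414266254884915640805532757000191 = true := by decide +kernel
theorem dep3_F4 : depths chevF4.nroots 39402006196394479212279040100143613805079739270465446667948293404245721771497210611414266254884915640805532757000191 = [1, 0] := by decide +kernel
theorem sum3_F4 (t : ℤ) : (([1, 0] : List ℕ).map (t ^ ·)).sum = t ^ 0 + t ^ 1 := by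
  simp only [List.map_cons, List.map_nil, List.sum_cons, List.sum_nil]; ring

theorem poin_F4_eq (t : ℤ) : poin chevF4 t = (t ^ 0 + t ^ 1 + t ^ 2 + t ^ 3 + 2 * t ^ 4 + 2 * t ^ 5 + 2 * t ^ 6 + 2 * t ^ 7 + 2 * t ^ 8 + 2 * t ^ 9 + 2 * t ^ 10 + 2 * t ^ 11 + t ^ 12 + t ^ 13 + t ^ 14 + t ^ 15) * (t ^ 0 + t ^ 1 + t ^ 2 + t ^ 3 + t ^ 4 + t ^ 5) * (t ^ 0 + t ^ 1 + t ^ 2 + t ^ 3) * (t ^ 0 + t ^ 1) := by
  rw [poin_eq, ← MS_eq_univ (m := 15) (by decide +kernel),
    (desc_triv fd_F4).step step0_F4, dep0_F4, sum0_F4,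
    (desc_triv fd_F4).step step1_F4, dep1_F4, sum1_F4,
    (desc_triv fd_F4).step step2_F4, dep2_F4, sum2_F4,
    (desc_triv fd_F4).step step3_F4, dep3_F4, sum3_F4,
    MS_zero, Fold.P_empty]
  ring

theorem poin_F4 (t : ℤ) : (t - 1) ^ 4 * poin chevF4 t = (t ^ 2 - 1) * (t ^ 6 - 1) * (t ^ 8 - 1) * (t ^ 12 - 1) := by
  rw [poin_F4_eq]; ring

theorem card_W_F4 : Nat.card (W chevF4) = 1152 := by
  have := card_W (D := chevF4)
  rw [poin_F4_eq] at this
  exact_mod_cast this

theorem cox_F4 : ∃ e : W chevF4 ≃* CoxeterMatrix.F₄.Group, ∀ i : Fin 4, e (sW i) = CoxeterMatrix.F₄.simple i :=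
  exists_coxEquiv (D := chevF4) CoxeterMatrix.F₄ (by decide +kernel)

theorem coxElt_F4 : orderOf ((List.finRange 4).map CoxeterMatrix.F₄.simple).prod = 12 :=
  orderOf_cox_word (D := chevF4) CoxeterMatrix.F₄ cox_F4 (List.finRange 4) (by decide +kernel)

end Cfsg.Agent.Chev
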