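import Mathlib
import Cfsg.Agent.Chev.Inv5
import Cfsg.Agent.Chev.Cent2
import Cfsg.Agent.Chev.PoinF4
import Cfsg.Agent.H23.BT1

/-! Involutions in the large Ree groups. -/

set_option autoImplicit false
set_option linter.unusedSectionVars false
set_option maxHeartbeats 400000
set_option maxRecDepth 100000

namespace Cfsg.Agent.Chev
open Cfsg.Lie Cfsg.Agent.BN StSys

section
variable {D : ChevalleyDatum} [g : Good2 D] {F : Type*} [Field F] {G : Type*} [Group G]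
  {S : StSys D F G} {σ : Sym D}

open Classical in
theorem StSys.card_P [Finite F] [Finite S.H] (J : Set (Ix D)) : (Nat.card (S.P J) : ℤ) =
    Nat.card S.B * (Fold.triv D).P J (Nat.card F) := by
  have h1 : Nat.card (S.P J) = Nat.card (Σ w : WK J, S.cell w) := by
    refine (Nat.card_eq_of_bijective (fun p : Σ w : WK J, S.cell w =>
      (⟨p.2, mem_P.mpr ⟨_, p.1.2, p.2.2⟩⟩ : S.P J)) ⟨?_, ?_⟩).symm
    · rintro ⟨⟨w, _⟩, y, hy⟩ ⟨⟨w', _⟩, y', hy'⟩ h
      obtain rfl : y = y' := congrArg Subtype.val h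
      obtain rfl := cell_unique hy hy'
      rfl
    · rintro ⟨y, hy⟩
      obtain ⟨w, h, hw⟩ := mem_P.mp hy
      exact ⟨⟨⟨w, h⟩, y, hw⟩, rfl⟩
  have : ∀ w, Finite (S.cell w) := fun w => Nat.finite_of_card_ne_zero (by
    rw [card_cell, card_B, card_U, card_Uw]
    have := Nat.card_pos (α := F)
    have := Nat.card_pos (α := S.H)
    positivity)
  rw [h1, Nat.card_sigma, Fold.P, Finset.mul_sum, Finset.sum_subtype (p := (· ∈ WK J)) _
    (by simp [Fold.triv])]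
  push_cast
  exact Finset.sum_congr rfl fun w _ => by rw [card_cell, card_Uw]; push_cast; rfl

/-- commutators in characteristic two lie in a given list -/
def Cm (a w : Rt D) (M : List (Rt D)) : Prop := w ≠ a ∧ w ≠ ng a ∧
  ∀ c ∈ D.commTerms a w, c.2.1 % 2 = 0 ∨ c.1 ∈ M.map Fin.val
instance instDecCm (a w : Rt D) (M : List (Rt D)) : Decidable (Cm a w M) :=
  inferInstanceAs (Decidable (_ ∧ _))

theorem Cm.comm [CharP F 2] {a w : Rt D} {M : List (Rt D)} (h : Cm a w M) (t u : F) :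
    ∃ e ∈ S.XS {r | r ∈ M}, S.x w u * S.x a t = S.x a t * S.x w u * e :=
  ⟨_, wd_mem fun r v hr => by
    obtain ⟨c, hc, e⟩ := List.mem_map.mp hr
    obtain ⟨e1, rfl⟩ := Prod.mk.inj e
    rcases h.2.2 c hc with e2 | e2
    · rw [(CharP.intCast_eq_zero_iff F 2 _).mpr (Int.dvd_of_emod_eq_zero e2)]; simp
    · obtain ⟨s, hs, e2⟩ := List.mem_map.mp e2
      exact S.x_mem (T := {r | r ∈ M}) (Fin.ext (e2.trans e1) ▸ hs) _, S.comm a w h.1 h.2.1 t u⟩

theorem Cm.norm [CharP F 2] {a : Rt D} {M M' : List (Rt D)} (hM : M' ⊆ M)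
    (h : ∀ w ∈ M, Cm a w M') (t : F) :
    S.x a t ∈ Subgroup.normalizer (S.XS {r | r ∈ M} : Set G) := by
  have key : ∀ t, ∀ y ∈ S.XS {r | r ∈ M}, (S.x a t)⁻¹ * y * (S.x a t)⁻¹⁻¹ ∈ S.XS {r | r ∈ M} :=
    fun t y => S.conj_mem_XS fun w hw u => by
      obtain ⟨e, he, h1⟩ := (h w hw).comm (S := S) t u
      rw [inv_inv, mul_assoc, h1, mul_assoc, inv_mul_cancel_left]
      exact mul_mem (S.x_mem hw _) (S.XS_mono hM he)
  refine mem_normalizer_of (fun y hy => ?_) fun y hy => by simpa using key t y hy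
  simpa [S.x_neg] using key (-t) y hy

theorem StSys.exists_cons {a : Rt D} {M : List (Rt D)}
    (h : ∀ t, S.x a t ∈ Subgroup.normalizer (S.XS {r | r ∈ M} : Set G)) {y : G}
    (hy : y ∈ S.XS {r | r ∈ a :: M}) : ∃ t, ∃ z ∈ S.XS {r | r ∈ M}, y = S.x a t * z := by
  rw [show {r | r ∈ a :: M} = {r | r ∈ M} ∪ {a} by ext; simp [or_comm], XS_union,
    mem_sup_of_normalizes (S.XS_le.mpr fun r hr t => hr ▸ h t)] at hy
  obtain ⟨u, hu, _, hz, rfl⟩ := hy
  obtain ⟨t, rfl⟩ := S.mem_XS_singleton.mp hz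
  exact ⟨t, _, (Subgroup.mem_normalizer_iff''.mp (h t) u).mp hu, by group⟩

/-- pairs of roots -/
def prs (σ : Sym D) (L : List (Rt D)) : List (Rt D) := L.flatMap fun r => [r, σ.p r]

/-- invariant filtrations -/
def Fil (σ : Sym D) : List (Rt D) → Prop
  | [] => True
  | r :: L => (σ.p (σ.p r) = r ∧ Cm (σ.p r) r (prs σ L) ∧ Cm r (σ.p r) (prs σ L) ∧
      ∀ w ∈ prs σ L, Cm r w (prs σ L) ∧ Cm (σ.p r) w (prs σ L)) ∧ Fil σ L
instance instDecFil (σ : Sym D) : (L : List (Rt D)) → Decidable (Fil σ L)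
  | [] => isTrue trivial
  | _ :: L => haveI := instDecFil σ L; inferInstanceAs (Decidable (_ ∧ _))

theorem prs_cons (r : Rt D) (L : List (Rt D)) : prs σ (r :: L) = r :: σ.p r :: prs σ L := rfl

theorem exists_prd_cons {a : Rt D} {M : List (Rt D)} (hn : a ∉ M)
    (h : ∀ t, S.x a t ∈ Subgroup.normalizer (S.XS {r | r ∈ M} : Set G))
    (ih : ∀ y ∈ S.XS {r | r ∈ M}, ∃ t, y = S.prd M t) :
    ∀ y ∈ S.XS {r | r ∈ a :: M}, ∃ t, y = S.prd (a :: M) t := fun y hy => by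
  obtain ⟨t, z, hz, rfl⟩ := exists_cons h hy
  obtain ⟨u, rfl⟩ := ih z hz
  refine ⟨Function.update u a t, ?_⟩
  rw [prd_cons, Function.update_self, S.prd_congr (t := Function.update u a t) (t' := u)
    fun v hv => Function.update_of_ne (fun e : v = a => hn (e ▸ hv)) _ _]

theorem Fil.norm [CharP F 2] {r : Rt D} {L : List (Rt D)} (h : Fil σ (r :: L)) (t : F) :
    S.x r t ∈ Subgroup.normalizer (S.XS {v | v ∈ σ.p r :: prs σ L} : Set G) :=
  Cm.norm (List.subset_cons_self _ _) (List.forall_mem_cons.mpr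
    ⟨h.1.2.2.1, fun w hw => (h.1.2.2.2 w hw).1⟩) t

theorem Fil.exists_prd [CharP F 2] {L : List (Rt D)} (h : Fil σ L) (hn : (prs σ L).Nodup) :
    ∀ y ∈ S.XS {r | r ∈ prs σ L}, ∃ t, y = S.prd (prs σ L) t := by
  induction L with
  | nil => exact fun y hy => ⟨0, by simpa [prs] using hy⟩
  | cons r L ih =>
    rw [prs_cons, List.nodup_cons, List.nodup_cons] at hn
    exact exists_prd_cons hn.1 h.norm (exists_prd_cons hn.2.1
      (Cm.norm (List.Subset.refl _) fun w hw => (h.1.2.2.2 w hw).2) (ih h.2 hn.2.2))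

theorem Fil.p_mem {L : List (Rt D)} (h : Fil σ L) {r : Rt D} (hr : r ∈ prs σ L) :
    σ.p r ∈ prs σ L := by
  induction L with
  | nil => simp [prs] at hr
  | cons a L ih =>
    simp only [prs_cons, List.mem_cons] at hr ⊢
    rcases hr with rfl | rfl | hr
    exacts [.inr (.inl rfl), .inl h.1.1, .inr (.inr (ih h.2 hr))]

namespace Tw
variable (T : Tw S σ)

theorem mem_grp {a : G} (ha : a ∈ S.grp) : T.f a ∈ S.grp := T.mem_XS (R' := Set.univ) (fun _ _ => trivial) ha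

theorem coc (h2 : ∀ y ∈ S.grp, T.f (T.f y) = y) {c y : G} (hc : c ∈ S.grp) (hy : y ∈ S.grp)
    (h : c * T.f c = 1) : y⁻¹ * c * T.f y * T.f (y⁻¹ * c * T.f y) = 1 := by
  rw [T.f_mul3 (inv_mem hy) hc (T.mem_grp hy), T.f_inv hy, h2 y hy,
    ← mul_eq_one_iff_inv_eq.mp h]; group

theorem exists_cob (h2 : ∀ y ∈ S.grp, T.f (T.f y) = y) {K L : Subgroup G} (hK : K ≤ S.grp)
    (h1 : ∀ y ∈ K, T.f y ∈ K) (h3 : ∀ y ∈ L, T.f y ∈ L) (h4 : ¬ 2 ∣ L.relIndex K) {c : G}
    (hc : c ∈ K) (h : c * T.f c = 1) : ∃ y ∈ K, y⁻¹ * c * T.f y ∈ L := by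
  haveI : Finite (K ⧸ L.subgroupOf K) := Nat.finite_of_card_ne_zero fun e => h4 (by
    rw [show L.relIndex K = 0 from e]; exact dvd_zero _)
  haveI := Fintype.ofFinite (K ⧸ L.subgroupOf K)
  let τ : K ⧸ L.subgroupOf K → K ⧸ L.subgroupOf K :=
    Quotient.map' (fun y => ⟨c * T.f y, mul_mem hc (h1 _ y.2)⟩) fun a b e => by
      rw [QuotientGroup.leftRel_apply, Subgroup.mem_subgroupOf] at e ⊢
      have := h3 _ e
      rw [Subgroup.coe_mul, T.f_mul _ (hK (a⁻¹).2) _ (hK b.2), Subgroup.coe_inv,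
        T.f_inv (hK a.2)] at this
      simpa [mul_assoc] using this
  have hτ : Function.Involutive τ := fun a => Quotient.inductionOn' a fun y =>
    congrArg Quotient.mk'' (Subtype.ext (by
      change c * T.f (c * T.f y) = y
      rw [T.f_mul _ (hK hc) _ (hK (h1 _ y.2)), ← mul_assoc, h, h2 _ (hK y.2), one_mul]))
  obtain ⟨a, ha⟩ := Equiv.Perm.exists_fixed_point_of_prime (p := 2) (n := 1) (σ := hτ.toPerm τ)
    (by rwa [← Nat.card_eq_fintype_card]) (Equiv.ext fun a => hτ a)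
  obtain ⟨y, rfl⟩ := QuotientGroup.mk_surjective a
  exact ⟨y, y.2, by simpa [mul_assoc, Subgroup.mem_subgroupOf] using QuotientGroup.eq.mp ha.symm⟩

theorem cob_of_fil [CharP F 2] (h2 : ∀ y ∈ S.grp, T.f (T.f y) = y) {L : List (Rt D)}
    (h : Fil σ L) (hn : (prs σ L).Nodup) (hp : ∀ r ∈ prs σ L, Pos r) {c : G}
    (hc : c ∈ S.XS {r | r ∈ prs σ L}) (e : c * T.f c = 1) :
    ∃ y ∈ S.XS {r | r ∈ prs σ L}, y⁻¹ * c * T.f y = 1 := by
  induction L generalizing c with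
  | nil => exact ⟨1, one_mem _, by simp_all [prs, T.f_one]⟩
  | cons r L ih =>
    have n1 := fun t => Subgroup.mem_normalizer_iff.mp (Cm.norm (S := S) (List.Subset.refl _)
      (fun w hw => (h.1.2.2.2 w hw).1) t)
    have n2 := Cm.norm (S := S) (List.Subset.refl _) fun w hw => (h.1.2.2.2 w hw).2
    have hg := S.XS_le_grp _ hc
    obtain ⟨a, _, hz', rfl⟩ := exists_cons h.norm hc
    obtain ⟨b, z, hz, rfl⟩ := exists_cons n2 hz'
    have hn' : σ.p r ∉ prs σ L ∧ (prs σ L).Nodup := List.nodup_cons.mp (List.nodup_cons.mp hn).2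
    have hb := S.x_mem_grp (σ.p r) b
    have h3 : T.f (S.x (σ.p r) b) = S.x r (T.φ (σ.p r) b) := by rw [T.f_x, h.1.1]
    have h4 : a + T.φ (σ.p r) b = 0 := by
      rw [T.f_xmul _ _ (mul_mem hb (S.XS_le_grp _ hz)), T.f_mul _ hb _ (S.XS_le_grp _ hz), h3] at e
      obtain ⟨u, hu⟩ := exists_prd_cons hn'.1 n2 (h.2.exists_prd hn'.2) _ (mul_mem
        ((Subgroup.mem_normalizer_iff''.mp (h.norm (T.φ (σ.p r) b)) _).mp (mul_mem (mul_mem
          (S.x_mem List.mem_cons_self b) (S.XS_mono (List.subset_cons_self _ _) hz))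
            (S.x_mem List.mem_cons_self (T.φ r a)))) (S.XS_mono (List.subset_cons_self _ _)
              (T.mem_XS (fun _ => h.2.p_mem) hz)))
      refine S.eq_of_cons uni_pos (L := σ.p r :: prs σ L) hn hp (u := u) (u' := fun _ => 0) ?_
      rw [← hu, S.add, S.prd_zero, S.x_zero, one_mul, ← e]; group
    obtain ⟨d, hd, h5⟩ := h.1.2.1.comm (S := S) b a
    obtain ⟨y, hy, h6⟩ := ih h.2 hn'.2 (fun v hv => hp v (by simp [prs_cons, hv])) (by
      rw [h3, ← mul_assoc (S.x r a), h5, eq_neg_of_add_eq_zero_right h4, S.x_neg]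
      simpa [mul_assoc] using (n1 a _).mp (mul_mem hd hz)) (T.coc h2 hg hb e)
    refine ⟨S.x (σ.p r) b * y, mul_mem (S.x_mem (by simp [prs_cons]) _) (S.XS_mono (fun v hv => by
      simp_all [prs_cons]) hy), ?_⟩
    rw [T.f_mul _ hb _ (S.XS_le_grp _ hy), ← h6]; group

theorem conj_of_cob (h2 : ∀ y ∈ S.grp, T.f (T.f y) = y) {t : G} (ht : t ∈ T.Fx)
    (h : ∀ c ∈ S.grp ⊓ Subgroup.centralizer {t}, c * T.f c = 1 →
      ∃ y ∈ S.grp ⊓ Subgroup.centralizer {t}, y⁻¹ * c * T.f y = 1) {a b : G} (ha : a ∈ T.Fx)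
    (hb : b ∈ S.grp) (e : b * a * b⁻¹ = t) : ∃ b ∈ T.Fx, b * a * b⁻¹ = t := by
  have e' := congrArg T.f e
  rw [T.f_conj hb ha.1, ha.2, ht.2] at e'
  have h1 := T.mem_grp hb
  obtain ⟨y, hy, h3⟩ := h (b * (T.f b)⁻¹) ⟨S.grp.mul_mem hb (inv_mem h1),
    Subgroup.mem_centralizer_singleton_iff.mpr (by
      conv_lhs => rw [← e']
      conv_rhs => rw [← e]
      group)⟩ (by rw [T.f_mul _ hb _ (inv_mem h1), T.f_inv h1, h2 b hb]; group)
  refine ⟨y⁻¹ * b, ⟨mul_mem (inv_mem hy.1) hb, ?_⟩, ?_⟩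
  · rw [T.f_mul _ (inv_mem hy.1) _ hb, T.f_inv hy.1, ← one_mul ((T.f y)⁻¹ * T.f b), ← h3]
    group
  · rw [show y⁻¹ * b * a * (y⁻¹ * b)⁻¹ = y⁻¹ * (b * a * b⁻¹ * y) by group, e,
      ← Subgroup.mem_centralizer_singleton_iff.mp hy.2, inv_mul_cancel_left]

theorem cent_mem {t : G} (ht : t ∈ T.Fx) {y : G} (hy : y ∈ S.grp ⊓ Subgroup.centralizer {t}) :
    T.f y ∈ S.grp ⊓ Subgroup.centralizer {t} := ⟨T.mem_grp hy.1,
  Subgroup.mem_centralizer_singleton_iff.mpr (by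
    have := congrArg T.f (Subgroup.mem_centralizer_singleton_iff.mp hy.2)
    rwa [T.f_mul _ hy.1 _ ht.1, T.f_mul _ ht.1 _ hy.1, ht.2] at this)⟩
end Tw

theorem odd_relIndex [Finite F] [CharP F 2] (h3 : S.R3) {K : Subgroup G} (h1 : S.U ≤ K)
    (h2 : K ≤ S.grp) : ¬ 2 ∣ S.U.relIndex K := fun h => H23.BT.not_dvd_index 2 h3
  (h.trans (Dvd.intro _ (Subgroup.relIndex_mul_relIndex _ _ _ h1 h2)))

theorem zN_eq_of [CharP F 2] {M M' : List ℕ} (h : g.cert.wordsEqP D 2 (M.map (·, 1, 0, 0))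
    (M'.map (·, 1, 0, 0)) = true) : (glSys D F).zN M = (glSys D F).zN M' := by
  simpa [evW, Function.comp_def, zN] using wordsEqP_spec (F := F) 2 0 0 h
end

attribute [local instance] good2F4
variable {K : Type*} [Field K] [Fintype K]

theorem card_P_F4 : (Nat.card ((glSys chevF4 K).P (MS chevF4 6)) : ℤ) =
    (Fintype.card K : ℤ) ^ 24 * (Fintype.card K - 1) ^ 2 * ((Fintype.card K : ℤ) ^ 2 - 1) *
      ((Fintype.card K : ℤ) ^ 4 - 1) ∧ (Nat.card ((glSys chevF4 K).P (MS chevF4 9)) : ℤ) =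
    (Fintype.card K : ℤ) ^ 24 * (Fintype.card K - 1) ^ 2 * ((Fintype.card K : ℤ) ^ 2 - 1) ^ 2 := by
  haveI := (gl_R3 (D := chevF4) (F := K)).finite_H
  have h1 := (gl_R3 (D := chevF4) (F := K)).card_H
  have h2 : {r : Rt chevF4 | Pos r}.ncard = 24 := by
    rw [Set.ncard_eq_toFinset_card']; decide +kernel
  rw [ker_hT_F4, Subgroup.card_bot, one_mul] at h1
  replace h1 : _ = (Nat.card K - 1) ^ 4 := h1
  rw [card_P, card_P, card_B, card_U, h1, h2, (desc_triv fd_F4).step step2_F4, dep2_F4, sum2_F4,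
    (desc_triv fd_F4).step step3_F4, dep3_F4, sum3_F4, (desc_triv fd_F4).step
      (K := 9) (K' := 8) (μ := 33) (dd := 39402006196394479212279040100143606246172153858464209417234392037099097110032610319554843691247613957491457473380351) (by decide +kernel), (desc_triv fd_F4).step
      (K := 8) (K' := 0) (μ := 24) (dd := 39402006196394479212279040100143613805079739270465446666341404399844039204398715986177972462256588446675745030275071) (by decide +kernel),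
    show depths chevF4.nroots 39402006196394479212279040100143606246172153858464209417234392037099097110032610319554843691247613957491457473380351 = [1, 0] by decide +kernel,
    show depths chevF4.nroots 39402006196394479212279040100143613805079739270465446666341404399844039204398715986177972462256588446675745030275071 = [1, 0] by decide +kernel, MS_zero, Fold.P_empty,
    Nat.card_eq_fintype_card]
  push_cast [Nat.cast_sub (Fintype.card_pos (α := K))]
  simp only [List.map_cons, List.map_nil, List.sum_cons, List.sum_nil]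
  constructor <;> ring

namespace CF4
variable {e : ℕ} (C : CF4 K e)
include C

theorem f_f : ∀ y ∈ (glSys chevF4 K).grp, C.T.f (C.T.f y) = y := fun y hy => by
  induction hy using XS_ind with
  | h1 => rw [C.T.f_one, C.T.f_one]
  | hs r _ t a ha ih =>
    rw [C.T.f_xmul _ _ ha, C.T.f_xmul _ _ (C.T.mem_grp ha), ih]
    obtain ⟨h1, h | h⟩ := (by decide +kernel : ∀ r : Rt chevF4, symF4.p (symF4.p r) = r ∧
      (byte gLF4 r = 1 ∧ byte gLF4 (symF4.p r : Rt chevF4) = 2 ∨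
        byte gLF4 r = 2 ∧ byte gLF4 (symF4.p r : Rt chevF4) = 1)) r
    · rw [h1, C.φ1 h.1, C.φ2 h.2, C.inv]
    · rw [h1, C.φ2 h.1, C.φ1 h.2, C.inv']

theorem φ_one (r : Rt chevF4) : C.T.φ r 1 = 1 := by simp [C.hT]

theorem t_mem : ∀ M ∈ repstF4, (glSys chevF4 K).zN M ∈ C.T.Fx := by
  haveI := C.char
  simp only [repstF4, List.forall_mem_cons]
  exact ⟨⟨zN_mem _ _, (C.T.f_zN C.φ_one [rF4 47, rF4 44]).trans
    (zN_perm _ (by decide +kernel) (by decide +kernel))⟩, ⟨zN_mem _ _,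
      (C.T.f_zN C.φ_one [rF4 39, rF4 45]).trans
        (zN_perm _ (by decide +kernel) (by decide +kernel))⟩, by simp⟩

omit [Fintype K] C in
theorem _root_.Cfsg.Agent.Chev.zN_two (a b : Rt chevF4) : (glSys chevF4 K).zN [a, b] =
    (glSys chevF4 K).x a 1 * (glSys chevF4 K).x b 1 := by simp [zN, -glSys_x]

theorem cent_t : (glSys chevF4 K).grp ⊓ Subgroup.centralizer {(glSys chevF4 K).zN [47, 44]} =
    (glSys chevF4 K).XS ({r | Pos r} ∪ {rF4 20} ∪ {rF4 22}) ∧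
    (glSys chevF4 K).grp ⊓ Subgroup.centralizer {(glSys chevF4 K).zN [39, 45]} =
      (glSys chevF4 K).XS ({rF4 33} ∪ {rF4 14} ∪ {rF4 24} ∪ {rF4 23} ∪
        {r | Pos r ∧ (r : ℕ) ∉ [27, 25, 34, 26]}) := by
  haveI := C.char
  rw [← cent_F4_top, ← cent_F4_mix, ← zN_two, ← zN_two, zN_perm _ (L := [47, 44]) (M := [44, 47])
    (by decide) (by decide +kernel)]
  exact ⟨rfl, rfl⟩

theorem exists_conj_grp {a : GL chevF4.Idx K} (ha : a ∈ C.T.Fx) (h2 : orderOf a = 2) :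
    ∃ M ∈ repstF4, ∃ b ∈ (glSys chevF4 K).grp, b * a * b⁻¹ = (glSys chevF4 K).zN M := by
  haveI := C.char
  obtain ⟨M, hM, b, hb, e⟩ := classify_id (loc_id (oc_of_chk oc_F4) Nat.prime_three (by decide)
    three_dvd_card (dvd_ca_of_chk cab_F4 le_rfl)) tree_F4 (by decide) red_F4 fin_F4 a ha.1 h2
  have e' := congrArg C.T.f e
  rw [C.T.f_conj hb ha.1, ha.2] at e'
  have h1 := C.T.mem_grp hb
  have h3 : (glSys chevF4 K).NC [47] [44] := by
    have := nc_F4 (F := K)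
    simp only [repsF4, List.pairwise_cons, List.forall_mem_cons] at this
    exact this.2.1.1
  simp only [repsF4, List.mem_cons, List.not_mem_nil, or_false] at hM
  rcases hM with rfl | rfl | rfl | rfl
  · refine absurd ?_ (h3 _ (mul_mem hb (inv_mem h1)))
    rw [← e, ← show _ = (glSys chevF4 K).zN [44] from C.T.f_zN C.φ_one [rF4 47]]
    exact (congrArg (fun y => b * (C.T.f b)⁻¹ * y * (b * (C.T.f b)⁻¹)⁻¹) e'.symm).trans (by group)
  · refine absurd ?_ (h3 _ (mul_mem h1 (inv_mem hb)))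
    rw [← e, ← show _ = (glSys chevF4 K).zN [47] from C.T.f_zN C.φ_one [rF4 44]]
    exact Eq.trans (by group) e'
  exacts [⟨_, by simp [repstF4], b, hb, e⟩, ⟨_, by simp [repstF4], b, hb, e⟩]

theorem inf_U : (glSys chevF4 K).XS ({rF4 33} ∪ {rF4 14} ∪ {rF4 24} ∪ {rF4 23} ∪
    {r | Pos r ∧ (r : ℕ) ∉ [27, 25, 34, 26]}) ⊓ (glSys chevF4 K).U ≤ (glSys chevF4 K).XS
      {r | r ∈ prs symF4 ([24, 28, 29, 31, 32, 36, 38, 39, 40, 44].map rF4)} := by
  haveI := C.char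
  rintro y ⟨h1, h2⟩
  let A := prs symF4 ([28, 29, 31, 32, 36, 38, 39, 40, 44].map rF4)
  obtain ⟨u, hu, v, hv, rfl⟩ := (mem_sup_of_normalizes (K := (glSys chevF4 K).XS {r | r ∈ A})
    (L := (glSys chevF4 K).XS {r | PhiK (MS chevF4 9) r}) ((XS_le _).mpr fun r hr =>
      Cm.norm (List.Subset.refl _) ((by simp only [PhiK, MS, Set.mem_setOf_eq]; decide +kernel :
        ∀ r, PhiK (MS chevF4 9) r → ∀ w ∈ A, Cm r w A) r hr))).mp
    (XS_union (glSys chevF4 K) _ _ ▸ XS_mono _ (fun r => by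
      simp only [PhiK, MS, Set.mem_setOf_eq, Set.mem_union, Set.mem_singleton_iff]
      revert r; decide +kernel) h1)
  refine mul_mem (XS_mono _ (fun r => ?_) hu) (XS_mono _ (fun r => ?_) (mem_Xp_of
    ((Subgroup.mul_mem_cancel_left _ (XS_mono _ (fun r => ?_) hu)).mp h2)
    (Subgroup.mem_sup_right hv)))
  all_goals
    simp only [PhiK, MS, Set.mem_setOf_eq]
    revert r; decide +kernel

theorem exists_conj {a : GL chevF4.Idx K} (ha : a ∈ C.T.Fx) (h2 : orderOf a = 2) :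
    ∃ M ∈ repstF4, ∃ b ∈ C.T.Fx, b * a * b⁻¹ = (glSys chevF4 K).zN M := by
  haveI := C.char
  let S := glSys chevF4 K
  obtain ⟨M, hM, b, hb, e⟩ := C.exists_conj_grp ha h2
  have h0 := C.t_mem M hM
  refine ⟨M, hM, C.T.conj_of_cob C.f_f h0 (fun c hc h => ?_) ha hb e⟩
  have key : ∀ L, Fil symF4 L ∧ (prs symF4 L).Nodup ∧ (∀ r ∈ prs symF4 L, Pos r) →
      S.XS {r | r ∈ prs symF4 L} ≤ S.grp ⊓ Subgroup.centralizer {S.zN M} →
      ∀ y ∈ S.grp ⊓ Subgroup.centralizer {S.zN M}, y⁻¹ * c * C.T.f y ∈ S.XS {r | r ∈ prs symF4 L} →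
      ∃ y ∈ S.grp ⊓ Subgroup.centralizer {S.zN M}, y⁻¹ * c * C.T.f y = 1 := fun L hL h1 y hy h3 => by
    obtain ⟨z, hz, h4⟩ := C.T.cob_of_fil C.f_f hL.1 hL.2.1 hL.2.2 h3 (C.T.coc C.f_f hc.1 hy.1 h)
    exact ⟨y * z, mul_mem hy (h1 hz), by rw [C.T.f_mul _ hy.1 _ (h1 hz).1, ← h4]; group⟩
  simp only [repstF4, List.mem_cons, List.not_mem_nil, or_false] at hM
  rcases hM with rfl | rfl
  · have h1 : S.U ≤ S.grp ⊓ Subgroup.centralizer {S.zN [47, 44]} :=
      C.cent_t.1 ▸ XS_mono _ fun _ h => .inl (.inl h)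
    obtain ⟨y, hy, h3⟩ := C.T.exists_cob C.f_f inf_le_left (fun _ => C.T.cent_mem h0)
      (fun _ => C.T.mem_U) (odd_relIndex gl_R3 h1 inf_le_left) hc h
    have h4 : {r | r ∈ prs symF4 ([24, 25, 26, 28, 29, 31, 32, 36, 38, 39, 40, 44].map rF4)} =
      {r | Pos r} := Set.ext (by simp only [Set.mem_setOf_eq]; decide +kernel)
    exact key ([24, 25, 26, 28, 29, 31, 32, 36, 38, 39, 40, 44].map rF4) (by decide +kernel)
      (by rw [h4]; exact h1) y hy (by rw [h4]; exact h3)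
  have h1 : S.XS {r | PhiK (MS chevF4 9) r} ≤ S.grp ⊓ Subgroup.centralizer {S.zN [39, 45]} :=
    C.cent_t.2 ▸ XS_mono _ fun r => by
      simp only [PhiK, MS, Set.mem_setOf_eq, Set.mem_union, Set.mem_singleton_iff]
      revert r; decide +kernel
  have hB : ∀ y ∈ S.B, C.T.f y ∈ S.B := fun y hy =>
    mem_cell_one.mp (by simpa using C.T.mem_cell (mem_cell_one.mpr hy))
  obtain ⟨y, hy, h3⟩ := C.T.exists_cob C.f_f (P_le_grp (MS chevF4 9)) (fun y hy => by
    obtain ⟨w, hw, h⟩ := mem_P.mp hy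
    exact mem_P.mpr ⟨_, symF4.ρ_mem_WK (by simp only [MS, Set.mem_setOf_eq]; decide +kernel) hw,
      C.T.mem_cell h⟩) (fun _ => C.T.mem_U)
    (odd_relIndex gl_R3 (S.U_le_B.trans (B_le_P _)) (P_le_grp _)) (by
      rw [C.cent_t.2] at hc
      rw [P_eq]
      refine Subgroup.mem_sup_right (XS_mono _ (fun r => ?_) hc)
      simp only [PhiK, MS, Set.mem_setOf_eq, Set.mem_union, Set.mem_singleton_iff]
      revert r; decide +kernel) h
  obtain ⟨m, hm, z, hz, rfl⟩ : ∃ m ∈ S.XS {r | PhiK (MS chevF4 9) r}, ∃ z ∈ S.B, y = m * z := by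
    rw [← UJ_sup_LJ, mem_sup_of_normalizes ((LJ_le_P _).trans (P_le_normalizer _))] at hy
    obtain ⟨u, hu, l, hl, rfl⟩ := hy
    rw [LJ, sup_comm, mem_sup_of_normalizes (S.H_le_normalizer _)] at hl
    obtain ⟨m, hm, z, hz, rfl⟩ := hl
    exact ⟨m, hm, m⁻¹ * u * m * z, mul_mem (S.U_le_B (UJ_le_U _ ((Subgroup.mem_normalizer_iff''.mp
      (P_le_normalizer _ (LJ_le_P _ (Subgroup.mem_sup_right hm))) u).mp hu))) (S.H_le_B hz),
        by group⟩
  have h4 : m⁻¹ * c * C.T.f m ∈ S.B ⊓ (S.grp ⊓ Subgroup.centralizer {S.zN [39, 45]}) :=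
    ⟨by
      have := mul_mem (mul_mem hz (S.U_le_B h3)) (inv_mem (hB z hz))
      rw [C.T.f_mul _ (h1 hm).1 _ (S.B_le_grp hz)] at this
      simpa [mul_assoc] using this,
    Subgroup.mul_mem _ (mul_mem (inv_mem (h1 hm)) hc) (C.T.cent_mem h0 (h1 hm))⟩
  haveI := Subgroup.normal_subgroupOf_of_le_normalizer (B_le_normalizer_U (S := S))
  obtain ⟨y, hy, h5⟩ := C.T.exists_cob C.f_f (inf_le_left.trans S.B_le_grp)
    (fun y hy => ⟨hB y hy.1, C.T.cent_mem h0 hy.2⟩) (fun _ => C.T.mem_U) (fun h =>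
      odd_relIndex gl_R3 S.U_le_B S.B_le_grp (h.trans (by
        rw [← Subgroup.relIndex_subgroupOf inf_le_left]
        exact Subgroup.relIndex_dvd_index_of_normal _ _))) h4 (C.T.coc C.f_f hc.1 (h1 hm).1 h)
  have h6 := mul_mem (h1 hm) hy.2
  refine key ([24, 28, 29, 31, 32, 36, 38, 39, 40, 44].map rF4) (by decide +kernel)
    (C.cent_t.2 ▸ XS_mono _ fun r => ?_) _ h6 (C.inf_U ⟨C.cent_t.2.le
      (mul_mem (mul_mem (inv_mem h6) hc) (C.T.cent_mem h0 h6)), ?_⟩)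
  · simp only [Set.mem_setOf_eq, Set.mem_union, Set.mem_singleton_iff]
    revert r; decide +kernel
  · rw [C.T.f_mul _ (h1 hm).1 _ hy.2.1]
    simpa [mul_assoc] using h5

theorem nc_t : ([] :: repstF4).Pairwise (glSys chevF4 K).NC :=
  haveI := C.char
  nc_F4.sublist (by decide)

theorem classes : (ConjClasses.mk '' {y : twistedF4 K e | orderOf y = 2}).ncard = 2 := by
  haveI := C.char
  refine ncard_classes (K := repstF4) C.isTw.le_grp comm_tF4 C.nc_t ?_ ?_ <;> rw [C.eq_Fx]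
  exacts [C.t_mem, fun _ => C.exists_conj]

theorem dvd_of_comm {a b : GL chevF4.Idx K} (ha : a ∈ C.T.Fx) (h2 : orderOf a = 2)
    (hb : b ∈ (glSys chevF4 K).grp) (h : Commute a b) : (orderOf b : ℤ) ∣
      ((Fintype.card K : ℤ) * ((Fintype.card K : ℤ) ^ 4 - 1)) ^ 24 := by
  obtain ⟨M, hM, c, hc, e⟩ := C.exists_conj_grp ha h2
  have h1 : c * b * c⁻¹ ∈ (glSys chevF4 K).grp ⊓ Subgroup.centralizer {(glSys chevF4 K).zN M} :=
    ⟨Subgroup.mul_mem _ (mul_mem hc hb) (inv_mem hc), Subgroup.mem_centralizer_singleton_iff.mpr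
      (e ▸ (h.map (MulAut.conj c)).symm.eq)⟩
  have key : ∀ J, c * b * c⁻¹ ∈ (glSys chevF4 K).P J →
      (orderOf b : ℤ) ∣ Nat.card ((glSys chevF4 K).P J) := fun J h => by
    rw [← (MulAut.conj c).orderOf_eq]
    exact_mod_cast Subgroup.orderOf_dvd_natCard _ h
  have h3 : (Fintype.card K : ℤ) ^ 2 - 1 ∣ (Fintype.card K : ℤ) ^ 4 - 1 :=
    ⟨(Fintype.card K : ℤ) ^ 2 + 1, by ring⟩
  have h4 := (show (Fintype.card K : ℤ) - 1 ∣ _ from ⟨(Fintype.card K : ℤ) + 1, by ring⟩).trans h3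
  rw [mul_pow, show 24 = 2 + 1 + 1 + 20 from rfl, pow_add (_ - 1 : ℤ)]
  simp only [repstF4, List.mem_cons, List.not_mem_nil, or_false] at hM
  rcases hM with rfl | rfl
  · rw [C.cent_t.1] at h1
    refine (key (MS chevF4 6) ?_).trans ?_
    · rw [P_eq]
      refine Subgroup.mem_sup_right (XS_mono _ (fun r => ?_) h1)
      simp only [PhiK, MS, Set.mem_setOf_eq, Set.mem_union, Set.mem_singleton_iff]
      revert r; decide +kernel
    · rw [card_P_F4.1, ← mul_assoc, mul_assoc _ (_ ^ 2), mul_assoc, pow_succ (_ - 1 : ℤ) (2 + 1),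
        pow_succ (_ - 1 : ℤ) 2]
      exact Dvd.dvd.mul_right (mul_dvd_mul_left _ (mul_dvd_mul
        (mul_dvd_mul (pow_dvd_pow_of_dvd h4 _) h3) dvd_rfl)) _
  · rw [C.cent_t.2] at h1
    refine (key (MS chevF4 9) ?_).trans ?_
    · rw [P_eq]
      refine Subgroup.mem_sup_right (XS_mono _ (fun r => ?_) h1)
      simp only [PhiK, MS, Set.mem_setOf_eq, Set.mem_union, Set.mem_singleton_iff]
      revert r; decide +kernel
    · rw [card_P_F4.2, ← mul_assoc, mul_assoc, pow_add _ 2 2]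
      exact Dvd.dvd.mul_right (mul_dvd_mul_left _ (mul_dvd_mul
        (pow_dvd_pow_of_dvd h4 _) (pow_dvd_pow_of_dvd h3 _))) _

end CF4

end Cfsg.Agent.Chev
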