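import Mathlib
import Cfsg.Agent.Chev.Nrm
import Cfsg.Agent.Chev.Lang3

/-! Involutions in odd characteristic and centralizers of diagonal elements. -/

set_option autoImplicit false
set_option linter.unusedSectionVars false
set_option maxHeartbeats 400000

namespace Cfsg.Agent.Chev
open Cfsg.Lie Cfsg.Agent.BN StSys Matrix

variable {D : ChevalleyDatum} [g : Good2 D] {F : Type*} [Field F] {G : Type*} [Group G]

namespace StSys
variable {S : StSys D F G}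

theorem exists_shorter [IsAlgClosed F] [NeZero (2 : F)] {w : W D} (hw : w ≠ 1) (hw' : w⁻¹ = w)
    {y : G} (hy : y ∈ S.cell w) : ∃ a ∈ S.grp, ∃ v, ln v < ln w ∧ a * y * a⁻¹ ∈ S.cell v := by
  obtain ⟨i, hi⟩ := exists_not_pos hw
  obtain ⟨n, h2, h3⟩ := S.exists_N w
  obtain ⟨b, hb, u, hu, rfl⟩ := exists_normal h2 h3 hy
  have h4 := Uw_le_U w hu
  obtain ⟨z, hz, t, h, hh, e⟩ := exists_B_split i (mul_mem (S.U_le_B h4) hb)
  have hm : S.Mono (h * n) w := by simpa using (mono_of_mem_H hh).mul h3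
  have hN : h * n ∈ S.N := mul_mem (S.H_le_N hh) h2
  have key : ∀ c v, ln v < ln w →
      S.ns i * S.x (sim i) (c + t) * (h * n) * S.x (sim i) (-c) * (S.ns i)⁻¹ ∈ S.cell v →
      ∃ a ∈ S.grp, ∃ v, ln v < ln w ∧ a * (b * n * u) * a⁻¹ ∈ S.cell v := fun c v h5 h6 => by
    refine ⟨S.ns i * S.x (sim i) c * u, mul_mem (mul_mem (S.N_le_grp (S.ns_mem i))
      (S.x_mem_grp _ _)) (S.U_le_grp h4), v, h5, ?_⟩
    have := mul_mem_cell (S.U_le_B ((S.mono_ns i).conj_mem (T' := {r | Pos r}) (fun r hr => hr.2)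
      (conj_mem_Ui (S.x_mem (T := {r | Pos r}) (pos_sim i) c) hz))) h6
    convert this using 1
    rw [S.add, S.x_neg, show b = u⁻¹ * (u * b) by group, e]
    group
  have h7 := ln_sW_mul_of_not_pos (w := w) (i := i) (hw'.symm ▸ hi)
  by_cases h5 : Pos ((sW i * w) • sim i)
  · have h6 : w • sim i = ng (sim i) := by
      rw [← ng_eq_iff]
      refine eq_sim_of_not_pos_rf ((pos_ng _).mpr hi) ?_
      rw [rf_ng, pos_ng, not_not]
      exact h5
    obtain ⟨γ, h8, h9, -⟩ := hm.exists_conj (sim i)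
    obtain ⟨c, hc⟩ := exists_quadratic_eq_zero (b := γ * t) (c := -1) h8
      (IsAlgClosed.exists_eq_mul_self _)
    have h0 : γ * -c ≠ 0 := fun e => by
      have : (1 : F) = 0 := by linear_combination -hc - (c + t) * e
      exact one_ne_zero this
    have h10 : c + t = -(γ * -c)⁻¹ := by
      rw [← inv_neg]
      exact eq_inv_of_mul_eq_one_left (by linear_combination hc)
    refine key c (w * sW i) (ln_mul_lt hi) ?_
    have h11 := mul_mem_cell (mul_mem (S.H_le_B (S.n_mul_n_mem (sim i) one_ne_zero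
      (neg_ne_zero.mpr (inv_ne_zero h0)))) (S.U_le_B (S.x_mem (pos_sim i) (γ * -c)⁻¹)))
      (self_mem_cell (mul_mem hN (inv_mem (S.ns_mem i)))
        (by simpa using hm.mul (S.mono_ns i).inv : S.Mono _ (w * sW i)))
    convert h11 using 1
    rw [show S.x (sim i) (-c) = (h * n)⁻¹ * (h * n * S.x (sim i) (-c) * (h * n)⁻¹) * (h * n) by
      group, h9, h6, x_ng_eq _ h0, h10, S.x_neg, ns]
    group
  · have h6 : S.ns i * (h * n) * S.x (sim i) t ∈ S.cell (sW i * w) := cell_mul_mem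
      (self_mem_cell (mul_mem (S.ns_mem i) hN) ((S.mono_ns i).mul hm))
      (S.U_le_B (S.x_mem (pos_sim i) t))
    rcases (ns_mul_cell (i := i) (inv_mem_cell h6)).2 with h8 | h8
    · refine key (-t) (sW i * w * sW i) ?_ (by simpa [mul_assoc] using inv_mem_cell h8)
      have := ln_mul_lt h5
      omega
    · exact key (-t) (sW i * w) (by omega) (by simpa [mul_assoc] using inv_mem_cell h8)

theorem exists_conj_B [IsAlgClosed F] [NeZero (2 : F)] {y : G} (hy : y ∈ S.grp) (h2 : y * y = 1) :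
    ∃ a ∈ S.grp, a * y * a⁻¹ ∈ S.B := by
  obtain ⟨w, hw⟩ := exists_cell hy
  induction hn : ln w using Nat.strong_induction_on generalizing w y with
  | _ n ih =>
    by_cases e : w = 1
    · exact ⟨1, one_mem _, by simpa [e, mem_cell_one] using hw⟩
    obtain ⟨a, ha, v, h3, h4⟩ := exists_shorter e (cell_unique (inv_mem_cell hw)
      ((inv_eq_of_mul_eq_one_right h2).symm ▸ hw)) hw
    obtain ⟨b, hb, h5⟩ := ih _ (hn ▸ h3) (cell_le_grp h4)
      (by rw [conj_mul, h2]; simp) v h4 rfl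
    exact ⟨b * a, mul_mem hb ha, by simpa [mul_assoc] using h5⟩

end StSys

theorem exists_pow_U (p : ℕ) [hp : Fact p.Prime] [CharP F p] {u : GL D.Idx F}
    (hu : u ∈ (glSys D F).U) : ∃ m, u ^ p ^ m = 1 := by
  obtain ⟨n, hn⟩ := (θ_U hu).1.isNilpotent
  haveI : Nonempty D.Idx := ⟨Sum.inl ⟨0, g.rank_pos⟩⟩
  refine ⟨n, Units.ext ?_⟩
  rw [Units.val_pow_eq_pow_val, Units.val_one, ← sub_eq_zero, ← one_pow (p ^ n),
    ← sub_pow_char_pow_of_commute _ _ (Commute.one_right _)]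
  exact pow_eq_zero_of_le (Nat.lt_pow_self hp.out.one_lt).le hn

theorem exists_conj_H [IsAlgClosed F] (p : ℕ) [hp : Fact p.Prime] [CharP F p] (h2 : p ≠ 2)
    {y : GL D.Idx F} (hy : y ∈ (glSys D F).grp) (h : y * y = 1) :
    ∃ a ∈ (glSys D F).grp, ∃ c, a * y * a⁻¹ = dgU c := by
  haveI : NeZero (2 : F) := ⟨Ring.two_ne_zero (by rwa [ringChar.eq F p])⟩
  obtain ⟨a, ha, h3⟩ := exists_conj_B hy h
  obtain ⟨u, hu, z, hz, e⟩ := mem_B.mp h3
  have h4 : u * (z * u * z⁻¹) * (z * z) = 1 := by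
    rw [show u * (z * u * z⁻¹) * (z * z) = u * z * (u * z) by group, ← e, conj_mul, h]; simp
  have h5 : u * (z * u * z⁻¹) = 1 := one_of_mem_U_H (mul_mem hu (H_conj_mem hz hu))
    (eq_inv_of_mul_eq_one_left h4 ▸ inv_mem (mul_mem hz hz))
  obtain ⟨m, hm⟩ := exists_pow_U p hu
  obtain ⟨j, hj⟩ := (hp.out.odd_of_ne_two h2).pow (n := m)
  obtain ⟨c, rfl⟩ := gl_R3.exists_hT hz
  refine ⟨u ^ j * a, mul_mem ((glSys D F).U_le_grp (pow_mem hu j)) ha, _, Eq.trans ?_ (gl_hT c)⟩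
  rw [show u ^ j * a * y * (u ^ j * a)⁻¹ = u ^ j * (a * y * a⁻¹) * (u ^ j)⁻¹ by group, e,
    show u ^ j * (u * gl_R3.hT c) * (u ^ j)⁻¹ =
      u ^ j * u * (gl_R3.hT c * u * (gl_R3.hT c)⁻¹)⁻¹ ^ j * gl_R3.hT c by
        rw [inv_pow, conj_pow]; group, ← eq_inv_of_mul_eq_one_left h5, ← pow_succ, ← pow_add,
    show j + 1 + j = p ^ m by omega, hm, one_mul]

theorem tor_smul_eq (c : Ix D → Fˣ) (w : W D) (r : Rt D) :
    tor (fun j => tor c (co (w • sim j))) (co r) = tor c (co (w • r)) := by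
  rw [co_smul w r, tor]
  simp only [← tor_smul]
  exact (map_sum (AddMonoidHom.mk' (fun v => Additive.ofMul (tor c v)) (tor_add c)) _ _).symm

theorem eq_dgU_of_conj {y : GL D.Idx F} (hy : y ∈ GD D F) {c : Ix D → Fˣ}
    (h : ∀ r t, y * (glSys D F).x r t * y⁻¹ = (glSys D F).x r (tor c (co r) * t)) : y = dgU c := by
  obtain ⟨hx, hn⟩ := GS_wit (D := D) (F := F) ⊤ GS_top.le
  rw [← inv_mul_eq_one]
  refine eq_one_of_cent hx hn (mul_mem (inv_mem hy) (dgU_mem_GD c)) fun z hz => ?_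
  refine ((glSys D F).XS_le (K := (MulAut.conj (y⁻¹ * dgU c)).toMonoidHom.eqLocus
    (MonoidHom.id _))).mpr (fun r _ t => ?_) hz
  change y⁻¹ * dgU c * _ * (y⁻¹ * dgU c)⁻¹ = (glSys D F).x r t
  rw [show y⁻¹ * dgU c * (glSys D F).x r t * (y⁻¹ * dgU c)⁻¹ =
    y⁻¹ * (dgU c * XG r t * (dgU c)⁻¹) * y by rw [glSys_x]; group, dgU_conj, ← glSys_x, ← h]
  group

theorem conj_dgU {a : GL D.Idx F} (ha : a ∈ (glSys D F).N) {w : W D} (hm : (glSys D F).Mono a w)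
    (c : Ix D → Fˣ) : a⁻¹ * dgU c * a = dgU fun j => tor c (co (w • sim j)) := by
  have h1 := mem_GD_of_grp ((glSys D F).N_le_grp ha)
  refine eq_dgU_of_conj (mul_mem (mul_mem (inv_mem h1) (dgU_mem_GD c)) h1) fun r t => ?_
  obtain ⟨γ, -, h2, -⟩ := hm.exists_conj r
  rw [tor_smul_eq, show a⁻¹ * dgU c * a * (glSys D F).x r t * (a⁻¹ * dgU c * a)⁻¹ =
    a⁻¹ * (dgU c * (a * (glSys D F).x r t * a⁻¹) * (dgU c)⁻¹) * a by group, h2, glSys_x, dgU_conj,
    mul_left_comm, ← glSys_x, ← h2]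
  group

/-- the roots trivial on a diagonal element -/
def Psi (c : Ix D → Fˣ) : Set (Rt D) := {r | tor c (co r) = 1}

/-- the stabilizer in the Weyl group of a diagonal element -/
def Kc (c : Ix D → Fˣ) : Subgroup (W D) where
  carrier := {w | ∀ r, tor c (co (w • r)) = tor c (co r)}
  one_mem' r := by simp
  mul_mem' := fun {v w} hv hw r => by rw [mul_smul, hv, hw]
  inv_mem' := fun {w} hw r => by rw [← hw, smul_inv_smul]

variable (D F) in
/-- the centralizer of a matrix in the Chevalley group -/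
def Cz (z : GL D.Idx F) : Subgroup (GL D.Idx F) := (diagGL (D := D) (F := F) 1).toTw.Fx ⊓
  Subgroup.centralizer {z}

theorem mem_Cz {z y : GL D.Idx F} : y ∈ Cz D F z ↔ y ∈ (glSys D F).grp ∧ z * y = y * z := by
  have : dgU (1 : Ix D → Fˣ) = 1 := map_one (dgH D F)
  simp [Cz, Tw.mem_Fx, Mor.toTw, diagGL, this, Subgroup.mem_centralizer_singleton_iff, eq_comm]

theorem Cz_eq (c : Ix D → Fˣ) : Cz D F (dgU c) = (diagGL c).toTw.Fx := Subgroup.ext fun _ =>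
  mem_Cz.trans (and_congr_right fun _ => mul_inv_eq_iff_eq_mul.symm)

theorem uni_psi {e : Ix D → ℤ} {R : Set (Rt D)} (hU : Uni e R) (c : Ix D → Fˣ) :
    Uni e (R ∩ Psi c) :=
  ⟨fun r hr => hU.pos r hr.1, fun r hr s hs v i j hi hj h => ⟨hU.cl r hr.1 s hs.1 v i j hi hj h, by
    change tor c (co v) = 1
    rw [h, tor_add, tor_smul, tor_smul, hr.2, hs.2]; simp⟩⟩

theorem XS_psi_le (c : Ix D → Fˣ) : (glSys D F).XS (Psi c) ≤ Cz D F (dgU c) :=
  (glSys D F).XS_le.mpr fun r hr t => mem_Cz.mpr ⟨x_mem_grp _ r t, by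
    rw [← mul_inv_eq_iff_eq_mul, glSys_x, dgU_conj, hr]; simp⟩

theorem Cz_inf {e : Ix D → ℤ} {R : Set (Rt D)} (hU : Uni e R) (c : Ix D → Fˣ) :
    Cz D F (dgU c) ⊓ (glSys D F).XS R = (glSys D F).XS (R ∩ Psi c) := by
  refine le_antisymm (fun y hy => ?_) (le_inf (((glSys D F).XS_mono fun _ h => h.2).trans
    (XS_psi_le c)) ((glSys D F).XS_mono fun _ h => h.1))
  obtain ⟨L, h1, h2⟩ := exists_list R
  obtain ⟨t, rfl⟩ := exists_prd _ hU h1 h2 hy.2
  have h3 := ((Cz_eq c).le hy.1).2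
  change (diagGL c).f _ = _ at h3
  rw [Mor.f_prd, show (Sym.one D).p = 1 from rfl, Equiv.Perm.coe_one, List.map_id] at h3
  refine prd_mem _ fun r hr h4 => by_contra fun h5 => h4 ⟨(h2 r).mp hr, Units.ext ?_⟩
  exact (mul_eq_right₀ h5).mp (prd_inj _ hU h1 (fun r => (h2 r).mp) h3 r hr)

theorem H_le_Cz (c : Ix D → Fˣ) : (glSys D F).H ≤ Cz D F (dgU c) := fun z hz => by
  obtain ⟨d, rfl⟩ := gl_R3.exists_hT hz
  exact mem_Cz.mpr ⟨H_le_grp _ hz, by rw [gl_hT, ← dgU_mul, ← dgU_mul, mul_comm]⟩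

theorem mem_Cz_iff {a : GL D.Idx F} (ha : a ∈ (glSys D F).N) {w : W D}
    (hm : (glSys D F).Mono a w) {c : Ix D → Fˣ} : a ∈ Cz D F (dgU c) ↔ w ∈ Kc c := by
  rw [mem_Cz, and_iff_right (N_le_grp _ ha), ← inv_mul_eq_iff_eq_mul, ← mul_assoc, conj_dgU ha hm,
    ← dgH_apply, ← dgH_apply, dgH_inj.eq_iff]
  exact ⟨fun h r => by rw [← tor_smul_eq, h], fun h => funext fun j => by
    rw [h, co_sim, tor_single]⟩

theorem exists_Cz {c : Ix D → Fˣ} {y : GL D.Idx F} (hy : y ∈ Cz D F (dgU c)) :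
    ∃ w ∈ Kc c, ∀ n ∈ (glSys D F).N, (glSys D F).Mono n w →
      ∃ u ∈ (glSys D F).XS ({r | Pos r} ∩ Psi c), ∃ z ∈ (glSys D F).H,
        ∃ v ∈ (glSys D F).XS ({r | r ∈ invs w} ∩ Psi c), y = u * z * n * v := by
  obtain ⟨w, hw⟩ := exists_cell (mem_Cz.mp hy).1
  obtain ⟨u, hu, a, ha, hm, v, hv, rfl⟩ := exists_normal' hw
  rw [Cz_eq] at hy
  obtain ⟨h1, h2, h3⟩ := Tw.normal_mem hu ha hm hv hy
  rw [← Cz_eq] at h1 h2 h3
  exact ⟨w, (mem_Cz_iff ha hm).mp h2, fun n hn hm' => ⟨u, (Cz_inf uni_pos c).le ⟨h1, hu⟩, _,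
    mem_H_of_mono_eq' ha hn hm hm', v, (Cz_inf (uni_invs w) c).le ⟨h3, hv⟩, by group⟩⟩

open Classical in
theorem card_Cz [Finite F] (c : Ix D → Fˣ) : Nat.card (Cz D F (dgU c)) =
    Nat.card F ^ ({r | Pos r} ∩ Psi c).ncard * Nat.card (glSys D F).H *
      ∑ w ∈ Finset.univ.filter (· ∈ Kc c), Nat.card F ^ ({r | r ∈ invs w} ∩ Psi c).ncard := by
  have hX := fun w : W D => card_XS (glSys D F) (uni_psi (uni_invs w) c)
  haveI : ∀ w : W D, Finite ((glSys D F).XS ({r | r ∈ invs w} ∩ Psi c)) := fun w =>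
    Nat.finite_of_card_ne_zero (hX w ▸ pow_ne_zero _ Nat.card_pos.ne')
  have h1 : ∀ R, (glSys D F).XS (R ∩ Psi c) ≤ Cz D F (dgU c) := fun R =>
    ((glSys D F).XS_mono fun _ h => h.2).trans (XS_psi_le c)
  have h2 : ∀ R, (glSys D F).XS (R ∩ Psi c) ≤ (glSys D F).XS R := fun R =>
    (glSys D F).XS_mono fun _ h => h.1
  rw [Finset.sum_subtype (p := fun w => w ∈ Kc c) _ (by simp), ← card_XS (glSys D F) (uni_psi uni_pos c)]
  simp only [← hX]
  rw [← Nat.card_sigma, ← Nat.card_prod, ← Nat.card_prod]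
  refine (Nat.card_eq_of_bijective (fun p : ((glSys D F).XS ({r | Pos r} ∩ Psi c) × (glSys D F).H) ×
    Σ w : Kc c, (glSys D F).XS ({r | r ∈ invs w.1} ∩ Psi c) =>
      (⟨p.1.1 * p.1.2 * (glSys D F).nW p.2.1 * p.2.2, mul_mem (mul_mem (mul_mem (h1 _ p.1.1.2)
        (H_le_Cz c p.1.2.2)) ((mem_Cz_iff (nW_mem _) (mono_nW _)).mpr p.2.1.2)) (h1 _ p.2.2.2)⟩ :
        Cz D F (dgU c))) ⟨?_, ?_⟩).symm
  · rintro ⟨⟨u, z⟩, w, v⟩ ⟨⟨u', z'⟩, w', v'⟩ e
    have e' : u.1 * z.1 * (glSys D F).nW w * v = u' * z' * (glSys D F).nW w' * v' :=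
      congrArg Subtype.val e
    have hb := mul_mem (U_le_B _ (h2 _ u.2)) (H_le_B _ z.2)
    have hb' := mul_mem (U_le_B _ (h2 _ u'.2)) (H_le_B _ z'.2)
    obtain rfl : w = w' := Subtype.ext (cell_unique (cell_mul_mem (mul_mem_cell hb
      (self_mem_cell (nW_mem _) (mono_nW _))) (U_le_B _ (Uw_le_U _ (h2 _ v.2)))) (e' ▸ cell_mul_mem
      (mul_mem_cell hb' (self_mem_cell (nW_mem _) (mono_nW _))) (U_le_B _ (Uw_le_U _ (h2 _ v'.2)))))
    obtain ⟨h3, h4⟩ := normal_unique (mono_nW _) hb hb' (h2 _ v.2) (h2 _ v'.2) e'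
    have h5 : u'.1⁻¹ * u.1 = z'.1 * z.1⁻¹ := by
      rw [inv_mul_eq_iff_eq_mul, ← mul_assoc, ← h3, mul_inv_cancel_right]
    have h6 := one_of_mem_U_H (mul_mem (inv_mem (h2 _ u'.2)) (h2 _ u.2))
      (h5 ▸ mul_mem z'.2 (inv_mem z.2))
    rw [Subtype.ext h4, Subtype.ext (inv_mul_eq_one.mp h6),
      Subtype.ext (mul_inv_eq_one.mp (h5.symm.trans h6))]
  · rintro ⟨y, hy⟩
    obtain ⟨w, hw, h⟩ := exists_Cz hy
    obtain ⟨u, hu, z, hz, v, hv, rfl⟩ := h _ (nW_mem w) (mono_nW w)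
    exact ⟨⟨⟨⟨u, hu⟩, ⟨z, hz⟩⟩, ⟨w, hw⟩, ⟨v, hv⟩⟩, rfl⟩

/-- the reflection subgroup of a set of roots -/
def RW (R : Set (Rt D)) : Subgroup (W D) := Subgroup.closure (rW '' R)

theorem StSys.exists_n_RW (S : StSys D F G) {R : Set (Rt D)} (hR : ∀ r ∈ R, ng r ∈ R) {w : W D}
    (hw : w ∈ RW R) : ∃ n ∈ S.XS R, n ∈ S.N ∧ S.Mono n w := by
  induction hw using Subgroup.closure_induction with
  | mem _ h =>
    obtain ⟨r, hr, rfl⟩ := h
    exact ⟨_, S.n_mem hr (hR r hr) 1, S.n_mem_N r one_ne_zero, S.mono_n r one_ne_zero⟩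
  | one => exact ⟨1, one_mem _, one_mem _, Mono.one⟩
  | mul _ _ _ _ h1 h2 =>
    obtain ⟨a, h3, h4, h5⟩ := h1
    obtain ⟨b, h6, h7, h8⟩ := h2
    exact ⟨a * b, mul_mem h3 h6, mul_mem h4 h7, h5.mul h8⟩
  | inv _ _ h =>
    obtain ⟨a, h3, h4, h5⟩ := h
    exact ⟨a⁻¹, inv_mem h3, inv_mem h4, h5.inv⟩

theorem ng_mem_psi {c : Ix D → Fˣ} {r : Rt D} (h : r ∈ Psi c) : ng r ∈ Psi c := by
  change tor c _ = 1
  rw [co_ng, tor_neg, h, inv_one]

theorem par_Cz [IsAlgClosed F] {c : Ix D → Fˣ} (hK : Kc c ≤ RW (Psi c)) {β : Ix D → Rt D}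
    (hβ : ∀ i, β i ∈ Psi c) {M : Matrix (Ix D) (Ix D) ℤ} {m : ℕ} (hm : 0 < m)
    (hM : M * (of fun i j => pr (β i) (sim j)) = diagonal fun _ => (m : ℤ)) :
    Par (Cz D F (dgU c)) (Cz D F (dgU c)) := by
  have h0 := XS_psi_le c
  have h1 : ∀ R, (glSys D F).XS (R ∩ Psi c) ≤ Cz D F (dgU c) := fun R =>
    ((glSys D F).XS_mono fun _ h => h.2).trans h0
  have h2 : Par (Cz D F (dgU c)) (glSys D F).H := by
    refine (Par.prod (L := List.finRange D.rank) fun i _ => par_h (fun t => h0 (x_mem _ (hβ i) t))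
      fun t => h0 (x_mem _ (ng_mem_psi (hβ i)) t)).mono fun z hz => .inr ?_
    obtain ⟨d, rfl⟩ := gl_R3.exists_hT hz
    choose e he using fun i => IsAlgClosed.exists_pow_nat_eq (pw Fˣ (cartanM D) d i : F) hm
    have h3 : ∀ i, e i ≠ 0 := fun i h => (pw Fˣ (cartanM D) d i).ne_zero (by
      rw [← he, h, zero_pow hm.ne'])
    refine ⟨pw Fˣ M fun i => Units.mk0 _ (h3 i), ?_⟩
    simp only [h_eq_dgU, ← dgH_apply, gl_hT]
    rw [← Function.comp_def (dgH D F), ← List.map_map, ← map_list_prod, ← List.ofFn_eq_map,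
      List.prod_ofFn]
    refine congrArg _ (funext fun j => ?_)
    have := congrFun (pw_mul M (of fun i j => pr (β i) (sim j)) fun i => Units.mk0 _ (h3 i)) j
    rw [hM, pw_diagonal, pw_apply] at this
    rw [Finset.prod_apply]
    exact this.symm.trans (Units.ext (by simp [he]))
  choose n h3 h4 h5 using fun w : Kc c => (glSys D F).exists_n_RW (fun _ => ng_mem_psi) (hK w.2)
  refine (Par.iUnion fun w : Kc c => (((par_XS (uni_psi uni_pos c) (h1 _)).mul h2).mul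
    (par_singleton h0 (h3 w))).mul (par_XS (uni_psi (uni_invs w.1) c) (h1 _))).mono fun y hy => ?_
  obtain ⟨w, hw, h⟩ := exists_Cz hy
  obtain ⟨u, hu, z, hz, v, hv, rfl⟩ := h _ (h4 ⟨w, hw⟩) (h5 _)
  exact .inr (Set.mem_iUnion.mpr ⟨⟨w, hw⟩, Set.mul_mem_mul (Set.mul_mem_mul (Set.mul_mem_mul hu hz)
    (Set.mem_singleton _)) hv⟩)

theorem exists_conj_of_par [Fintype F] {k : Type*} [Field k] [IsAlgClosed k] (ι : F →+* k)
    (hk : (pw kˣ (cartanM D)).ker = ⊥) {s z : GL D.Idx F}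
    (hP : Par (Cz D k (GeneralLinearGroup.map ι z)) (Cz D k (GeneralLinearGroup.map ι z)))
    {a : GL D.Idx k} (ha : a ∈ (glSys D k).grp)
    (h : a * GeneralLinearGroup.map ι s * a⁻¹ = GeneralLinearGroup.map ι z) :
    ∃ b ∈ (glSys D F).grp, b * s * b⁻¹ = z := by
  obtain ⟨p, _, e, hp, he⟩ := FiniteField.card' F
  haveI := Fact.mk hp
  haveI := (ι.charP_iff_charP p).mp ‹_›
  have h1 : ∀ y : GL D.Idx F, GeneralLinearGroup.map (iterateFrobenius k p e)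
      (GeneralLinearGroup.map ι y) = GeneralLinearGroup.map ι y := fun y =>
    Units.ext (Matrix.ext fun i j => by
      change ι _ ^ p ^ (e : ℕ) = ι _
      rw [← he, ← map_pow, FiniteField.pow_card])
  have h2 := congrArg (GeneralLinearGroup.map (iterateFrobenius k p e)) h
  rw [map_mul, map_mul, map_inv, h1, h1] at h2
  have h3 := (fieldGL D (iterateFrobenius k p e)).mem_grp ha
  obtain ⟨y, hy, h4⟩ := hP.lang p e.ne_zero (c := 1)
    (σ := GeneralLinearGroup.map (iterateFrobenius k p e)) (fun y hy => ⟨mem_Cz.mpr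
      ⟨(fieldGL D _).mem_grp (mem_Cz.mp hy).1, by
        rw [← h1, ← map_mul, ← map_mul, (mem_Cz.mp hy).2]⟩, by simp⟩)
    (a := a * (GeneralLinearGroup.map (iterateFrobenius k p e) a)⁻¹)
    (mem_Cz.mpr ⟨mul_mem ha (inv_mem h3), by
      conv_lhs => rw [← h]
      conv_rhs => rw [← h2]
      group⟩)
  obtain ⟨b, hb, h5⟩ := exists_map_of_fix ι hk (ψ := iterateFrobenius k p e) (fun t => he ▸ rfl)
    (mul_mem (mem_Cz.mp hy).1 ha) (by
      rw [map_mul, inv_mul_eq_iff_eq_mul.mp h4]; group)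
  refine ⟨b, hb, GL_map_inj ι ?_⟩
  rw [map_mul, map_mul, map_inv, h5, show y * a * GeneralLinearGroup.map ι s * (y * a)⁻¹ =
    y * (a * GeneralLinearGroup.map ι s * a⁻¹) * y⁻¹ by group, h, ← (mem_Cz.mp hy).2,
    mul_inv_cancel_right]

end Cfsg.Agent.Chev
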