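import Mathlib
import Cfsg.Agent.Chev.Ss
import Cfsg.Agent.Chev.Cox
import Cfsg.Agent.Chev.Tori

/-! Classes and centralizers of involutions in odd characteristic, from certificates. -/

set_option autoImplicit false
set_option linter.unusedSectionVars false
set_option maxHeartbeats 400000

namespace Cfsg.Agent.Chev
open Cfsg.Lie Cfsg.Agent.BN StSys Matrix

noncomputable section
/-- words in the generators of the extended diagram with node `k` removed -/
def Cert.appX (c : Cert) (k P : ℕ) (l : List ℕ) (ν : ℕ) : ℕ :=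
  List.rec ν (fun i _ ih => Bool.rec (c.w i ih) (byte P ih) (Nat.beq i k)) l
/-- candidate values -/
def vals (k m : ℕ) : List ℤ := Bool.rec [-2, 0, 2] [-1, 1] (Nat.beq m k)
/-- all candidate vectors -/
def allV (k : ℕ) (p : List ℤ → Bool) (n : ℕ) : List ℤ → Bool :=
  Nat.rec p (fun m ih acc => lall (vals k m) fun x => ih (x :: acc)) n
/-- the vector of a word -/
def Cert.mu (c : Cert) (D : ChevalleyDatum) (k P : ℕ) (l : List ℕ) : List ℤ :=
  (List.range D.rank).map fun i => c.co D (c.appX k P l (D.simple i)) k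
/-- check of one coset representative -/
def Cert.chkD (c : Cert) (D : ChevalleyDatum) (k P : ℕ) (e : List ℕ × ℕ) : Bool :=
  lall e.1 (fun i => Nat.blt i D.rank) &&
  allN D.nroots (fun r => force (c.appX k P e.1 r) fun s =>
    c.neg D r || !(c.neg D s) || !(ieq (c.co D s k) 0)) &&
  ieq (sumN D.nroots fun r => if (!(c.neg D r) && ieq (c.co D r k % 2) 0 &&
    c.neg D (c.appX k P e.1 r)) = true then 1 else 0) e.2
/-- check of the stabilizer of a class of order two -/
def Cert.chkSs (c : Cert) (D : ChevalleyDatum) (k θ P : ℕ) (L : List (List ℕ × ℕ))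
    (MU : List (List ℤ)) : Bool :=
  ieq (c.co D θ k % 2) 0 &&
  allN D.nroots (fun r => Nat.ble (c.co D r k).natAbs 2 && Nat.blt (byte P r) D.nroots &&
    force (byte P r) fun s => allN D.rank fun j =>
      ieq (c.co D s j) (c.co D r j - c.cpr D θ r * c.co D θ j)) &&
  lall L (c.chkD D k P) && decide (L.map (fun e => c.mu D k P e.1) = MU) && decide MU.Nodup &&
  allV k (fun μ => decide (μ ∈ MU) || anyN D.nroots fun r =>
    Nat.blt 2 (sumN D.rank fun i => Int.mul (c.co D r i) (μ.getD i 0)).natAbs) D.rank []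
/-- check of the orbits on the elements of order two -/
def Cert.chkOrb (c : Cert) (D : ChevalleyDatum) (R : List ℕ) (Gn Nx Dp : ℕ) : Bool :=
  allN (2 ^ D.rank) fun m => Nat.beq m 0 || decide (m ∈ R.map (2 ^ ·)) ||
    force (byte Nx m) fun m' => force (byte Gn m) fun i =>
      Nat.blt (byte Dp m') (byte Dp m) && Nat.blt 0 m' && Nat.blt m' (2 ^ D.rank) &&
      Nat.blt i D.rank && allN D.rank fun j =>
        ieq (((bit m' j : ℤ) - bit m j + bit m i * c.ca D i (D.simple j)) % 2) 0
end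

theorem allV_spec {k : ℕ} {p : List ℤ → Bool} {n : ℕ} {acc : List ℤ} (h : allV k p n acc = true)
    (μ : ℕ → ℤ) (hμ : ∀ i < n, μ i ∈ vals k i) : p ((List.range n).map μ ++ acc) = true := by
  induction n generalizing acc with
  | zero => exact h
  | succ n ih =>
    rw [List.range_succ, List.map_append, List.append_assoc]
    exact ih ((lall_iff _ _).mp h _ (hμ n (by omega))) fun i hi => hμ i (by omega)

variable {D : ChevalleyDatum} [g : Good2 D] {F : Type*} [Field F]

/-- roots with even coefficient -/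
def Ev (k : Ix D) : Set (Rt D) := {r | 2 ∣ co r k}

theorem dvd_of_RW {k : Ix D} {w : W D} (hw : w ∈ RW (Ev k)) (r : Rt D) :
    2 ∣ co (w • r) k - co r k := by
  induction hw using Subgroup.closure_induction generalizing r with
  | mem x hx =>
    obtain ⟨s, hs, rfl⟩ := hx
    rw [co_rW]; simpa using Dvd.dvd.mul_left hs _
  | one => simp
  | mul x y _ _ hx hy => rw [mul_smul]; have := hx (y • r); have := hy r; omega
  | inv x _ hx => have := hx (x⁻¹ • r); rw [smul_inv_smul] at this; omega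

theorem exists_appX {k : Ix D} {θ : Rt D} {P : ℕ} (hθ : θ ∈ Ev k)
    (hP : ∀ r, ((rW θ • r : Rt D) : ℕ) = byte P r) (l : List ℕ) (hl : ∀ i ∈ l, i < D.rank) :
    ∃ w ∈ RW (Ev k), ∀ ν : Rt D, ((w • ν : Rt D) : ℕ) = g.cert.appX k P l ν := by
  induction l with
  | nil => exact ⟨1, one_mem _, fun ν => by rw [one_smul]; rfl⟩
  | cons i l ih =>
    obtain ⟨w, h1, h2⟩ := ih fun j hj => hl j (by simp [hj])
    have e : ∀ ν, g.cert.appX k P (i :: l) ν = if Nat.beq i k = true then
      byte P (g.cert.appX k P l ν) else g.cert.w i (g.cert.appX k P l ν) := fun ν => brec_ite _ _ _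
    lift i to Ix D using hl i (by simp)
    by_cases h : i = k
    · refine ⟨rW θ * w, mul_mem (Subgroup.subset_closure ⟨θ, hθ, rfl⟩) h1, fun ν => ?_⟩
      rw [e, if_pos (by simp [h]), mul_smul, hP, h2]
    · refine ⟨sW i * w, mul_mem (Subgroup.subset_closure ⟨sim i, ?_, rW_sim i⟩) h1, fun ν => ?_⟩
      · simp [Ev, Ne.symm h]
      · rw [e, if_neg (by simpa [Fin.ext_iff] using h), mul_smul, ← h2, sW_smul,
          rf_val']

theorem ncard_invs_mul {k : Ix D} {d u : W D} (hd : d ∈ RW (Ev k)) (hu : u ∈ WK {i | i ≠ k})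
    (h : ∀ r ∈ invs d, co (d • r) k ≠ 0) :
    ({r | r ∈ invs (u * d)} ∩ Ev k).ncard = ({r | r ∈ invs d} ∩ Ev k).ncard + ln u := by
  have h1 := invs_mul_of (w := u) (u := d) fun r hr =>
    (pos_smul_iff_of_not_phiK hu fun e => h r hr (by
      simpa using phiK_ng.mp e k (by simp))).mpr ((pos_ng _).mpr (mem_invs.mp hr).2)
  have h2 : {r | r ∈ invs (u * d)} ∩ Ev k =
      ({r | r ∈ invs d} ∩ Ev k) ∪ (fun r => d⁻¹ • r) '' (invs u) := by
    ext r
    simp only [Set.mem_inter_iff, Set.mem_setOf_eq, h1, Set.mem_union, Set.mem_image,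
      Finset.mem_coe, inv_smul_eq_iff, exists_eq_right]
    refine ⟨by tauto, fun e => e.elim (by tauto) fun e => ⟨Or.inr e, ?_⟩⟩
    have := dvd_of_RW hd r
    rw [phiK_of_mem_invs hu e k (by simp)] at this
    simpa [Ev] using this
  rw [h2, Set.ncard_union_eq, Set.ncard_image_of_injective _ (MulAction.injective _),
    Set.ncard_coe_finset, card_invs]
  rw [Set.disjoint_left]
  rintro _ ⟨e, -⟩ ⟨s, hs, rfl⟩
  exact (mem_invs.mp e).2 (by simpa using (mem_invs.mp hs).1)

open Classical in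
theorem chkSs_spec {k : Ix D} {θ : Rt D} {P : ℕ} {L : List (List ℕ × ℕ)} {MU : List (List ℤ)}
    (h : g.cert.chkSs D k θ P L MU = true) :
    (∀ w : W D, (∀ r, 2 ∣ co (w • r) k - co r k) → w ∈ RW (Ev k)) ∧ ∀ t : ℤ,
      ∑ w ∈ Finset.univ.filter (· ∈ RW (Ev k)), t ^ ({r | r ∈ invs w} ∩ Ev k).ncard =
        (L.map fun e => t ^ e.2).sum * (Fold.triv D).P {i | i ≠ k} t := by
  simp only [Cert.chkSs, Bool.and_eq_true, ieq_iff, allN_iff, force_eq, Nat.blt_eq, Nat.ble_eq,
    lall_iff, decide_eq_true_eq] at h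
  obtain ⟨⟨⟨⟨⟨h1, h2⟩, h3⟩, h4⟩, h5⟩, h6⟩ := h
  have hθ : θ ∈ Ev k := Int.dvd_of_emod_eq_zero h1
  have hP : ∀ r, ((rW θ • r : Rt D) : ℕ) = byte P r := fun r => by
    have : rW θ • r = ⟨_, (h2 r r.2).1.2⟩ := co_inj (funext fun j => by
      rw [co_rW]; have := (h2 r r.2).2 j j.2; rw [cpr_eq] at this; exact this.symm)
    rw [this]
  have h7 : ∀ a : Fin L.length, ∃ d ∈ RW (Ev k), (∀ r ∈ invs d, co (d • r) k ≠ 0) ∧
      ({r | r ∈ invs d} ∩ Ev k).ncard = L[a].2 ∧ g.cert.mu D k P L[a].1 =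
        (List.range D.rank).map fun i => if h : i < D.rank then co (d • sim ⟨i, h⟩) k else 0 := by
    intro a
    have := h3 _ (List.getElem_mem a.2)
    simp only [Cert.chkD, Bool.and_eq_true, ieq_iff, allN_iff, force_eq, Nat.blt_eq, lall_iff,
      Bool.or_eq_true, Bool.not_eq_true', ieq_false_iff, sumN_eq] at this
    obtain ⟨⟨e1, e2⟩, e3⟩ := this
    obtain ⟨d, hd, e4⟩ := exists_appX hθ hP _ e1
    refine ⟨d, hd, fun r hr => ?_, ?_, List.map_congr_left fun i hi => ?_⟩
    · have := e2 r r.2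
      rw [← e4, ← Bool.not_eq_true, cneg_iff, cneg_iff] at this
      have := mem_invs.mp hr
      tauto
    · simp only [← e4, ← Bool.not_eq_true, cneg_iff, Finset.sum_boole, Nat.cast_inj] at e3
      refine Eq.trans ?_ e3
      rw [← Set.ncard_coe_finset]
      congr 1; ext r
      simp only [Ev, mem_invs, Set.mem_inter_iff, Set.mem_setOf_eq, Finset.coe_filter,
        Finset.mem_univ, true_and, Int.dvd_iff_emod_eq_zero, co, not_not]
      tauto
    · rw [dif_pos (List.mem_range.mp hi), co, e4]; rfl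
  choose d hd1 hd2 hd3 hd4 using h7
  have h8 : ∀ w : W D, (∀ r, 2 ∣ co (w • r) k - co r k) → ∃ a, w * (d a)⁻¹ ∈ WK {i | i ≠ k} := by
    intro w hw
    have hb : ∀ r : Rt D, (co r k).natAbs ≤ 2 := fun r => (h2 r r.2).1.1
    have := allV_spec h6 (fun i => if h : i < D.rank then co (w • sim ⟨i, h⟩) k else 0)
      fun i hi => by
        have h1 := hw (sim ⟨i, hi⟩)
        have h2 := hb (w • sim ⟨i, hi⟩)
        simp only [vals, brec_ite, dif_pos hi, Nat.beq_eq, co_sim, Pi.single_apply,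
          Fin.ext_iff] at h1 ⊢
        split_ifs with e
        · rw [if_pos e.symm] at h1; simp only [List.mem_cons, List.not_mem_nil]; omega
        · rw [if_neg (Ne.symm e)] at h1; simp only [List.mem_cons, List.not_mem_nil]; omega
    simp only [Bool.or_eq_true, decide_eq_true_eq, anyN_iff, Nat.blt_eq, sumN_eq,
      List.append_nil] at this
    rcases this with e | ⟨r, hr, e⟩
    · rw [← h4, List.mem_map] at e
      obtain ⟨x, hx, e⟩ := e
      obtain ⟨a, rfl⟩ := List.mem_iff_get.mp hx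
      refine ⟨a, mem_WK_of_invs fun r hr i hi => ?_⟩
      obtain rfl : i = k := by simpa using hi
      have e2 : ∀ j : Ix D, co (d a • sim j) i = co (w • sim j) i := fun j => by
        simpa using List.map_inj_left.mp ((hd4 a).symm.trans e) j (List.mem_range.mpr j.2)
      have e3 : co ((w * (d a)⁻¹) • r) i = co r i := by
        rw [mul_smul, co_smul, ← smul_inv_smul (d a) r, co_smul (d a), inv_smul_smul]
        simp [e2]
      have := (pos_iff _).mp (mem_invs.mp hr).1 i
      have := (not_pos_iff _).mp (mem_invs.mp hr).2 i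
      omega
    · lift r to Rt D using hr
      refine absurd (hb (w • r)) (not_le.mpr (e.trans_eq ?_))
      rw [co_smul, Finset.sum_apply]
      refine congrArg _ (Finset.sum_congr rfl fun i _ => ?_)
      simp [co]
  have h9 : WK {i | i ≠ k} ≤ RW (Ev k) := (Subgroup.closure_le _).mpr (by
    rintro _ ⟨i, hi, rfl⟩
    exact Subgroup.subset_closure ⟨sim i, by simp [Ev, Ne.symm hi], rW_sim i⟩)
  refine ⟨fun w hw => ?_, fun t => ?_⟩
  · obtain ⟨a, ha⟩ := h8 w hw
    simpa using mul_mem (h9 ha) (hd1 a)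
  rw [← Fin.sum_univ_fun_getElem, Fold.P, Finset.sum_mul_sum, ← Finset.sum_product']
  refine (Finset.sum_nbij (fun p => p.2 * d p.1) (fun p hp => ?_) (fun p hp p' hp' e => ?_)
    (fun w hw => ?_) fun p hp => ?_).symm
  · simp only [Finset.mem_product, Finset.mem_filter, Finset.mem_univ, true_and] at hp ⊢
    exact mul_mem (h9 hp.2) (hd1 _)
  · simp only [Finset.coe_product, Finset.coe_filter, Finset.mem_univ, true_and, Set.mem_prod,
      Set.mem_setOf_eq] at hp hp'
    have : p.1 = p'.1 := by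
      rw [← h4, List.nodup_iff_injective_getElem] at h5
      have := @h5 (p.1.cast (by simp)) (p'.1.cast (by simp)) (by
        simp only [List.getElem_map, Fin.val_cast]
        refine (hd4 _).trans (Eq.trans (List.map_congr_left fun i hi => ?_) (hd4 _).symm)
        rw [dif_pos (List.mem_range.mp hi), dif_pos (List.mem_range.mp hi),
          ← co_smul_of_mem hp.2.2 (by simp), ← co_smul_of_mem hp'.2.2 (by simp) (d p'.1 • _),
          ← mul_smul, ← mul_smul, show p.2 * d p.1 = _ from e])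
      simpa [Fin.ext_iff] using this
    exact Prod.ext this (by simpa [this] using e)
  · obtain ⟨a, ha⟩ := h8 w (dvd_of_RW (by simpa using hw))
    exact ⟨(a, w * (d a)⁻¹), by simpa using ⟨trivial, ha⟩, by simp⟩
  · simp only [Finset.mem_product, Finset.mem_filter, Finset.mem_univ, true_and] at hp
    rw [ncard_invs_mul (hd1 _) hp.2 (hd2 _), hd3, pow_add]; rfl

variable (F) in
/-- the standard diagonal involutions -/
def zk (k : Ix D) : Ix D → Fˣ := Pi.mulSingle k (-1)

theorem tor_zk (k : Ix D) (v : Ix D → ℤ) : tor (zk F k) v = (-1) ^ v k := by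
  rw [tor, Finset.prod_eq_single k] <;> simp +contextual [zk]

theorem neg_one_zpow_eq [NeZero (2 : F)] {a b : ℤ} : (-1 : Fˣ) ^ a = (-1) ^ b ↔ 2 ∣ a - b := by
  have : orderOf (-1 : Fˣ) = 2 := orderOf_eq_prime (by simp) fun h => by
    have := congrArg Units.val h
    simp only [Units.val_neg, Units.val_one] at this
    exact two_ne_zero (α := F) (by linear_combination -this)
  rw [zpow_eq_zpow_iff_modEq, this, Int.modEq_comm, Int.modEq_iff_dvd]; rfl

theorem psi_zk [NeZero (2 : F)] (k : Ix D) : Psi (zk F k) = Ev k := Set.ext fun r => by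
  simpa [Psi, tor_zk, Ev] using neg_one_zpow_eq (F := F) (a := co r k) (b := 0)

theorem kc_zk [NeZero (2 : F)] {k : Ix D} {θ : Rt D} {P : ℕ} {L : List (List ℕ × ℕ)}
    {MU : List (List ℤ)} (h : g.cert.chkSs D k θ P L MU = true) : Kc (zk F k) = RW (Ev k) :=
  Subgroup.ext fun w => by
    refine Iff.trans ?_ ⟨(chkSs_spec h).1 w, dvd_of_RW⟩
    exact forall_congr' fun r => by rw [tor_zk, tor_zk, neg_one_zpow_eq]

theorem map_zk {F' : Type*} [Field F'] (ι : F →+* F') (k : Ix D) :
    GeneralLinearGroup.map ι (dgU (zk F k)) = dgU (zk F' k) := by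
  rw [map_dgU]
  refine congrArg _ (funext fun i => Units.ext ?_)
  by_cases h : i = k <;> simp [zk, h]

theorem dgU_mem_grp [Finite F] (hk : (pw Fˣ (cartanM D)).ker = ⊥) (c : Ix D → Fˣ) :
    dgU c ∈ (glSys D F).H := by
  obtain ⟨d, rfl⟩ := Finite.surjective_of_injective ((MonoidHom.ker_eq_bot_iff _).mp hk) c
  exact gl_hT d ▸ gl_R3.hT_mem d

theorem orderOf_zk [NeZero (2 : F)] (k : Ix D) : orderOf (dgU (zk F k)) = 2 := by
  rw [← dgH_apply, orderOf_injective _ dgH_inj]
  refine orderOf_eq_prime (funext fun i => ?_) fun h => ?_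
  · by_cases h : i = k <;> simp [zk, h]
  · simpa using neg_one_zpow_eq.mp (show (-1 : Fˣ) ^ (1 : ℤ) = (-1) ^ (0 : ℤ) by
      simpa [zk] using congrFun h k)

theorem chkOrb_spec {R : List (Ix D)} {Gn Nx Dp : ℕ}
    (h : g.cert.chkOrb D (R.map Fin.val) Gn Nx Dp = true) {m : ℕ} (h0 : 0 < m)
    (hm : m < 2 ^ D.rank) : ∃ k ∈ R, ∃ a ∈ (glSys D F).grp,
      a * dgU (fun i => (-1) ^ bit m i) * a⁻¹ = dgU (zk F k) := by
  simp only [Cert.chkOrb, Bool.and_eq_true, ieq_iff, allN_iff, force_eq, Nat.blt_eq, Nat.beq_eq,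
    Bool.or_eq_true, decide_eq_true_eq, List.map_map, List.mem_map] at h
  induction hn : byte Dp m using Nat.strong_induction_on generalizing m with
  | _ n ih =>
  rcases h m hm with (e | ⟨k, hk, rfl⟩) | ⟨⟨⟨⟨e1, e2⟩, e3⟩, e4⟩, e5⟩
  · omega
  · refine ⟨k, hk, 1, one_mem _, ?_⟩
    rw [one_mul, inv_one, mul_one]
    refine congrArg _ (funext fun i => ?_)
    have := Set.ext_iff.mp (MS_two_pow k) i
    have h2 : bit (2 ^ (k : ℕ)) i < 2 := Nat.mod_lt _ two_pos
    by_cases e : i = k
    · simp [zk, e, show bit (2 ^ (k : ℕ)) k = 1 from e ▸ this.mpr e]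
    · simp [zk, e, show bit (2 ^ (k : ℕ)) i = 0 by have := mt this.mp e; change ¬ _ = _ at this; omega]
  · obtain ⟨k, hk, a, ha, e⟩ := ih _ (hn ▸ e1) e2 e3 rfl
    lift byte Gn m to Ix D using e4 with i
    have h1 := (glSys D F).ns_mem i
    refine ⟨k, hk, a * ((glSys D F).ns i)⁻¹, mul_mem ha (inv_mem ((glSys D F).N_le_grp h1)), ?_⟩
    rw [← e, _root_.mul_inv_rev, inv_inv, mul_assoc a, mul_assoc a, ← mul_assoc _ _ a⁻¹,
      conj_dgU h1 ((glSys D F).mono_ns i), ← mul_assoc]
    refine congrArg (fun c => a * dgU c * a⁻¹) (funext fun j => ?_)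
    rw [sW_smul, co_rf, co_sim, sub_eq_add_neg, tor_add, tor_neg, tor_smul, tor_single, tor_single,
      ← zpow_natCast, ← zpow_natCast, ← zpow_natCast, ← _root_.zpow_mul, ← _root_.zpow_neg,
      ← _root_.zpow_add]
    obtain ⟨b, hb⟩ := Int.dvd_of_emod_eq_zero (e5 j j.2)
    rw [show (bit m j : ℤ) + -(bit m i * ca i (sim j)) = bit (byte Nx m) j + 2 * (-b) by
      rw [ca_eq', sim_val]; linarith, _root_.zpow_add, _root_.zpow_mul]
    simp

/-- check of a base of the subsystem -/
noncomputable def Cert.chkBase (c : Cert) (D : ChevalleyDatum) (k θ : ℕ) (M : List (List ℤ))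
    (m N : ℕ) : Bool :=
  chkMul D.rank (ent2 M) (fun i j => c.cpr D (if i = k then θ else D.simple i) (D.simple j))
    (fun i j => if i = j then 2 else 0) (dia []) &&
  allN D.rank (fun i => beqv (Nat.beq (bit m i) 1) !(Nat.beq i k)) &&
  ieq (sumN D.nroots fun r => if (!(c.neg D r) && ieq (c.co D r k % 2) 0) = true then 1 else 0) N

theorem par_zk [NeZero (2 : F)] [IsAlgClosed F] {k : Ix D} {θ : Rt D} {P : ℕ}
    {L : List (List ℕ × ℕ)} {MU M : List (List ℤ)} {m N : ℕ}
    (h : g.cert.chkSs D k θ P L MU = true) (h' : g.cert.chkBase D k θ M m N = true) :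
    Par (Cz D F (dgU (zk F k))) (Cz D F (dgU (zk F k))) := by
  refine par_Cz (β := fun i => if i = k then θ else sim i) (M := of fun i j => ent2 M i j)
    (by rw [kc_zk h, psi_zk]) (fun i => ?_) two_pos ?_
  · rw [psi_zk]
    split_ifs with e
    · simp only [Cert.chkSs, Bool.and_eq_true, ieq_iff] at h
      exact Int.dvd_of_emod_eq_zero h.1.1.1.1.1
    · simp [Ev, Ne.symm e]
  · simp only [Cert.chkBase, Bool.and_eq_true] at h'
    have := chkMul_spec h'.1.1
    rw [of_dia_nil, mul_one] at this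
    convert this using 2 with _ i
    · ext i j; by_cases e : i = k <;> simp [e, ← cpr_eq, Fin.ext_iff]
      rw [if_neg (Fin.val_ne_of_ne e), if_neg (Fin.val_ne_of_ne e)]; rfl
    · ext j; simp [diagonal_apply, Fin.ext_iff]

theorem card_zk [NeZero (2 : F)] [Fintype F] (hk : (pw Fˣ (cartanM D)).ker = ⊥) {k : Ix D}
    {θ : Rt D} {P : ℕ} {L : List (List ℕ × ℕ)} {MU M : List (List ℤ)} {m N : ℕ}
    (h : g.cert.chkSs D k θ P L MU = true) (h' : g.cert.chkBase D k θ M m N = true) :
    (Nat.card (Cz D F (dgU (zk F k))) : ℤ) = (Fintype.card F : ℤ) ^ N *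
      ((Fintype.card F : ℤ) - 1) ^ D.rank * ((L.map fun e => (Fintype.card F : ℤ) ^ e.2).sum *
        (Fold.triv D).P (MS D m) (Fintype.card F)) := by
  simp only [Cert.chkBase, Bool.and_eq_true, allN_iff, beqv_iff, Nat.beq_eq, Bool.not_eq_true',
    ieq_iff, sumN_eq, ← Bool.not_eq_true, cneg_iff, Finset.sum_boole, Nat.cast_inj] at h'
  have h1 : MS D m = {i | i ≠ k} := Set.ext fun i => (h'.1.2 i i.2).trans Fin.val_ne_iff
  have h2 : ({r | Pos r} ∩ Ev k).ncard = N := by
    refine Eq.trans ?_ h'.2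
    rw [← Set.ncard_coe_finset]
    congr 1; ext r
    simp only [Ev, Set.mem_inter_iff, Set.mem_setOf_eq, Finset.coe_filter,
      Finset.mem_univ, true_and, Int.dvd_iff_emod_eq_zero, co, not_not]
  have h3 := card_gl_H (D := D) (F := F)
  rw [hk, Subgroup.card_bot, one_mul, diagonalSubgroup_eq] at h3
  rw [card_Cz, h3, kc_zk h, psi_zk, h1, h2, ← (chkSs_spec h).2, Nat.card_eq_fintype_card]
  push_cast [Nat.cast_sub (Fintype.card_pos (α := F))]
  rfl

theorem neZero_two [Fintype F] (hF : Odd (Fintype.card F)) : NeZero (2 : F) := ⟨fun h => by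
  have := (FiniteField.even_card_iff_char_two (F := F)).mp
    ((ringChar.charP F |> fun _ => CharP.ringChar_of_prime_eq_zero Nat.prime_two h))
  exact absurd (Nat.odd_iff.mp hF) (by omega)⟩

theorem exists_conj_zk [Fintype F] [NeZero (2 : F)]
    (hk : (pw (AlgebraicClosure F)ˣ (cartanM D)).ker = ⊥) {R : List (Ix D)} {Gn Nx Dp : ℕ}
    (h : g.cert.chkOrb D (R.map Fin.val) Gn Nx Dp = true)
    (hR : ∀ k ∈ R, ∃ (θ : Rt D) (P : ℕ) (L : List (List ℕ × ℕ)) (MU M : List (List ℤ)) (m N : ℕ),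
      g.cert.chkSs D k θ P L MU = true ∧ g.cert.chkBase D k θ M m N = true)
    {s : GL D.Idx F} (hs : s ∈ (glSys D F).grp) (h2 : orderOf s = 2) :
    ∃ k ∈ R, ∃ b ∈ (glSys D F).grp, b * s * b⁻¹ = dgU (zk F k) := by
  classical
  let ι := algebraMap F (AlgebraicClosure F)
  obtain ⟨p, _, e, hp, he⟩ := FiniteField.card' F
  haveI := Fact.mk hp
  haveI := (ι.charP_iff_charP p).mp ‹_›
  haveI : NeZero (2 : AlgebraicClosure F) := ⟨fun h => two_ne_zero (α := F) (ι.injective (by
    rw [map_ofNat, h, map_zero]))⟩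
  rw [← orderOf_injective _ (GL_map_inj ι)] at h2
  obtain ⟨a, ha, c, e⟩ := exists_conj_H p (fun h => two_ne_zero (α := F) (by
    subst h; exact CharP.cast_eq_zero F 2)) ((fieldGL D ι).mem_grp hs)
    (show GeneralLinearGroup.map ι s * GeneralLinearGroup.map ι s = 1 by
      rw [← pow_two, ← h2, pow_orderOf_eq_one])
  change a * GeneralLinearGroup.map ι s * a⁻¹ = _ at e
  rw [← (MulAut.conj a).orderOf_eq, MulAut.conj_apply, e, ← dgH_apply,
    orderOf_injective _ dgH_inj] at h2
  have h3 : c = fun i : Ix D => (-1) ^ bit (Nat.ofBits fun i => decide (c i ≠ 1)) i := by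
    funext i
    have h4 := bit_eq_one_iff (Nat.ofBits fun i => decide (c i ≠ 1)) i
    have h5 : bit (Nat.ofBits fun i => decide (c i ≠ 1)) i < 2 := Nat.mod_lt _ two_pos
    rw [Nat.testBit_ofBits_lt _ _ i.2, decide_eq_true_eq] at h4
    by_cases h6 : c i = 1
    · rw [h6, show bit _ i = 0 by have := mt h4.mp (not_not.mpr h6); omega, pow_zero]
    · rw [h4.mpr h6, pow_one]
      have := congrArg Units.val (congrFun (h2 ▸ pow_orderOf_eq_one c) i)
      simp only [Pi.pow_apply, Units.val_pow_eq_pow_val, Pi.one_apply, Units.val_one,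
        sq_eq_one_iff] at this
      exact Units.ext (this.resolve_left fun h => h6 (Units.ext h))
  obtain ⟨k, hk', b, hb, e'⟩ := chkOrb_spec (F := AlgebraicClosure F) h
    (m := Nat.ofBits fun i => decide (c i ≠ 1)) (Nat.pos_of_ne_zero fun h0 => by
      rw [h0] at h3
      rw [show c = 1 from h3.trans (funext fun i => by simp [bit, show Nat.mod 0 2 = 0 from rfl])] at h2
      simp at h2) (Nat.ofBits_lt_two_pow _)
  obtain ⟨θ, P, L, MU, M, m, N, h4, h5⟩ := hR k hk'
  refine ⟨k, hk', exists_conj_of_par ι hk (by rw [map_zk]; exact par_zk h4 h5) (mul_mem hb ha) ?_⟩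
  rw [map_zk, ← e', ← h3, ← e]; group

theorem card_centralizer {z : D.group F} :
    Nat.card (Subgroup.centralizer {z}) = Nat.card (Cz D F z) := by
  rw [← Subgroup.card_map_of_injective (D.group F).subtype_injective]
  congr 2; ext y
  rw [mem_Cz, ← group_eq]
  exact ⟨fun ⟨a, h, e⟩ => e ▸ ⟨a.2, congrArg Subtype.val
    (Subgroup.mem_centralizer_singleton_iff.mp h).symm⟩, fun h => ⟨⟨y, h.1⟩,
      Subgroup.mem_centralizer_singleton_iff.mpr (Subtype.ext h.2.symm), rfl⟩⟩

omit g in
theorem card_cent_eq {Γ : Type*} [Group Γ] {a b : Γ} (h : IsConj a b) :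
    Nat.card (Subgroup.centralizer {a}) = Nat.card (Subgroup.centralizer {b}) := by
  obtain ⟨c, rfl⟩ := isConj_iff.mp h
  refine Nat.card_congr ((MulAut.conj c).toEquiv.subtypeEquiv fun y => ?_)
  simp only [Subgroup.mem_centralizer_singleton_iff, MulEquiv.toEquiv_eq_coe, EquivLike.coe_coe]
  rw [← MulAut.conj_apply, ← map_mul, ← map_mul, EmbeddingLike.apply_eq_iff_eq]

omit g in
theorem not_dvd_of_cast [Fintype F] {n m : ℕ} {X Y : ℤ}
    (h : (Fintype.card F : ℤ) ^ n * X = (Fintype.card F : ℤ) ^ (n + m + 1) * Y)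
    (h1 : (X : F) ≠ 0) : False := by
  rw [add_assoc, pow_add, mul_assoc, mul_right_inj' (by simp)] at h
  simp [h] at h1

end Cfsg.Agent.Chev
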