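import Mathlib
import Cfsg.Agent.Chev.Ss2
import Cfsg.Agent.Chev.PoinG2
import Cfsg.Agent.Chev.PoinF4
import Cfsg.Agent.Chev.PoinE8
import Cfsg.Agent.Chev.Smith

/-! Certificates for involutions in odd characteristic. -/

set_option autoImplicit false
set_option maxRecDepth 100000
set_option maxHeartbeats 400000

namespace Cfsg.Agent.Chev
open Cfsg.Lie Cfsg.Agent.BN

attribute [local instance] good2G2 good2F4 good2E8

/-- a node -/
def ndG2_1 : Ix chevG2 := ⟨1, by decide⟩
/-- the highest root -/
def thG2 : Rt chevG2 := ⟨11, by decide⟩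
theorem orb_G2 : certG2.chkOrb chevG2 ([ndG2_1].map Fin.val) 16777216 33555200 16777728 = true := by decide +kernel
/-- the reflection in the highest root -/
def rtG2 : ℕ := 6058833595705547918149131
/-- coset representatives -/
def cosG2_1 : List (List ℕ × ℕ) := [([], 0), ([1], 1)]
theorem ss_G2_1 : certG2.chkSs chevG2 ndG2_1 thG2 rtG2 cosG2_1 [[0, 1], [0, -1]] = true := by decide +kernel
theorem base_G2_1 : certG2.chkBase chevG2 ndG2_1 thG2 [[1, 3], [0, 2]] 1 2 = true := by decide +kernel
theorem step0_G2_1 : certG2.chkStep chevG2 (trivFD chevG2.rank) 1 0 3 79228162514264337589249114111 = true := by decide +kernel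
theorem dep0_G2_1 : depths chevG2.nroots 79228162514264337589249114111 = [1, 0] := by decide +kernel
theorem sum0_G2_1 (t : ℤ) : (([1, 0] : List ℕ).map (t ^ ·)).sum = t ^ 0 + t ^ 1 := by
  simp only [List.map_cons, List.map_nil, List.sum_cons, List.sum_nil]; ring
theorem card_G2_1 {F : Type*} [Field F] [Fintype F] [NeZero (2 : F)] : (Nat.card (Cz chevG2 F (dgU (zk F ndG2_1))) : ℤ) =
    (Fintype.card F : ℤ) ^ 2 * (((Fintype.card F : ℤ) ^ 2 - 1) * ((Fintype.card F : ℤ) ^ 2 - 1)) := by
  rw [card_zk (ker_G2 _) ss_G2_1 base_G2_1, (desc_triv fd_G2).step step0_G2_1, dep0_G2_1, sum0_G2_1,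
    MS_zero, Fold.P_empty, show chevG2.rank = 2 from rfl]
  simp only [cosG2_1, List.map_cons, List.map_nil, List.sum_cons, List.sum_nil]
  ring
theorem conj_G2 {F : Type*} [Field F] [Fintype F] [NeZero (2 : F)] {s : GL chevG2.Idx F}
    (hs : s ∈ (glSys chevG2 F).grp) (h2 : orderOf s = 2) : ∃ k ∈ [ndG2_1],
    ∃ b ∈ (glSys chevG2 F).grp, b * s * b⁻¹ = dgU (zk F k) :=
  exists_conj_zk (ker_G2 _) orb_G2 (by
    simp only [List.forall_mem_cons, List.not_mem_nil, false_imp_iff, implies_true, and_true]
    exact ⟨_, _, _, _, _, _, _, ss_G2_1, base_G2_1⟩) hs h2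

/-- a node -/
def ndF4_0 : Ix chevF4 := ⟨0, by decide⟩
/-- a node -/
def ndF4_3 : Ix chevF4 := ⟨3, by decide⟩
/-- the highest root -/
def thF4 : Rt chevF4 := ⟨47, by decide⟩
theorem orb_F4 : certF4.chkOrb chevF4 ([ndF4_0, ndF4_3].map Fin.val) 2663689091864157393664953547239784448 6724167047154388954749450290832015360 6677374970807761602950778986919231488 = true := by decide +kernel
/-- the reflection in the highest root -/
def rtF4 : ℕ := 13877703829007789413202516209646843105009202929547635605091153239721343818599177672360142600544719574156766222383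
/-- coset representatives -/
def cosF4_0 : List (List ℕ × ℕ) := [([], 0), ([3, 2, 1, 2, 3, 0], 6), ([3, 2, 1, 2, 3, 0, 3], 5), ([3, 2, 1, 2, 3, 0, 3, 2], 4), ([3, 2, 1, 2, 3, 0, 3, 2, 1], 3), ([3, 2, 1, 2, 3, 0, 3, 2, 1, 2], 2), ([3, 2, 1, 2, 3, 0, 3, 2, 1, 2, 3], 1), ([0, 3, 2, 1, 2, 3, 0], 7)]
theorem ss_F4_0 : certF4.chkSs chevF4 ndF4_0 thF4 rtF4 cosF4_0 [[1, 0, 0, 0], [1, 0, 0, -2], [1, 0, -2, 2], [1, -2, 2, 0], [-1, 2, -2, 0], [-1, 0, 2, -2], [-1, 0, 0, 2], [-1, 0, 0, 0]] = true := by decide +kernel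
theorem base_F4_0 : certF4.chkBase chevF4 ndF4_0 thF4 [[4, -2, -4, -4], [6, 0, -2, -4], [4, 0, 0, -2], [2, 0, 0, 0]] 14 16 = true := by decide +kernel
theorem card_F4_0 {F : Type*} [Field F] [Fintype F] [NeZero (2 : F)] : (Nat.card (Cz chevF4 F (dgU (zk F ndF4_0))) : ℤ) =
    (Fintype.card F : ℤ) ^ 16 * (((Fintype.card F : ℤ) ^ 2 - 1) * ((Fintype.card F : ℤ) ^ 4 - 1) * ((Fintype.card F : ℤ) ^ 6 - 1) * ((Fintype.card F : ℤ) ^ 8 - 1)) := by
  rw [card_zk (ker_F4 _) ss_F4_0 base_F4_0, (desc_triv fd_F4).step step1_F4, dep1_F4, sum1_F4,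
    (desc_triv fd_F4).step step2_F4, dep2_F4, sum2_F4,
    (desc_triv fd_F4).step step3_F4, dep3_F4, sum3_F4,
    MS_zero, Fold.P_empty, show chevF4.rank = 4 from rfl]
  simp only [cosF4_0, List.map_cons, List.map_nil, List.sum_cons, List.sum_nil]
  ring
/-- coset representatives -/
def cosF4_3 : List (List ℕ × ℕ) := [([], 0), ([3], 1)]
theorem ss_F4_3 : certF4.chkSs chevF4 ndF4_3 thF4 rtF4 cosF4_3 [[0, 0, 0, 1], [0, 0, 0, -1]] = true := by decide +kernel
theorem base_F4_3 : certF4.chkBase chevF4 ndF4_3 thF4 [[2, 2, 2, 2], [2, 4, 4, 4], [1, 2, 3, 3], [0, 0, 0, 2]] 7 10 = true := by decide +kernel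
theorem step0_F4_3 : certF4.chkStep chevF4 (trivFD chevF4.rank) 7 6 18 39402006196394479212279040100143613805079739270465446667948293404245716084807184986105286552884836107698285110624255 = true := by decide +kernel
theorem dep0_F4_3 : depths chevF4.nroots 39402006196394479212279040100143613805079739270465446667948293404245716084807184986105286552884836107698285110624255 = [5, 4, 3, 2, 1, 0] := by decide +kernel
theorem sum0_F4_3 (t : ℤ) : (([5, 4, 3, 2, 1, 0] : List ℕ).map (t ^ ·)).sum = t ^ 0 + t ^ 1 + t ^ 2 + t ^ 3 + t ^ 4 + t ^ 5 := by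
  simp only [List.map_cons, List.map_nil, List.sum_cons, List.sum_nil]; ring
theorem card_F4_3 {F : Type*} [Field F] [Fintype F] [NeZero (2 : F)] : (Nat.card (Cz chevF4 F (dgU (zk F ndF4_3))) : ℤ) =
    (Fintype.card F : ℤ) ^ 10 * (((Fintype.card F : ℤ) ^ 2 - 1) * ((Fintype.card F : ℤ) ^ 2 - 1) * ((Fintype.card F : ℤ) ^ 4 - 1) * ((Fintype.card F : ℤ) ^ 6 - 1)) := by
  rw [card_zk (ker_F4 _) ss_F4_3 base_F4_3, (desc_triv fd_F4).step step0_F4_3, dep0_F4_3, sum0_F4_3,
    (desc_triv fd_F4).step step2_F4, dep2_F4, sum2_F4,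
    (desc_triv fd_F4).step step3_F4, dep3_F4, sum3_F4,
    MS_zero, Fold.P_empty, show chevF4.rank = 4 from rfl]
  simp only [cosF4_3, List.map_cons, List.map_nil, List.sum_cons, List.sum_nil]
  ring
theorem conj_F4 {F : Type*} [Field F] [Fintype F] [NeZero (2 : F)] {s : GL chevF4.Idx F}
    (hs : s ∈ (glSys chevF4 F).grp) (h2 : orderOf s = 2) : ∃ k ∈ [ndF4_0, ndF4_3],
    ∃ b ∈ (glSys chevF4 F).grp, b * s * b⁻¹ = dgU (zk F k) :=
  exists_conj_zk (ker_F4 _) orb_F4 (by
    simp only [List.forall_mem_cons, List.not_mem_nil, false_imp_iff, implies_true, and_true]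
    exact ⟨⟨_, _, _, _, _, _, _, ss_F4_0, base_F4_0⟩, ⟨_, _, _, _, _, _, _, ss_F4_3, base_F4_3⟩⟩) hs h2

/-- a node -/
def ndE8_0 : Ix chevE8 := ⟨0, by decide⟩
/-- a node -/
def ndE8_7 : Ix chevE8 := ⟨7, by decide⟩
/-- the highest root -/
def thE8 : Rt chevE8 := ⟨239, by decide⟩
theorem orb_E8 : certE8.chkOrb chevE8 ([ndE8_0, ndE8_7].map Fin.val) 887131573752990401486660891795018469943895458359369970898335707227068187309513355335347367122534353882937596077234920437134886578969997871365081202066860478424804720163504935565939253684427559309902259929229569507618959991871282309742509500246098520246233912343122516215445534630269395171390167338547135619531892766804257175666040897267264068808371533531465652332126037789930742417309597208561985443714640945592418787043191542611730049667460624883419432718874947241739648182561305787693489375392319528005214276350830956403549416550445809174416269417773445738654867318745225620949392005737565484570673566212954324992 24205389301237129884872711046762347852634235328041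656238228237909047079611713970951994401075491438489115284639773509984896563078233722903241115593596773465829385787145917869804074344915957895373351703801175016493781319731920889326096217009882258613730805011737393686388319995138835310465729093598017876206402952125944775238363010947842303155042068930893893285333749288169381150830784323822322215509005607598956418188889869580959784788417328994869052851451987795690713185319118543112521142411209415511529281326799436822231063591829396206947712846966596367614623987902413366600667566272693987019718954241280697818546176 1775245569369207252690219561602111462862479048023154335055920750616028093200088219889005521815119413218332750874381410906303574654447743783948760529385170491190908765924264605130742610810219591529439822087889483143054832693572272323833921745883105135220588946918082135242828305179660089931077999842442749428361558999993729016933526385832611230370910849508437852632368627205411912492563600106935432760964031711521410322622739715120314830101053315462093659612215009526661138804622911879558152604763523624751051582274197963205233895078777719269638021009629864886032579221046580298802980394875376992637233828971345739776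 = true := by decide +kernel
/-- the reflection in the highest root -/
def rtE8 : ℕ := 173113050616639126216137903171379964207528702525199308129348060203575831246651687792344349547666961171162065856063289936173858077712113458960684018033559892169617343410027228570892602057797198683612848574238476087736317450058492937610802415999006834874144994139471450858026030280257135950382425740801816937499837233488375454731310256731756476599846432778621475724860057018146388143790986122087157245270414349946976470854814876021233244120852101318989320902948075401889300025899281579199744193739497813525375138940584922121421071060558158503422902841663701056568288729378748655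
/-- coset representatives -/
def cosE8_0 : List (List ℕ × ℕ) := [([], 0), ([7, 6, 5, 4, 3, 2, 1, 3, 4, 5, 6, 7, 0], 13), ([7, 6, 5, 4, 3, 2, 1, 3, 4, 5, 6, 7, 0, 7], 12), ([7, 6, 5, 4, 3, 2, 1, 3, 4, 5, 6, 7, 0, 7, 6], 11), ([7, 6, 5, 4, 3, 2, 1, 3, 4, 5, 6, 7, 0, 7, 6, 5], 10), ([7, 6, 5, 4, 3, 2, 1, 3, 4, 5, 6, 7, 0, 7, 6, 5, 4], 9), ([7, 6, 5, 4, 3, 2, 1, 3, 4, 5, 6, 7, 0, 7, 6, 5, 4, 3], 8), ([7, 6, 5, 4, 3, 2, 1, 3, 4, 5, 6, 7, 0, 7, 6, 5, 4, 3, 1], 7), ([7, 6, 5, 4, 3, 2, 1, 3, 4, 5, 6, 7, 0, 7, 6, 5, 4, 3, 2], 7), ([7, 6, 5, 4, 3, 2, 1, 3, 4, 5, 6, 7, 0, 7, 6, 5, 4, 3, 1, 2], 6), ([7, 6, 5, 4, 3, 2, 1, 3, 4, 5, 6, 7, 0, 7, 6, 5, 4, 3, 1, 2, 3], 5), ([7, 6, 5, 4, 3, 2, 1, 3, 4, 5, 6, 7, 0, 7, 6, 5, 4, 3, 1, 2, 3, 4], 4), ([7, 6, 5, 4, 3, 2, 1, 3, 4, 5, 6, 7, 0, 7, 6, 5, 4, 3, 1, 2, 3, 4, 5], 3), ([7, 6, 5, 4, 3, 2, 1, 3, 4, 5, 6, 7, 0, 7, 6, 5, 4, 3, 1, 2, 3, 4, 5, 6], 2), ([7, 6, 5, 4, 3, 2, 1, 3, 4, 5, 6, 7, 0, 7, 6, 5, 4, 3, 1, 2, 3, 4, 5, 6, 7], 1), ([0, 7, 6, 5, 4, 3, 1, 2, 3, 4, 5, 6, 7, 0],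 14)]
theorem ss_E8_0 : certE8.chkSs chevE8 ndE8_0 thE8 rtE8 cosE8_0 [[1, 0, 0, 0, 0, 0, 0, 0], [1, 0, 0, 0, 0, 0, 0, -2], [1, 0, 0, 0, 0, 0, -2, 2], [1, 0, 0, 0, 0, -2, 2, 0], [1, 0, 0, 0, -2, 2, 0, 0], [1, 0, 0, -2, 2, 0, 0, 0], [1, -2, -2, 2, 0, 0, 0, 0], [1, 2, -2, 0, 0, 0, 0, 0], [-1, -2, 2, 0, 0, 0, 0, 0], [-1, 2, 2, -2, 0, 0, 0, 0], [-1, 0, 0, 2, -2, 0, 0, 0], [-1, 0, 0, 0, 2, -2, 0, 0], [-1, 0, 0, 0, 0, 2, -2, 0], [-1, 0, 0, 0, 0, 0, 2, -2], [-1, 0, 0, 0, 0, 0, 0, 2], [-1, 0, 0, 0, 0, 0, 0, 0]] = true := by decide +kernel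
theorem base_E8_0 : certE8.chkBase chevE8 ndE8_0 thE8 [[4, -2, -2, -4, -4, -4, -4, -4], [5, 1, 0, 0, -1, -2, -3, -4], [7, -1, 0, -2, -3, -4, -5, -6], [10, 0, 0, 0, -2, -4, -6, -8], [8, 0, 0, 0, 0, -2, -4, -6], [6, 0, 0, 0, 0, 0, -2, -4], [4, 0, 0, 0, 0, 0, 0, -2], [2, 0, 0, 0, 0, 0, 0, 0]] 254 56 = true := by decide +kernel
theorem step0_E8_0 : certE8.chkStep chevE8 (trivFD chevE8.rank) 254 126 13 94971145180789141405469863695884969990692470634685116742800956330585166286696033875105787408321105016172948848387979899381078776548058719274153038481919330076987462588432197778346974895637755344856609332899271782077461008182119361693275785914457910967149403472811089067095457018656127063791202559391107981952290497413671516189054715030212151457729925746607341068107450556036691253445520158175442766273106804460580598760425795931407058821363012979657287013264796313022267140908229491284859997425339970007394059640858536497878915778164024704513823058373890192070460316422941313804 = true := by decide +kernel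
theorem dep0_E8_0 : depths chevE8.nroots 94971145180789141405469863695884969990692470634685116742800956330585166286696033875105787408321105016172948848387979899381078776548058719274153038481919330076987462588432197778346974895637755344856609332899271782077461008182119361693275785914457910967149403472811089067095457018656127063791202559391107981952290497413671516189054715030212151457729925746607341068107450556036691253445520158175442766273106804460580598760425795931407058821363012979657287013264796313022267140908229491284859997425339970007394059640858536497878915778164024704513823058373890192070460316422941313804 = [12, 11, 10, 9, 8, 7, 6, 6, 5, 4, 3, 2, 1, 0] := by decide +kernel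
theorem sum0_E8_0 (t : ℤ) : (([12, 11, 10, 9, 8, 7, 6, 6, 5, 4, 3, 2, 1, 0] : List ℕ).map (t ^ ·)).sum = t ^ 0 + t ^ 1 + t ^ 2 + t ^ 3 + t ^ 4 + t ^ 5 + 2 * t ^ 6 + t ^ 7 + t ^ 8 + t ^ 9 + t ^ 10 + t ^ 11 + t ^ 12 := by
  simp only [List.map_cons, List.map_nil, List.sum_cons, List.sum_nil]; ring
theorem step1_E8_0 : certE8.chkStep chevE8 (trivFD chevE8.rank) 126 62 12 94971145180789141405469863695884969990692470634685116742800956330585166286696033875105787408321105016172948848387979899381078776548058719274153038481919330076987462588432197778346974895637755344856609332899271782077461008182119361693275785914457910967149403472811089067095457018656127063791202559391107981952290497413671516189054715030212151457729925746607341068107450556036691253445520158175442766273106804460580598760425795931407058821363012979657287013264796313022267140908229491284859997425339970007394059640858536497878915778164024704513828230308800262055627558564382968575 = true := by decide +kernel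
theorem dep1_E8_0 : depths chevE8.nroots 94971145180789141405469863695884969990692470634685116742800956330585166286696033875105787408321105016172948848387979899381078776548058719274153038481919330076987462588432197778346974895637755344856609332899271782077461008182119361693275785914457910967149403472811089067095457018656127063791202559391107981952290497413671516189054715030212151457729925746607341068107450556036691253445520158175442766273106804460580598760425795931407058821363012979657287013264796313022267140908229491284859997425339970007394059640858536497878915778164024704513828230308800262055627558564382968575 = [10, 9, 8, 7, 6, 5, 5, 4, 3, 2, 1, 0] := by decide +kernel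
theorem sum1_E8_0 (t : ℤ) : (([10, 9, 8, 7, 6, 5, 5, 4, 3, 2, 1, 0] : List ℕ).map (t ^ ·)).sum = t ^ 0 + t ^ 1 + t ^ 2 + t ^ 3 + t ^ 4 + 2 * t ^ 5 + t ^ 6 + t ^ 7 + t ^ 8 + t ^ 9 + t ^ 10 := by
  simp only [List.map_cons, List.map_nil, List.sum_cons, List.sum_nil]; ring
theorem card_E8_0 {F : Type*} [Field F] [Fintype F] [NeZero (2 : F)] : (Nat.card (Cz chevE8 F (dgU (zk F ndE8_0))) : ℤ) =
    (Fintype.card F : ℤ) ^ 56 * (((Fintype.card F : ℤ) ^ 2 - 1) * ((Fintype.card F : ℤ) ^ 4 - 1) * ((Fintype.card F : ℤ) ^ 6 - 1) * ((Fintype.card F : ℤ) ^ 8 - 1) * ((Fintype.card F : ℤ) ^ 8 - 1) * ((Fintype.card F : ℤ) ^ 10 - 1) * ((Fintype.card F : ℤ) ^ 12 - 1) * ((Fintype.card F : ℤ) ^ 14 - 1)) := by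
  rw [card_zk (ker_E8 _) ss_E8_0 base_E8_0, (desc_triv fd_E8).step step0_E8_0, dep0_E8_0, sum0_E8_0,
    (desc_triv fd_E8).step step1_E8_0, dep1_E8_0, sum1_E8_0,
    (desc_triv fd_E8).step step3_E8, dep3_E8, sum3_E8,
    (desc_triv fd_E8).step step4_E8, dep4_E8, sum4_E8,
    (desc_triv fd_E8).step step5_E8, dep5_E8, sum5_E8,
    (desc_triv fd_E8).step step6_E8, dep6_E8, sum6_E8,
    (desc_triv fd_E8).step step7_E8, dep7_E8, sum7_E8,
    MS_zero, Fold.P_empty, show chevE8.rank = 8 from rfl]
  simp only [cosE8_0, List.map_cons, List.map_nil, List.sum_cons, List.sum_nil]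
  ring
/-- coset representatives -/
def cosE8_7 : List (List ℕ × ℕ) := [([], 0), ([7], 1)]
theorem ss_E8_7 : certE8.chkSs chevE8 ndE8_7 thE8 rtE8 cosE8_7 [[0, 0, 0, 0, 0, 0, 0, 1], [0, 0, 0, 0, 0, 0, 0, -1]] = true := by decide +kernel
theorem base_E8_7 : certE8.chkBase chevE8 ndE8_7 thE8 [[4, 4, 6, 8, 6, 4, 2, 2], [4, 7, 8, 12, 9, 6, 3, 3], [6, 8, 12, 16, 12, 8, 4, 4], [8, 12, 16, 24, 18, 12, 6, 6], [6, 9, 12, 18, 15, 10, 5, 5], [4, 6, 8, 12, 10, 8, 4, 4], [2, 3, 4, 6, 5, 4, 3, 3], [0, 0, 0, 0, 0, 0, 0, 2]] 127 64 = true := by decide +kernel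
theorem card_E8_7 {F : Type*} [Field F] [Fintype F] [NeZero (2 : F)] : (Nat.card (Cz chevE8 F (dgU (zk F ndE8_7))) : ℤ) =
    (Fintype.card F : ℤ) ^ 64 * (((Fintype.card F : ℤ) ^ 2 - 1) * ((Fintype.card F : ℤ) ^ 2 - 1) * ((Fintype.card F : ℤ) ^ 6 - 1) * ((Fintype.card F : ℤ) ^ 8 - 1) * ((Fintype.card F : ℤ) ^ 10 - 1) * ((Fintype.card F : ℤ) ^ 12 - 1) * ((Fintype.card F : ℤ) ^ 14 - 1) * ((Fintype.card F : ℤ) ^ 18 - 1)) := by
  rw [card_zk (ker_E8 _) ss_E8_7 base_E8_7, (desc_triv fd_E8).step step1_E8, dep1_E8, sum1_E8,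
    (desc_triv fd_E8).step step2_E8, dep2_E8, sum2_E8,
    (desc_triv fd_E8).step step3_E8, dep3_E8, sum3_E8,
    (desc_triv fd_E8).step step4_E8, dep4_E8, sum4_E8,
    (desc_triv fd_E8).step step5_E8, dep5_E8, sum5_E8,
    (desc_triv fd_E8).step step6_E8, dep6_E8, sum6_E8,
    (desc_triv fd_E8).step step7_E8, dep7_E8, sum7_E8,
    MS_zero, Fold.P_empty, show chevE8.rank = 8 from rfl]
  simp only [cosE8_7, List.map_cons, List.map_nil, List.sum_cons, List.sum_nil]
  ring
theorem conj_E8 {F : Type*} [Field F] [Fintype F] [NeZero (2 : F)] {s : GL chevE8.Idx F}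
    (hs : s ∈ (glSys chevE8 F).grp) (h2 : orderOf s = 2) : ∃ k ∈ [ndE8_0, ndE8_7],
    ∃ b ∈ (glSys chevE8 F).grp, b * s * b⁻¹ = dgU (zk F k) :=
  exists_conj_zk (ker_E8 _) orb_E8 (by
    simp only [List.forall_mem_cons, List.not_mem_nil, false_imp_iff, implies_true, and_true]
    exact ⟨⟨_, _, _, _, _, _, _, ss_E8_0, base_E8_0⟩, ⟨_, _, _, _, _, _, _, ss_E8_7, base_E8_7⟩⟩) hs h2

end Cfsg.Agent.Chev
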